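import Cfsg.Agent.Lib.Perm.DlNine.Derived
import Cfsg.Agent.Lib.BaseThree.Main

/-!
A primitive action of a solvable group: a regular abelian image of a normal subgroup, four points which are
only fixed together by elements acting trivially.
-/

set_option autoImplicit false
set_option linter.style.haveILetI false

namespace CfsgLib.Perm.DlNine

open MulAction
open CfsgLib.BaseTwo (Inv CROn)
open scoped commutatorElement

universe u v

variable {A : Type u} {Ω : Type v} [Group A] [MulAction A Ω]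

/-- An equivalence preserved by the group. -/
def Stable (A : Type u) {Ω : Type v} [Group A] [MulAction A Ω] (r : Setoid Ω) : Prop :=
  ∀ (a : A) x y, r.r x y → r.r (a • x) (a • y)

/-- A transitive action without a proper stable equivalence. -/
structure Prim (A : Type u) (Ω : Type v) [Group A] [MulAction A Ω] : Prop where
  trans : ∀ x y : Ω, ∃ a : A, a • x = y
  stable : ∀ r : Setoid Ω, Stable A r → (∀ x y, r.r x y → x = y) ∨ ∀ x y, r.r x y

/-- A normal subgroup of a primitive group acts trivially or transitively. -/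
theorem Prim.fixes_or_transitive (hp : Prim A Ω) {M : Subgroup A} (hM : M.Normal) :
    Fixes M Ω ∨ ∀ x y : Ω, ∃ m ∈ M, m • x = y := by
  let r : Setoid Ω := MulAction.orbitRel M Ω
  have hr : Stable A r := by
    rintro a x y ⟨m, hm⟩
    refine ⟨⟨a * (m : A) * a⁻¹, hM.conj_mem _ m.2 a⟩, ?_⟩
    show (a * (m : A) * a⁻¹) • a • y = a • x
    rw [mul_smul, mul_smul, inv_smul_smul, show (m : A) • y = x from hm]
  rcases hp.stable r hr with h | h
  · exact Or.inl fun m hm x => h _ _ ⟨⟨m, hm⟩, rfl⟩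
  · refine Or.inr fun x y => ?_
    obtain ⟨m, hm⟩ := h y x
    exact ⟨m.1, m.2, hm⟩

/-- A normal subgroup which is abelian and transitive on the points. -/
structure RegPart (A : Type u) (Ω : Type v) [Group A] [MulAction A Ω] (M : Subgroup A) : Prop where
  normal : M.Normal
  trans : ∀ x y : Ω, ∃ m ∈ M, m • x = y
  comm : ∀ m ∈ M, ∀ n ∈ M, ∀ x : Ω, m • n • x = n • m • x

theorem RegPart.fix {M : Subgroup A} (h : RegPart A Ω M) {m : A} (hm : m ∈ M) {x : Ω} (hx : m • x = x)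
    (y : Ω) : m • y = y := by
  obtain ⟨n, hn, rfl⟩ := h.trans x y
  rw [h.comm m hm n hn, hx]

theorem Prim.exists_regPart [Finite A] (hA : Group.IsSolvable A) (hp : Prim A Ω)
    (hne : ∃ x y : Ω, x ≠ y) : ∃ M : Subgroup A, RegPart A Ω M := by
  classical
  have hex : ∃ n, Fixes (dser (⊤ : Subgroup A) n) Ω := by
    obtain ⟨n, hn⟩ := (Group.isSolvable_def A).1 hA
    refine ⟨n, fun a ha x => ?_⟩
    rw [dser_top, hn, Subgroup.mem_bot] at ha
    rw [ha, one_smul]
  have h0 : Nat.find hex ≠ 0 := by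
    intro h0
    have h := Nat.find_spec hex
    rw [h0, dser_zero] at h
    obtain ⟨x, y, hxy⟩ := hne
    obtain ⟨a, ha⟩ := hp.trans x y
    exact hxy ((h a trivial x).symm.trans ha)
  have hn : (dser (⊤ : Subgroup A) (Nat.find hex - 1)).Normal := by
    rw [dser_top]
    exact derivedSeries_normal A _
  refine ⟨_, hn, (hp.fixes_or_transitive hn).resolve_left (Nat.find_min hex (by omega)), ?_⟩
  intro m hm n hn x
  have h := Nat.find_spec hex ⁅m, n⁆ (by
    rw [show Nat.find hex = Nat.find hex - 1 + 1 by omega, dser_succ]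
    exact Subgroup.commutator_mem_commutator hm hn) (n • m • x)
  rw [← mul_smul, ← mul_smul, show ⁅m, n⁆ * n * m = m * n by rw [commutatorElement_def]; group,
    mul_smul] at h
  exact h

/-- A subgroup normalised by the stabiliser of a point inside the regular part acts trivially or transitively. -/
theorem RegPart.sub_cases {M : Subgroup A} (h : RegPart A Ω M) (hp : Prim A Ω) {ω : Ω} {K : Subgroup A}
    (hKM : K ≤ M) (hK : ∀ a : A, a • ω = ω → ∀ k ∈ K, a * k * a⁻¹ ∈ K) :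
    Fixes K Ω ∨ ∀ x y : Ω, ∃ k ∈ K, k • x = y := by
  let r : Setoid Ω :=
    { r := fun x y => ∃ k ∈ K, k • x = y
      iseqv := ⟨fun x => ⟨1, one_mem _, one_smul A x⟩, fun ⟨k, hk, e⟩ => ⟨k⁻¹, inv_mem hk, by
        rw [← e, inv_smul_smul]⟩, fun ⟨k, hk, e⟩ ⟨l, hl, e'⟩ => ⟨l * k, mul_mem hl hk, by
        rw [mul_smul, e, e']⟩⟩ }
  have hr : Stable A r := by
    rintro a x y ⟨k, hk, rfl⟩
    obtain ⟨m, hm, hma⟩ := h.trans ω (a • ω)
    have hb : (m⁻¹ * a) • ω = ω := by rw [mul_smul, ← hma, inv_smul_smul]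
    refine ⟨(m⁻¹ * a) * k * (m⁻¹ * a)⁻¹, hK _ hb k hk, ?_⟩
    have hc := h.comm _ (hKM (hK _ hb k hk)) m hm ((m⁻¹ * a) • x)
    rw [← mul_smul, ← mul_smul, ← mul_smul, ← mul_smul] at hc
    calc ((m⁻¹ * a) * k * (m⁻¹ * a)⁻¹) • a • x
        = ((m⁻¹ * a) * k * (m⁻¹ * a)⁻¹ * (m * (m⁻¹ * a))) • x := by rw [← mul_smul]; group
      _ = (m * ((m⁻¹ * a) * k * (m⁻¹ * a)⁻¹ * (m⁻¹ * a))) • x := by
        simpa only [mul_assoc] using hc
      _ = a • k • x := by rw [← mul_smul]; group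
  rcases hp.stable r hr with h' | h'
  · exact Or.inl fun k hk x => (h' x (k • x) ⟨k, hk, rfl⟩).symm
  · exact Or.inr h'

/-- The stabiliser of a point and a regular part generate the action. -/
theorem RegPart.decomp {M : Subgroup A} (h : RegPart A Ω M) (ω : Ω) (a : A) :
    ∃ m ∈ M, (m⁻¹ * a) • ω = ω := by
  obtain ⟨m, hm, hma⟩ := h.trans ω (a • ω)
  exact ⟨m, hm, by rw [mul_smul, ← hma, inv_smul_smul]⟩

/-- Derived length of the action from that of the stabiliser of a point. -/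
theorem RegPart.fixes_succ {M : Subgroup A} (h : RegPart A Ω M) {ω : Ω} {k : ℕ}
    (hk : Fixes (dser (stabilizer A ω) k) Ω) : Fixes (dser (⊤ : Subgroup A) (k + 1)) Ω := by
  haveI := h.normal
  let π := QuotientGroup.mk' M
  let φ := MulAction.toPermHom A Ω
  have htop : (⊤ : Subgroup A).map π = (stabilizer A ω).map π := by
    refine le_antisymm ?_ (Subgroup.map_mono le_top)
    rintro _ ⟨a, -, rfl⟩
    obtain ⟨m, hm, hma⟩ := h.decomp ω a
    refine ⟨m⁻¹ * a, mem_stabilizer_iff.2 hma, ?_⟩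
    rw [map_mul, map_inv, show π m = 1 from (QuotientGroup.eq_one_iff m).2 hm, inv_one, one_mul]
  have hle : dser (⊤ : Subgroup A) k ≤ M ⊔ φ.ker := by
    intro a ha
    obtain ⟨b, hb, hab⟩ : π a ∈ (dser (stabilizer A ω) k).map π := by
      rw [dser_map, ← htop, ← dser_map]
      exact ⟨a, ha, rfl⟩
    have hmem : b⁻¹ * a ∈ M := QuotientGroup.eq.1 hab
    have hbk : b ∈ φ.ker := MonoidHom.mem_ker.2 (Equiv.ext fun x => hk b hb x)
    have := Subgroup.mul_mem_sup hbk hmem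
    rw [mul_inv_cancel_left, sup_comm] at this
    exact this
  refine fun a ha => fixes_dser_one (S := M ⊔ φ.ker) (Ω := Ω) ?_ a
    (Subgroup.commutator_mono hle hle (by rw [dser_succ] at ha; exact ha))
  intro a ha b hb x
  rw [← SetLike.mem_coe, Subgroup.normal_mul] at ha hb
  obtain ⟨m, hm, g, hg, rfl⟩ := Set.mem_mul.1 ha
  obtain ⟨n, hn, g', hg', rfl⟩ := Set.mem_mul.1 hb
  have e : ∀ {g : A}, g ∈ φ.ker → ∀ y : Ω, g • y = y := fun hg y =>
    congrArg (fun π : Equiv.Perm Ω => π y) (MonoidHom.mem_ker.1 hg)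
  simp only [mul_smul, e hg, e hg']
  exact h.comm m hm n hn x

/-- Four points fixed together only by the kernel of a primitive action. -/
theorem Prim.exists_base [Finite A] [Finite Ω] (hA : Group.IsSolvable A) (hp : Prim A Ω)
    (hne : ∃ x y : Ω, x ≠ y) :
    ∃ q : Fin 4 → Ω, ∀ a : A, (∀ i, a • q i = q i) → ∀ x : Ω, a • x = x := by
  classical
  obtain ⟨M, hM⟩ := hp.exists_regPart hA hne
  haveI := hM.normal
  obtain ⟨ω, -, -⟩ := hne
  let φ := MulAction.toPermHom A Ω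
  let R : Subgroup (Equiv.Perm Ω) := M.map φ
  have hRc : ∀ x ∈ R, ∀ y ∈ R, x * y = y * x := by
    rintro _ ⟨m, hm, rfl⟩ _ ⟨n, hn, rfl⟩
    exact Equiv.ext fun x => hM.comm m hm n hn x
  have hRn : ∀ (a : A), ∀ x ∈ R, φ a * x * (φ a)⁻¹ ∈ R := by
    rintro a _ ⟨m, hm, rfl⟩
    exact ⟨a * m * a⁻¹, hM.normal.conj_mem m hm a, by simp [map_mul, map_inv]⟩
  let H : Subgroup (Equiv.Perm Ω) := (stabilizer A ω).map φ
  have hHn : ∀ g ∈ H, ∀ x ∈ R, g * x * g⁻¹ ∈ R := by
    rintro _ ⟨a, -, rfl⟩ x hx; exact hRn a x hx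
  have hHω : ∀ g ∈ H, g ω = ω := by
    rintro _ ⟨a, ha, rfl⟩; exact ha
  letI : CommGroup R := { (inferInstance : Group R) with mul_comm := fun x y => Subtype.ext (hRc x x.2 y y.2) }
  letI : DistribMulAction H (Additive R) :=
    { smul := fun g x => Additive.ofMul ⟨(g : Equiv.Perm Ω) * (x.toMul : R) * (g : Equiv.Perm Ω)⁻¹,
        hHn _ g.2 _ x.toMul.2⟩
      one_smul := fun x => Additive.toMul.injective (Subtype.ext
        (show (1 : Equiv.Perm Ω) * _ * (1 : Equiv.Perm Ω)⁻¹ = _ by simp))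
      mul_smul := fun a b x => Additive.toMul.injective (Subtype.ext
        (show ((a : Equiv.Perm Ω) * b) * _ * ((a : Equiv.Perm Ω) * b)⁻¹ =
          (a : Equiv.Perm Ω) * ((b : Equiv.Perm Ω) * _ * (b : Equiv.Perm Ω)⁻¹) * (a : Equiv.Perm Ω)⁻¹ by group))
      smul_zero := fun a => Additive.toMul.injective (Subtype.ext
        (show (a : Equiv.Perm Ω) * (1 : Equiv.Perm Ω) * (a : Equiv.Perm Ω)⁻¹ = 1 by group))
      smul_add := fun a x y => Additive.toMul.injective (Subtype.ext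
        (show (a : Equiv.Perm Ω) * ((x.toMul : R) * (y.toMul : R) : Equiv.Perm Ω) * (a : Equiv.Perm Ω)⁻¹ =
          ((a : Equiv.Perm Ω) * (x.toMul : R) * (a : Equiv.Perm Ω)⁻¹) *
            ((a : Equiv.Perm Ω) * (y.toMul : R) * (a : Equiv.Perm Ω)⁻¹) by group)) }
  have hmove : ∀ g ∈ H, ∀ x ∈ R, (g * x * g⁻¹) ω = g (x ω) := by
    intro g hg x _
    rw [Equiv.Perm.mul_apply, Equiv.Perm.mul_apply, Equiv.Perm.inv_eq_iff_eq.2 (hHω g hg).symm]
  have hinj : ∀ x ∈ R, ∀ y ∈ R, x ω = y ω → x = y := by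
    rintro _ ⟨m, hm, rfl⟩ _ ⟨n, hn, rfl⟩ he
    have hfix := hM.fix (mul_mem (inv_mem hn) hm) (x := ω) (by
      rw [mul_smul, show m • ω = n • ω from he, inv_smul_smul])
    refine Equiv.ext fun z => ?_
    have h := congrArg (fun z => n • z) (hfix z)
    rwa [← mul_smul, mul_inv_cancel_left] at h
  have hHs : Group.IsSolvable H :=
    haveI := hA
    Group.isSolvable_of_surjective (φ.subgroupMap_surjective (stabilizer A ω))
  haveI : FaithfulSMul H (Additive R) := ⟨fun {g g'} he => by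
    refine Subtype.ext (Equiv.ext fun x => ?_)
    obtain ⟨m, hm, rfl⟩ := hM.trans ω x
    have h' := congrArg (fun z : Additive R => ((z.toMul : R) : Equiv.Perm Ω) ω)
      (he (Additive.ofMul ⟨φ m, m, hm, rfl⟩))
    change ((g : Equiv.Perm Ω) * φ m * (g : Equiv.Perm Ω)⁻¹) ω = ((g' : Equiv.Perm Ω) * φ m * (g' : Equiv.Perm Ω)⁻¹) ω at h'
    rw [hmove _ g.2 _ ⟨m, hm, rfl⟩, hmove _ g'.2 _ ⟨m, hm, rfl⟩] at h'
    exact h'⟩
  have hcr : CROn (⊤ : Subgroup H) (⊤ : AddSubgroup (Additive R)) := by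
    intro U _ hU
    let K : Subgroup A := M ⊓ ((U.toSubgroup').map R.subtype).comap φ
    have hK : ∀ a : A, a • ω = ω → ∀ k ∈ K, a * k * a⁻¹ ∈ K := by
      rintro a ha k ⟨hkM, ⟨x, hx, e⟩⟩
      refine ⟨hM.normal.conj_mem k hkM a, ?_⟩
      have := hU (⟨φ a, a, ha, rfl⟩ : H) trivial (Additive.ofMul x) hx
      refine ⟨Additive.toMul ((⟨φ a, a, ha, rfl⟩ : H) • Additive.ofMul x), this, ?_⟩
      show φ a * (x : Equiv.Perm Ω) * (φ a)⁻¹ = φ (a * k * a⁻¹)
      rw [show (x : Equiv.Perm Ω) = φ k from e, map_mul, map_mul, map_inv]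
    have hcases : U = ⊥ ∨ U = ⊤ := by
      rcases hM.sub_cases hp inf_le_left hK with h | h
      · refine Or.inl ((AddSubgroup.eq_bot_iff_forall _).2 fun x hx => ?_)
        obtain ⟨m, hm, hmx⟩ := x.toMul.2
        refine Additive.toMul.injective (Subtype.ext (hmx.symm.trans (Equiv.ext fun z => ?_)))
        exact h m ⟨hm, ⟨x.toMul, hx, hmx.symm⟩⟩ z
      · refine Or.inr (eq_top_iff.2 fun x _ => ?_)
        obtain ⟨k, ⟨-, y, hy, e⟩, hkω⟩ := h ω (((x.toMul : R) : Equiv.Perm Ω) ω)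
        have e2 : x.toMul = y := Subtype.ext (hinj _ x.toMul.2 _ y.2 (by
          rw [← hkω]
          exact congrArg (fun π : Equiv.Perm Ω => π ω) e.symm))
        show Additive.ofMul x.toMul ∈ U
        rw [e2]
        exact hy
    rcases hcases with rfl | rfl
    · exact ⟨⊤, le_rfl, fun _ _ _ _ => trivial, bot_inf_eq _, bot_sup_eq _⟩
    · exact ⟨⊥, bot_le, fun a _ x hx => by rw [AddSubgroup.mem_bot] at hx ⊢; rw [hx, smul_zero],
        inf_bot_eq _, sup_bot_eq _⟩
  obtain ⟨v1, v2, v3, hv⟩ := CfsgLib.BaseThree.exists_three (A := H) (V := Additive R) hHs hcr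
  refine ⟨![ω, (v1.toMul : Equiv.Perm Ω) ω, (v2.toMul : Equiv.Perm Ω) ω, (v3.toMul : Equiv.Perm Ω) ω],
    fun a ha x => ?_⟩
  have haω : a • ω = ω := ha 0
  have key : ∀ v : Additive R, φ a ((v.toMul : Equiv.Perm Ω) ω) = (v.toMul : Equiv.Perm Ω) ω →
      (⟨φ a, a, haω, rfl⟩ : H) • v = v := by
    intro v hva
    refine Additive.toMul.injective (Subtype.ext (hinj _ ?_ _ v.toMul.2 ?_))
    · exact Subtype.prop _
    show (φ a * (v.toMul : Equiv.Perm Ω) * (φ a)⁻¹) ω = _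
    rw [hmove _ ⟨a, haω, rfl⟩ _ v.toMul.2, hva]
  have h1 := hv ⟨φ a, a, haω, rfl⟩ (key v1 (ha 1)) (key v2 (ha 2)) (key v3 (ha 3))
  exact congrArg (fun g : H => (g : Equiv.Perm Ω) x) h1

end CfsgLib.Perm.DlNine
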