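import Cfsg.Agent.Lib.Perm.DlNine.Colour
import Cfsg.Agent.Lib.ClassNumberPSq.Blocks

/-!
Systems of blocks given by orthogonal idempotents, and one on whose blocks the group acts primitively.
-/

set_option autoImplicit false
set_option linter.style.haveILetI false

namespace CfsgLib.Perm.DlNine

open CfsgLib.BaseTwo (Inv Irr scalars conjEnd conjEnd_apply conjEnd_one conjEnd_mul conjEnd_mem_scalars scalars_comm)
open CfsgLib.ClassPSq (exists_primitive)
open MulAction

universe u

variable {A V : Type u} [Group A] [AddCommGroup V] [DistribMulAction A V]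

/-- Orthogonal idempotents with sum one, permuted by the group. -/
structure System (A V Q : Type u) [Group A] [AddCommGroup V] [DistribMulAction A V] [Fintype Q] [MulAction A Q] where
  P : Q → AddMonoid.End V
  ne : ∀ q, P q ≠ 0
  idem : ∀ q, P q * P q = P q
  orth : ∀ q r, q ≠ r → P q * P r = 0
  sum : ∀ x, ∑ q, P q x = x
  equiv : ∀ (a : A) q x, P (a • q) (a • x) = a • P q x

/-- An abelian normal subgroup which is not a field gives blocks. -/
theorem exists_system [Finite A] [Finite V] (hirr : Irr A V) {U : Subgroup A} (hU : U.Normal)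
    (hUc : ∀ x ∈ U, ∀ y ∈ U, x * y = y * x)
    (hno : ¬ ∀ s ∈ scalars V U, s ≠ 0 → ∃ s' ∈ scalars V U, s * s' = 1) :
    ∃ (Ω : Type u) (_ : Fintype Ω) (_ : MulAction A Ω) (_ : System A V Ω),
      (∀ x y : Ω, ∃ a : A, a • x = y) ∧ ∃ x y : Ω, x ≠ y := by
  classical
  obtain ⟨e, he, hee, he0, he1, hprim⟩ := exists_primitive hirr hU hUc hno
  haveI : Finite (AddMonoid.End V) :=
    Finite.of_injective (fun f => (f : V → V)) DFunLike.coe_injective
  let Ω := Set.range fun a : A => conjEnd (V := V) a e
  letI : MulAction A Ω :=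
    { smul := fun a i => ⟨conjEnd a i.1, by
        obtain ⟨b, hb⟩ := i.2
        exact ⟨a * b, show conjEnd (a * b) e = _ by rw [conjEnd_mul]; exact congrArg _ hb⟩⟩
      one_smul := fun i => Subtype.ext (conjEnd_one i.1)
      mul_smul := fun a b i => Subtype.ext (conjEnd_mul a b i.1) }
  haveI : Fintype Ω := Fintype.ofFinite Ω
  have hmemS : ∀ i : Ω, (i : AddMonoid.End V) ∈ scalars V U := by
    rintro ⟨_, a, rfl⟩; exact conjEnd_mem_scalars hU a he
  have hidem : ∀ i : Ω, (i : AddMonoid.End V) * i = i := by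
    rintro ⟨_, a, rfl⟩
    show conjEnd a e * conjEnd a e = conjEnd a e
    rw [← map_mul, hee]
  have hback : ∀ (a : A) (f : AddMonoid.End V), conjEnd a (conjEnd a⁻¹ f) = f := fun a f => by
    rw [← conjEnd_mul, mul_inv_cancel, conjEnd_one]
  have hne : ∀ i : Ω, (i : AddMonoid.End V) ≠ 0 := by
    rintro ⟨_, a, rfl⟩ h0
    have h : conjEnd a⁻¹ (conjEnd (V := V) a e) = 0 := by rw [show conjEnd a e = 0 from h0, map_zero]
    rw [← conjEnd_mul, inv_mul_cancel, conjEnd_one] at h
    exact he0 h
  have hpr : ∀ i : Ω, ∀ f ∈ scalars V U, f * f = f → f * i.1 = f → f = 0 ∨ f = i.1 := by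
    rintro ⟨_, a, rfl⟩ f hf hff hfe
    have h := hprim (conjEnd a⁻¹ f) (conjEnd_mem_scalars hU _ hf) (by rw [← map_mul, hff]) (by
      have h := congrArg (conjEnd (V := V) a⁻¹) hfe
      rwa [map_mul, ← conjEnd_mul, inv_mul_cancel, conjEnd_one] at h)
    rcases h with h | h
    · left; rw [← hback a f, h, map_zero]
    · right; show f = conjEnd a e; rw [← hback a f, h]
  have horth : ∀ i j : Ω, i ≠ j → (i : AddMonoid.End V) * j = 0 := by
    intro i j hij
    have hc := scalars_comm hUc (hmemS i) (hmemS j)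
    have hff : (i : AddMonoid.End V) * j * (i.1 * j.1) = i.1 * j.1 := by
      rw [show (i : AddMonoid.End V) * j * (i.1 * j.1) = i.1 * (j.1 * i.1) * j.1 by
        simp only [mul_assoc], ← hc, ← mul_assoc i.1, hidem i, mul_assoc, hidem j]
    have hS := mul_mem (hmemS i) (hmemS j)
    rcases hpr j _ hS hff (by rw [mul_assoc, hidem j]) with h | h
    · exact h
    rcases hpr i _ hS hff (by rw [mul_assoc, ← hc, ← mul_assoc, hidem i]) with h' | h'
    · exact h'
    exact absurd (Subtype.ext (h'.symm.trans h)) hij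
  let i₀ : Ω := ⟨e, 1, conjEnd_one e⟩
  have htr : ∀ i : Ω, ∃ a : A, a • i₀ = i := by
    rintro ⟨_, a, rfl⟩; exact ⟨a, rfl⟩
  have hsmul : ∀ (a : A) (i : Ω) (x : V), (a • i).1 (a • x) = a • i.1 x := fun a i x => by
    show conjEnd a i.1 (a • x) = _
    rw [conjEnd_apply, inv_smul_smul]
  have hsum : ∀ x : V, ∑ i : Ω, i.1 x = x := by
    let W : AddSubgroup V :=
      { carrier := {x | ∑ i : Ω, i.1 x = x}
        zero_mem' := by simp
        add_mem' := fun {x y} hx hy => by
          show ∑ i : Ω, i.1 (x + y) = x + y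
          simp only [map_add, Finset.sum_add_distrib]
          rw [hx, hy]
        neg_mem' := fun {x} hx => by
          show ∑ i : Ω, i.1 (-x) = -x
          simp only [map_neg, Finset.sum_neg_distrib]
          rw [hx] }
    have hW : Inv (⊤ : Subgroup A) W := by
      intro a _ x hx
      show ∑ i : Ω, i.1 (a • x) = a • x
      rw [← Equiv.sum_comp (MulAction.toPerm a : Equiv.Perm Ω) fun i => i.1 (a • x)]
      simp only [MulAction.toPerm_apply, hsmul, ← Finset.smul_sum]
      rw [show ∑ i : Ω, i.1 x = x from hx]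
    obtain ⟨x, hx⟩ : ∃ x, e x ≠ 0 := by
      by_contra hno
      push Not at hno
      exact he0 (DFunLike.ext _ _ hno)
    have hmem : e x ∈ W := by
      show ∑ i : Ω, i.1 (e x) = e x
      rw [Finset.sum_eq_single i₀]
      · exact DFunLike.congr_fun hee x
      · exact fun i _ hi => DFunLike.congr_fun (horth i i₀ hi) x
      · exact fun h => absurd (Finset.mem_univ _) h
    rcases hirr W hW with h | h
    · rw [h, AddSubgroup.mem_bot] at hmem; exact absurd hmem hx
    · intro y; exact (show y ∈ W by rw [h]; trivial)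
  refine ⟨Ω, inferInstance, inferInstance, ⟨fun i => i.1, hne, hidem, horth, hsum, hsmul⟩, fun x y => ?_, ?_⟩
  · obtain ⟨a, rfl⟩ := htr x
    obtain ⟨b, rfl⟩ := htr y
    exact ⟨b * a⁻¹, by rw [mul_smul, inv_smul_smul]⟩
  · by_contra h
    push Not at h
    refine he1 (DFunLike.ext _ _ fun y => ?_)
    have h' := hsum y
    rw [Finset.sum_eq_single i₀ (fun i _ hi => absurd (h i i₀) hi)
      (fun hh => absurd (Finset.mem_univ _) hh)] at h'
    exact h'

theorem end_sum_apply {ι : Type*} (s : Finset ι) (F : ι → AddMonoid.End V) (x : V) :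
    (∑ i ∈ s, F i) x = ∑ i ∈ s, F i x := by
  classical
  induction s using Finset.induction_on with
  | empty => simp
  | insert i s hi ih =>
    rw [Finset.sum_insert hi, Finset.sum_insert hi, ← ih]
    rfl

/-- The blocks of a system can be united along a map of the indices. -/
noncomputable def System.coarse {Ω Q : Type u} [Fintype Ω] [MulAction A Ω] [Fintype Q] [MulAction A Q]
    [DecidableEq Q] (Y : System A V Ω) (f : Ω → Q) (hf : ∀ (a : A) x, f (a • x) = a • f x)
    (hs : Function.Surjective f) : System A V Q where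
  P q := ∑ i ∈ Finset.univ.filter (fun i => f i = q), Y.P i
  ne q h := by
    classical
    obtain ⟨i, rfl⟩ := hs q
    refine Y.ne i ?_
    have h' := congrArg (fun z => Y.P i * z) h
    rw [mul_zero, Finset.mul_sum, Finset.sum_eq_single i (fun j _ hj => Y.orth i j (Ne.symm hj))
      (fun hh => absurd (by simp) hh), Y.idem] at h'
    exact h'
  idem q := by
    classical
    rw [Finset.sum_mul]
    refine Finset.sum_congr rfl fun i hi => ?_
    rw [Finset.mul_sum, Finset.sum_eq_single i (fun j _ hj => Y.orth i j (Ne.symm hj))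
      (fun hh => absurd hi hh), Y.idem]
  orth q r hqr := by
    rw [Finset.sum_mul]
    refine Finset.sum_eq_zero fun i hi => ?_
    rw [Finset.mul_sum]
    refine Finset.sum_eq_zero fun j hj => Y.orth i j fun e => hqr ?_
    rw [← (Finset.mem_filter.1 hi).2, ← (Finset.mem_filter.1 hj).2, e]
  sum x := by
    simp only [end_sum_apply]
    rw [Finset.sum_fiberwise Finset.univ f fun i => Y.P i x, Y.sum]
  equiv a q x := by
    simp only [end_sum_apply, Finset.smul_sum]
    refine Finset.sum_nbij' (fun i => a⁻¹ • i) (fun i => a • i) ?_ ?_ ?_ ?_ ?_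
    · intro i hi
      rw [Finset.mem_filter] at hi ⊢
      refine ⟨Finset.mem_univ _, ?_⟩
      rw [hf, hi.2, inv_smul_smul]
    · intro i hi
      rw [Finset.mem_filter] at hi ⊢
      refine ⟨Finset.mem_univ _, ?_⟩
      rw [hf, hi.2]
    · exact fun i _ => smul_inv_smul a i
    · exact fun i _ => inv_smul_smul a i
    · intro i _
      rw [← Y.equiv, smul_inv_smul]

/-- Blocks on which the group acts primitively. -/
theorem exists_prim_system [Finite A] [Finite V] (hirr : Irr A V) {U : Subgroup A} (hU : U.Normal)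
    (hUc : ∀ x ∈ U, ∀ y ∈ U, x * y = y * x)
    (hno : ¬ ∀ s ∈ scalars V U, s ≠ 0 → ∃ s' ∈ scalars V U, s * s' = 1) :
    ∃ (Q : Type u) (_ : Fintype Q) (_ : MulAction A Q) (_ : System A V Q), Prim A Q ∧ ∃ x y : Q, x ≠ y := by
  classical
  obtain ⟨Ω, _, _, Y, htr, hne⟩ := exists_system hirr hU hUc hno
  obtain ⟨Q, _, f, hfin, hs, hf, hp, hQ⟩ := exists_prim_quotient (A := A) htr hne
  haveI := Fintype.ofFinite Q
  exact ⟨Q, inferInstance, inferInstance, Y.coarse f hf hs, hp, hQ⟩

end CfsgLib.Perm.DlNine
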