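import Cfsg.Agent.Lib.Perm.DlNine.Defs
import Cfsg.Agent.Lib.Perm.DlNine.System

/-!
Vectors of one block and colourings of the blocks give orbits of the whole group.
-/

set_option autoImplicit false
set_option linter.style.haveILetI false

namespace CfsgLib.Perm.DlNine

open CfsgLib.BaseTwo (Inv Irr)
open CfsgLib.DlNine (DlLE Orbits State StateHyp)
open MulAction

universe u

variable {A V Q : Type u} [Group A] [AddCommGroup V] [DistribMulAction A V] [Fintype Q] [MulAction A Q]

/-- Vectors of the block `q₀` in different orbits, with stabilisers of bounded derived length on the block. -/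
def BlockVectors (Y : System A V Q) (q₀ : Q) (k n : ℕ) : Prop :=
  ∃ g : Fin k → V, (∀ i, Y.P q₀ (g i) = g i) ∧ (∀ i j (a : A), a • q₀ = q₀ → a • g i = g j → i = j) ∧
    ∀ i, ∀ a ∈ dser (stabilizer A q₀ ⊓ stabilizer A (g i)) n, ∀ w : V, Y.P q₀ w = w → a • w = w

/-- The group induced on a block has the state. -/
theorem System.blockVectors [Finite A] [Finite V] (hA : Group.IsSolvable A)
    (hS : StateHyp.{u} (Nat.card A - 1)) (hirr : Irr A V) (Y : System A V Q) (q₀ : Q)
    (hmove : ∃ a : A, a • q₀ ≠ q₀) :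
    BlockVectors Y q₀ 5 9 ∨ BlockVectors Y q₀ 4 8 ∨ BlockVectors Y q₀ 3 7 ∨ BlockVectors Y q₀ 2 6 := by
  classical
  let S₀ := stabilizer A q₀
  let W₀ : AddSubgroup V :=
    { carrier := {x | Y.P q₀ x = x}
      zero_mem' := map_zero _
      add_mem' := fun {x y} hx hy => by
        show Y.P q₀ (x + y) = x + y
        rw [map_add, show Y.P q₀ x = x from hx, show Y.P q₀ y = y from hy]
      neg_mem' := fun {x} hx => by
        show Y.P q₀ (-x) = -x
        rw [map_neg, show Y.P q₀ x = x from hx] }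
  have hW₀ : ∀ a ∈ S₀, ∀ x ∈ W₀, a • x ∈ W₀ := fun a ha x hx => by
    show Y.P q₀ (a • x) = a • x
    conv_lhs => rw [show q₀ = a • q₀ from (mem_stabilizer_iff.1 ha).symm]
    rw [Y.equiv, show Y.P q₀ x = x from hx]
  letI : DistribMulAction S₀ W₀ :=
    { smul := fun a w => ⟨(a : A) • (w : V), hW₀ a a.2 w w.2⟩
      one_smul := fun w => Subtype.ext (one_smul _ _)
      mul_smul := fun a b w => Subtype.ext (mul_smul _ _ _)
      smul_zero := fun a => Subtype.ext (smul_zero _)
      smul_add := fun a v w => Subtype.ext (smul_add _ _ _) }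
  let φ : S₀ →* (AddMonoid.End W₀)ˣ := (DistribMulAction.toAddMonoidEnd S₀ W₀).toHomUnits
  haveI : Finite φ.range := Finite.of_surjective _ φ.rangeRestrict_surjective
  haveI := hA
  have hlt : Nat.card φ.range ≤ Nat.card A - 1 := by
    have h1 : Nat.card φ.range ≤ Nat.card S₀ :=
      Nat.le_of_dvd Nat.card_pos (Subgroup.card_range_dvd φ)
    have h2 : Nat.card S₀ < Nat.card A := by
      refine lt_of_le_of_ne (Subgroup.card_le_card_group S₀) fun h => ?_
      obtain ⟨a, ha⟩ := hmove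
      exact ha (mem_stabilizer_iff.1 (by rw [(Subgroup.card_eq_iff_eq_top S₀).1 h]; trivial : a ∈ S₀))
    omega
  have hirr' : Irr φ.range W₀ := by
    intro Z hZ
    let X : AddSubgroup V := ⨆ a : A, (Z.map W₀.subtype).map (DistribSMul.toAddMonoidHom V a)
    have hX : Inv (⊤ : Subgroup A) X := by
      intro b _ x hx
      have : X ≤ X.comap (DistribSMul.toAddMonoidHom V b) := iSup_le fun a => by
        rintro _ ⟨y, hy, rfl⟩
        refine AddSubgroup.mem_iSup_of_mem (b * a) ⟨y, hy, ?_⟩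
        simp [mul_smul]
      exact this hx
    rcases hirr X hX with h | h
    · refine Or.inl ((AddSubgroup.eq_bot_iff_forall _).2 fun y hy => Subtype.ext ?_)
      have h' : (1 : A) • (y : V) ∈ X :=
        AddSubgroup.mem_iSup_of_mem 1 ⟨y, ⟨y, hy, rfl⟩, rfl⟩
      rwa [h, AddSubgroup.mem_bot, one_smul] at h'
    · refine Or.inr (eq_top_iff.2 fun x _ => ?_)
      have hXZ : X ≤ (Z.map W₀.subtype).comap (Y.P q₀) := iSup_le fun a => by
        rintro _ ⟨_, ⟨y, hy, rfl⟩, rfl⟩
        show Y.P q₀ (a • (y : V)) ∈ Z.map W₀.subtype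
        by_cases ha : a ∈ S₀
        · rw [show Y.P q₀ (a • (y : V)) = a • (y : V) from hW₀ a ha _ y.2]
          exact ⟨_, hZ ⟨φ ⟨a, ha⟩, ⟨a, ha⟩, rfl⟩ trivial y hy, rfl⟩
        · have h1 : a • (y : V) = Y.P (a • q₀) (a • (y : V)) := by
            rw [Y.equiv]; exact congrArg _ y.2.symm
          rw [h1, show Y.P q₀ (Y.P (a • q₀) (a • (y : V))) = (Y.P q₀ * Y.P (a • q₀)) (a • (y : V)) from rfl,
            Y.orth q₀ (a • q₀) fun hh => ha hh.symm]
          exact zero_mem _
      have h' : Y.P q₀ (x : V) ∈ Z.map W₀.subtype := hXZ (show (x : V) ∈ X by rw [h]; trivial)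
      rw [show Y.P q₀ (x : V) = x from x.2] at h'
      obtain ⟨y, hy, hyx⟩ := h'
      rwa [show y = x from Subtype.ext hyx] at hy
  have hnt : Nontrivial W₀ := by
    obtain ⟨x, hx⟩ : ∃ x, Y.P q₀ x ≠ 0 := by
      by_contra h
      push Not at h
      exact Y.ne q₀ (DFunLike.ext _ _ h)
    exact ⟨⟨⟨Y.P q₀ x, DFunLike.congr_fun (Y.idem q₀) x⟩, 0, fun e => hx (congrArg Subtype.val e)⟩⟩
  have key : ∀ {k n : ℕ}, Orbits φ.range W₀ k n → BlockVectors Y q₀ k n := by
    rintro k n ⟨f, hf, hinj⟩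
    refine ⟨fun i => f i, fun i => (f i).2, fun i j a ha h => hinj i j ⟨φ ⟨a, ha⟩, _, rfl⟩ (Subtype.ext h), ?_⟩
    intro i a ha w hw
    let M : Subgroup S₀ := (stabilizer A q₀ ⊓ stabilizer A (f i : V)).subgroupOf S₀
    have hM : M.map S₀.subtype = stabilizer A q₀ ⊓ stabilizer A (f i : V) := by
      rw [Subgroup.subgroupOf_map_subtype]
      exact inf_eq_left.2 inf_le_left
    rw [← hM, ← dser_map] at ha
    obtain ⟨b, hb, rfl⟩ := ha
    have h0 : dser (stabilizer φ.range (f i)) n = ⊥ := derivedSeries_eq_bot_iff.1 (hf i)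
    have hle : M.map φ.rangeRestrict ≤ stabilizer φ.range (f i) := by
      rintro _ ⟨m, hm, rfl⟩
      exact Subtype.ext (mem_stabilizer_iff.1 (Subgroup.mem_subgroupOf.1 hm).2)
    have hb' : φ.rangeRestrict b = 1 := by
      rw [← Subgroup.mem_bot, ← h0]
      refine dser_mono hle n ?_
      rw [← dser_map]
      exact ⟨b, hb, rfl⟩
    have h2 := congrArg (fun h : φ.range => ((h • (⟨w, hw⟩ : W₀) : W₀) : V)) hb'
    simp only [one_smul] at h2
    exact h2
  rcases hS φ.range W₀ hlt (Group.isSolvable_of_surjective φ.rangeRestrict_surjective)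
      (by
        rintro ⟨_, s, rfl⟩ h
        exact Subtype.ext (Units.ext (DFunLike.ext _ _ fun w => h w)))
      hirr' hnt with h | h | h | h
  · exact Or.inl (key h)
  · exact Or.inr (Or.inl (key h))
  · exact Or.inr (Or.inr (Or.inl (key h)))
  · exact Or.inr (Or.inr (Or.inr (key h)))

/-- Vectors of a block spread along colourings of the blocks. -/
theorem BlockVectors.orbits {Y : System A V Q} {q₀ : Q} {k n c m : ℕ} (hB : BlockVectors Y q₀ k n)
    (htr : ∀ x y : Q, ∃ a : A, a • x = y) (hfaith : ∀ a : A, (∀ v : V, a • v = v) → a = 1)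
    (hC : Classes A Q k c m) : Orbits A V m (c + n) := by
  classical
  obtain ⟨g, hg, hinj, hfix⟩ := hB
  obtain ⟨col, hcol, hcfix⟩ := hC
  choose t ht using fun q => htr q₀ q
  let v : Fin m → V := fun j => ∑ q, t q • g (col j q)
  have hblock : ∀ q l, Y.P q (t q • g l) = t q • g l := fun q l => by
    conv_lhs => rw [show q = t q • q₀ from (ht q).symm]
    rw [ht, show Y.P q (t q • g l) = Y.P (t q • q₀) (t q • g l) by rw [ht], Y.equiv, hg]
  have hcomp : ∀ j r, Y.P r (v j) = t r • g (col j r) := by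
    intro j r
    rw [map_sum, Finset.sum_eq_single r]
    · exact hblock r _
    · intro q _ hne
      rw [← hblock q, show Y.P r (Y.P q (t q • g (col j q))) = (Y.P r * Y.P q) (t q • g (col j q)) from rfl,
        Y.orth r q hne.symm]
      rfl
    · exact fun h => absurd (Finset.mem_univ _) h
  have hstab : ∀ (a : A) q, ((t (a • q))⁻¹ * a * t q) • q₀ = q₀ := fun a q => by
    rw [mul_smul, mul_smul, ht, inv_smul_eq_iff, ht]
  have hrel : ∀ (a : A) i j, a • v i = v j → ∀ q,
      ((t (a • q))⁻¹ * a * t q) • g (col i q) = g (col j (a • q)) := by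
    intro a i j h q
    have h1 := Y.equiv a q (v i)
    rw [h, hcomp, hcomp] at h1
    rw [mul_smul, mul_smul, ← h1, inv_smul_smul]
  have hlab : ∀ (a : A) i j, a • v i = v j → ∀ q, col j (a • q) = col i q := fun a i j h q =>
    (hinj _ _ _ (hstab a q) (hrel a i j h q)).symm
  refine ⟨v, fun j => derivedSeries_eq_bot_iff.2 ?_, fun i j a h => hcol i j a (hlab a i j h)⟩
  rw [dser_add]
  refine (Subgroup.eq_bot_iff_forall _).2 fun a ha => hfaith a fun x => ?_
  have hSle : stabilizer A (v j) ≤ colStab A (col j) := fun b hb =>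
    mem_colStab.2 (hlab b j j (mem_stabilizer_iff.1 hb))
  have hT : Fixes (dser (stabilizer A (v j)) c) Q := (hcfix j).mono (dser_mono hSle c)
  conv_lhs => rw [← Y.sum x, Finset.smul_sum]
  conv_rhs => rw [← Y.sum x]
  refine Finset.sum_congr rfl fun q _ => ?_
  let κ : A →* A := (MulAut.conj (t q)⁻¹).toMonoidHom
  have hκ : ∀ b, κ b = (t q)⁻¹ * b * t q := fun b => by
    show (t q)⁻¹ * b * ((t q)⁻¹)⁻¹ = _
    rw [inv_inv]
  have hle : (dser (stabilizer A (v j)) c).map κ ≤ stabilizer A q₀ ⊓ stabilizer A (g (col j q)) := by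
    rintro _ ⟨b, hb, rfl⟩
    have hq := hT b hb q
    have h1 := hstab b q
    have h2 := hrel b j j (dser_le _ c hb) q
    rw [hq] at h1 h2
    rw [hκ]
    exact ⟨h1, h2⟩
  have hw : Y.P q₀ ((t q)⁻¹ • Y.P q x) = (t q)⁻¹ • Y.P q x := by
    have h := Y.equiv (t q)⁻¹ q (Y.P q x)
    rw [show (t q)⁻¹ • q = q₀ by rw [inv_smul_eq_iff, ht]] at h
    rw [h, show Y.P q (Y.P q x) = (Y.P q * Y.P q) x from rfl, Y.idem]
  have hκa : κ a ∈ dser (stabilizer A q₀ ⊓ stabilizer A (g (col j q))) n := by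
    refine dser_mono hle n ?_
    rw [← dser_map]
    exact ⟨a, ha, rfl⟩
  have h := hfix _ _ hκa _ hw
  rw [hκ, mul_smul, mul_smul, smul_inv_smul, smul_left_cancel_iff] at h
  exact h

end CfsgLib.Perm.DlNine
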