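import Cfsg.Agent.Lib.Perm.DlNine.Colour

/-!
Inequivalent colourings of a primitive solvable action whose stabilisers have small derived length.
-/

set_option autoImplicit false
set_option linter.style.haveILetI false

namespace CfsgLib.Perm.DlNine

open MulAction

universe u

variable {A : Type u} {Ω : Type u} [Group A] [MulAction A Ω]

theorem bnd_le_three (n : ℕ) : bnd n ≤ 3 := by
  unfold bnd
  split_ifs <;> omega

theorem cnt_eq_filter [Fintype Ω] {C : Type*} [DecidableEq C] (f : Ω → C) (c : C) :
    cnt f c = (Finset.univ.filter fun x => f x = c).card := by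
  rw [cnt, Nat.card_eq_fintype_card, Fintype.card_subtype]

theorem cnt_le_card [Finite Ω] {C : Type*} (f : Ω → C) (c : C) : cnt f c ≤ Nat.card Ω :=
  Finite.card_subtype_le _

/-- The number of places of a colour in a table. -/
def tcnt {d m : ℕ} (t : Fin d → Fin m) (c : Fin m) : ℕ := (Finset.univ.filter fun y => t y = c).card

/-- Few points: colourings read from a table. -/
theorem classes_table [Finite A] [Finite Ω] (hA : Group.IsSolvable A) {d m c k : ℕ} (hd : Nat.card Ω = d)
    (h7 : d ≤ 7) (t : Fin k → Fin d → Fin m)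
    (hne : ∀ i j, (∀ x, tcnt (t i) x = tcnt (t j) x) → i = j)
    (hsm : ∀ i y, bnd (tcnt (t i) (t i y)) ≤ c) : Classes A Ω m c k := by
  classical
  haveI := Fintype.ofFinite Ω
  let e : Ω ≃ Fin d := Finite.equivFinOfCardEq hd
  have hc : ∀ i x, cnt (fun ω => t i (e ω)) x = tcnt (t i) x := fun i x => by
    unfold cnt tcnt
    rw [Nat.card_congr (e.subtypeEquiv (q := fun y => t i y = x) fun ω => Iff.rfl),
      Nat.card_eq_fintype_card, Fintype.card_subtype]
  refine ⟨fun i ω => t i (e ω), inequiv_of_cnt (g := fun i ω => t i (e ω)) (fun i j h => hne i j fun x => ?_), fun i => ?_⟩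
  · rw [← hc, ← hc]
    exact h x
  · exact fixes_colStab hA (fun ω : Ω => ω) (fun a ha => ha) fun ω =>
      ⟨(cnt_le_card _ _).trans (hd.le.trans h7), by rw [hc]; exact hsm i _⟩

/-- A primitive action on at least four points has four different points fixed together by the kernel only. -/
theorem Prim.exists_base_inj [Finite A] [Finite Ω] (hA : Group.IsSolvable A) (hp : Prim A Ω)
    (h4 : 4 ≤ Nat.card Ω) :
    ∃ q : Fin 4 → Ω, Function.Injective q ∧ ∀ a : A, (∀ i, a • q i = q i) → ∀ x : Ω, a • x = x := by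
  classical
  haveI := Fintype.ofFinite Ω
  haveI : Nontrivial Ω := Finite.one_lt_card_iff_nontrivial.1 (by omega)
  obtain ⟨q, hq⟩ := hp.exists_base hA (exists_pair_ne Ω)
  obtain ⟨T, hT, hc⟩ := Finset.exists_superset_card_eq (s := Finset.univ.image q) (n := 4)
    ((Finset.card_image_le).trans (by simp)) (by rwa [← Nat.card_eq_fintype_card])
  let e := T.equivFinOfCardEq hc
  refine ⟨fun i => (e.symm i).1, fun i j h => e.symm.injective (Subtype.ext h), fun a ha => hq a fun i => ?_⟩
  have hm : q i ∈ T := hT (Finset.mem_image_of_mem _ (Finset.mem_univ i))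
  simpa using ha (e ⟨q i, hm⟩)

/-- Colourings given on four base points and constant elsewhere. -/
theorem classes_pattern [Finite A] [Finite Ω] (hA : Group.IsSolvable A) (hp : Prim A Ω)
    (h4 : 4 ≤ Nat.card Ω) {m c k : ℕ} (L : Fin k → (Fin 4 → Fin m)) (r : Fin k → Fin m)
    (hr : ∀ i x, L i x ≠ r i) (hsm : ∀ i x, bnd (tcnt (L i) (L i x)) ≤ c)
    (hne : ∀ i j, i ≠ j → ∃ x,
      (x ≠ r i ∧ x ≠ r j ∧ tcnt (L i) x ≠ tcnt (L j) x) ∨
      (x = r i ∧ x ≠ r j ∧ tcnt (L j) x = 2) ∨ (x = r j ∧ x ≠ r i ∧ tcnt (L i) x = 2)) :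
    Classes A Ω m c k := by
  classical
  haveI := Fintype.ofFinite Ω
  obtain ⟨q, hqi, hq⟩ := hp.exists_base_inj hA h4
  have h6 : Nat.card Ω - 4 ≠ 2 := by
    have := hp.card_ne_six hA
    omega
  let g : Fin k → Ω → Fin m := fun i => Function.extend q (L i) fun _ => r i
  have hg1 : ∀ i x, g i (q x) = L i x := fun i x => hqi.extend_apply (L i) _ x
  have hg2 : ∀ i ω, (∀ x, q x ≠ ω) → g i ω = r i := fun i ω h =>
    Function.extend_apply' (L i) _ ω (fun ⟨x, hx⟩ => h x hx)
  have hnr : ∀ i x, x ≠ r i → cnt (g i) x = tcnt (L i) x := by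
    intro i x hx
    rw [cnt_eq_filter, tcnt, ← Finset.card_image_of_injective _ hqi]
    congr 1
    ext ω
    simp only [Finset.mem_filter, Finset.mem_univ, true_and, Finset.mem_image]
    constructor
    · intro h
      by_cases hω : ∃ y, q y = ω
      · obtain ⟨y, rfl⟩ := hω
        exact ⟨y, by rwa [hg1] at h, rfl⟩
      · exact absurd ((hg2 i ω fun y hy => hω ⟨y, hy⟩).symm.trans h) hx.symm
    · rintro ⟨y, hy, rfl⟩
      rwa [hg1]
  have hrest : ∀ i, cnt (g i) (r i) = Nat.card Ω - 4 := by
    intro i
    rw [cnt_eq_filter]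
    have : (Finset.univ.filter fun ω => g i ω = r i) = (Finset.univ.image q)ᶜ := by
      ext ω
      simp only [Finset.mem_filter, Finset.mem_univ, true_and, Finset.mem_compl, Finset.mem_image, not_exists]
      constructor
      · rintro h y rfl
        exact hr i y ((hg1 i y).symm.trans h)
      · exact fun h => hg2 i ω h
    rw [this, Finset.card_compl, Finset.card_image_of_injective _ hqi, Finset.card_univ,
      Fintype.card_fin, Nat.card_eq_fintype_card]
  refine ⟨g, inequiv_of_cnt fun i j h => ?_, fun i => fixes_colStab hA q hq fun x => ?_⟩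
  · by_contra hij
    obtain ⟨x, ⟨h1, h2, h3⟩ | ⟨rfl, h2, h3⟩ | ⟨rfl, h2, h3⟩⟩ := hne i j hij
    · exact h3 (by rw [← hnr i x h1, ← hnr j x h2]; exact h x)
    · have := h (r i)
      rw [hrest, hnr j _ h2, h3] at this
      exact h6 this
    · have := h (r j)
      rw [hrest, hnr i _ h2, h3] at this
      exact h6 this.symm
  · rw [hg1, hnr i _ (hr i x)]
    exact ⟨((Finset.card_filter_le _ _).trans (by simp)).trans (by norm_num : 4 ≤ 7), hsm i x⟩

/-- Four colours: five colourings with stabilisers of length one. -/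
theorem classes_four [Finite A] [Finite Ω] (hA : Group.IsSolvable A) (hp : Prim A Ω)
    (h2 : 2 ≤ Nat.card Ω) : Classes A Ω 4 1 5 := by
  rcases (show Nat.card Ω = 2 ∨ Nat.card Ω = 3 ∨ 4 ≤ Nat.card Ω by omega) with h | h | h
  · exact classes_table hA h (by norm_num) ![![0, 1], ![0, 2], ![0, 3], ![1, 2], ![1, 3]]
      (by decide) (by decide)
  · exact classes_table hA h (by norm_num) ![![0, 0, 1], ![0, 0, 2], ![0, 0, 3], ![1, 1, 0], ![1, 1, 2]]
      (by decide) (by decide)
  · exact classes_pattern hA hp h ![![1, 1, 2, 2], ![0, 0, 2, 2], ![0, 0, 1, 1], ![1, 1, 3, 3], ![2, 2, 3, 3]]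
      ![3, 3, 3, 2, 1] (by decide) (by decide) (by decide)

/-- Three colours: five colourings with stabilisers of length two. -/
theorem classes_three [Finite A] [Finite Ω] (hA : Group.IsSolvable A) (hp : Prim A Ω)
    (h2 : 2 ≤ Nat.card Ω) : Classes A Ω 3 2 5 := by
  rcases (show Nat.card Ω = 2 ∨ Nat.card Ω = 3 ∨ 4 ≤ Nat.card Ω by omega) with h | h | h
  · exact classes_table hA h (by norm_num) ![![0, 1], ![0, 2], ![1, 2], ![0, 0], ![1, 1]]
      (by decide) (by decide)
  · exact classes_table hA h (by norm_num) ![![0, 0, 1], ![0, 0, 2], ![1, 1, 0], ![1, 1, 2], ![2, 2, 0]]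
      (by decide) (by decide)
  · exact classes_pattern hA hp h ![![0, 0, 0, 1], ![1, 1, 1, 2], ![2, 2, 2, 0], ![0, 0, 1, 1], ![1, 1, 2, 2]]
      ![2, 0, 1, 2, 0] (by decide) (by decide) (by decide)

/-- A colouring by a set and two colours. -/
theorem cnt_ite [Fintype Ω] [DecidableEq Ω] (P : Finset Ω) :
    cnt (fun x => if x ∈ P then (1 : Fin 2) else 0) 1 = P.card ∧
      cnt (fun x => if x ∈ P then (1 : Fin 2) else 0) 0 = Nat.card Ω - P.card := by
  rw [cnt_eq_filter, cnt_eq_filter]
  constructor
  · congr 1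
    ext x
    by_cases h : x ∈ P <;> simp [h]
  · rw [Nat.card_eq_fintype_card, ← Finset.card_compl]
    congr 1
    ext x
    by_cases h : x ∈ P <;> simp [h]

/-- Two colours and many points: five colourings with stabilisers of length three. -/
theorem classes_two_many [Finite A] [Finite Ω] (hA : Group.IsSolvable A) (hp : Prim A Ω)
    (h4 : 4 ≤ Nat.card Ω) : Classes A Ω 2 3 5 := by
  classical
  haveI := Fintype.ofFinite Ω
  have hcardΩ : Nat.card Ω = (Finset.univ : Finset Ω).card := Nat.card_eq_fintype_card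
  have hex : ∀ n ≤ Nat.card Ω, ∃ P : Finset Ω, P.card = n := fun n hn => by
    obtain ⟨P, -, hP⟩ := Finset.exists_subset_card_eq (s := (Finset.univ : Finset Ω)) (n := n) (hcardΩ ▸ hn)
    exact ⟨P, hP⟩
  by_cases h12 : 12 ≤ Nat.card Ω
  · obtain ⟨q, hqi, hq⟩ := hp.exists_base_inj hA h4
    have hc4 : (Finset.univ.image q).card = 4 := by
      rw [Finset.card_image_of_injective _ hqi, Finset.card_univ, Fintype.card_fin]
    have hsup : ∀ i : Fin 4, ∃ P : Finset Ω, (∀ x, q x ∈ P) ∧ P.card = 4 + (i : ℕ) := fun i => by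
      obtain ⟨P, hP, hPc⟩ := Finset.exists_superset_card_eq (s := Finset.univ.image q) (n := 4 + (i : ℕ))
        (by omega) (by rw [← Nat.card_eq_fintype_card]; omega)
      exact ⟨P, fun x => hP (Finset.mem_image_of_mem _ (Finset.mem_univ x)), hPc⟩
    choose P hqP hPc using hsup
    let g : Fin 5 → Ω → Fin 2 := Fin.snoc (α := fun _ => Ω → Fin 2) (fun i x => if x ∈ P i then 1 else 0)
      (fun x => if x ∈ Finset.univ.image q then 0 else 1)
    let n : Fin 5 → ℕ := Fin.snoc (α := fun _ => ℕ) (fun i => 4 + (i : ℕ)) (Nat.card Ω - 4)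
    have hlast : cnt (g (Fin.last 4)) 1 = Nat.card Ω - 4 ∧ cnt (g (Fin.last 4)) 0 = 4 := by
      have e : g (Fin.last 4) = fun x => if x ∈ (Finset.univ.image q)ᶜ then (1 : Fin 2) else 0 := by
        simp only [g, Fin.snoc_last]
        funext x
        by_cases h : x ∈ Finset.univ.image q <;> simp [h, Finset.mem_compl]
      rw [e, (cnt_ite _).1, (cnt_ite _).2, Finset.card_compl, hc4, ← Nat.card_eq_fintype_card]
      omega
    have hcnt : ∀ i, cnt (g i) 1 = n i := by
      intro i
      induction i using Fin.lastCases with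
      | last => rw [hlast.1]; simp only [n, Fin.snoc_last]
      | cast j => simp only [g, n, Fin.snoc_castSucc]; rw [(cnt_ite _).1, hPc]
    refine ⟨g, inequiv_of_cnt fun i j h => ?_, fun i => fixes_colStab hA q hq fun x => ?_⟩
    · have hh := h 1
      rw [hcnt, hcnt] at hh
      induction i using Fin.lastCases with
      | last =>
        induction j using Fin.lastCases with
        | last => rfl
        | cast j => simp only [n, Fin.snoc_castSucc, Fin.snoc_last] at hh; omega
      | cast i =>
        induction j using Fin.lastCases with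
        | last => simp only [n, Fin.snoc_castSucc, Fin.snoc_last] at hh; omega
        | cast j =>
          simp only [n, Fin.snoc_castSucc] at hh
          exact congrArg Fin.castSucc (Fin.ext (by omega))
    · induction i using Fin.lastCases with
      | last =>
        have e : g (Fin.last 4) (q x) = 0 := by
          simp only [g, Fin.snoc_last]
          exact if_pos (Finset.mem_image_of_mem _ (Finset.mem_univ x))
        rw [e, hlast.2]
        exact ⟨by norm_num, bnd_le_three _⟩
      | cast i =>
        simp only [g, Fin.snoc_castSucc, if_pos (hqP i x)]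
        rw [(cnt_ite _).1, hPc]
        exact ⟨by omega, bnd_le_three _⟩
  · have hn : ∀ i : Fin 5, (i : ℕ) + (if 8 ≤ Nat.card Ω ∧ Nat.card Ω ≤ 10 then Nat.card Ω - 7 else 0) ≤
        Nat.card Ω := fun i => by split_ifs <;> omega
    choose P hP using fun i : Fin 5 => hex _ (hn i)
    refine ⟨fun i x => if x ∈ P i then 1 else 0,
      inequiv_of_cnt (g := fun i x => if x ∈ P i then (1 : Fin 2) else 0) (fun i j h => ?_), fun i => ?_⟩
    · have := h 1
      rw [(cnt_ite _).1, (cnt_ite _).1, hP, hP] at this
      exact Fin.ext (by omega)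
    by_cases h11 : Nat.card Ω = 11
    · haveI : Nontrivial Ω := Finite.one_lt_card_iff_nontrivial.1 (by omega)
      obtain ⟨M, hM⟩ := hp.exists_regPart hA (exists_pair_ne Ω)
      obtain ⟨ω, -⟩ := exists_pair_ne Ω
      exact (hM.fixes_succ (hM.fixes_prime (by norm_num) h11 ω)).mono
        ((dser_anti _ (show (2 : ℕ) ≤ 3 by norm_num)).trans' (dser_mono le_top 3))
    refine fixes_colStab hA (fun ω : Ω => ω) (fun a ha => ha) fun ω => ⟨?_, bnd_le_three _⟩
    have hPi := hP i
    by_cases hω : ω ∈ P i
    · simp only [if_pos hω]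
      rw [(cnt_ite _).1]
      split_ifs at hPi <;> omega
    · simp only [if_neg hω]
      rw [(cnt_ite _).2]
      split_ifs at hPi <;> omega

/-- Two points: three colourings with two colours. -/
theorem classes_two_two [Finite A] [Finite Ω] (hA : Group.IsSolvable A) (h : Nat.card Ω = 2) :
    Classes A Ω 2 1 3 :=
  classes_table hA h (by norm_num) ![![0, 0], ![0, 1], ![1, 1]] (by decide) (by decide)

/-- Three points: four colourings with two colours. -/
theorem classes_two_three [Finite A] [Finite Ω] (hA : Group.IsSolvable A) (h : Nat.card Ω = 3) :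
    Classes A Ω 2 2 4 :=
  classes_table hA h (by norm_num) ![![0, 0, 0], ![0, 0, 1], ![0, 1, 1], ![1, 1, 1]] (by decide) (by decide)

end CfsgLib.Perm.DlNine
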