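import Cfsg.Agent.Lib.Perm.DlNine.Colour
import Cfsg.Agent.Lib.BaseThree.Main

/-!
Five inequivalent colourings with five colours, each with stabiliser acting trivially.
-/

set_option autoImplicit false
set_option linter.style.haveILetI false

namespace CfsgLib.Perm.DlNine

open MulAction

universe u

variable {A : Type u} {Ω : Type u} [Group A] [MulAction A Ω]

/-- Five colours: five colourings with stabilisers acting trivially. -/
theorem classes_five [Finite A] [Finite Ω] [Nonempty Ω] (hA : Group.IsSolvable A) : Classes A Ω 5 0 5 := by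
  classical
  obtain ⟨c₀, hc₀⟩ := (CfsgLib.BaseThree.hyps.{u} (Nat.card A)).2 A Ω hA le_rfl
  obtain ⟨z₀⟩ := (inferInstance : Nonempty Ω)
  letI : MulAction A (Ω → Fin 5) :=
    { smul := fun h c x => c (h⁻¹ • x)
      one_smul := fun c => funext fun x => show c ((1 : A)⁻¹ • x) = c x by rw [inv_one, one_smul]
      mul_smul := fun a b c => funext fun x =>
        show c ((a * b)⁻¹ • x) = c (b⁻¹ • a⁻¹ • x) by rw [mul_inv_rev, mul_smul] }
  letI : MulAction (alternatingGroup (Fin 5)) (Ω → Fin 5) :=
    { smul := fun π c x => (π : Equiv.Perm (Fin 5)) (c x)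
      one_smul := fun c => rfl
      mul_smul := fun a b c => rfl }
  have hcol : ∀ (c : Ω → Fin 5) (h : A), h • c = c ↔ ∀ x, c (h • x) = c x := fun c h => by
    constructor
    · intro e x
      have e' : c (h⁻¹ • h • x) = c (h • x) := congrFun e (h • x)
      rw [inv_smul_smul] at e'
      exact e'.symm
    · intro e
      funext x
      show c (h⁻¹ • x) = c x
      conv_rhs => rw [← smul_inv_smul h x, e]
  have hstab : stabilizer A c₀ = (MulAction.toPermHom A Ω).ker := by
    ext h
    rw [mem_stabilizer_iff, MonoidHom.mem_ker, hcol]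
    exact ⟨fun e => Equiv.ext fun x => hc₀ h e x, fun e x =>
      congrArg c₀ (congrArg (fun p : Equiv.Perm Ω => p x) e)⟩
  have hperf : commutator (alternatingGroup (Fin 5)) = ⊤ :=
    commutator_alternatingGroup_eq_top (by rw [Nat.card_eq_fintype_card, Fintype.card_fin])
  haveI : Finite (Ω → Fin 5) := Pi.finite
  obtain ⟨π₁, hπ1, hπ2⟩ := CfsgLib.BaseThree.alternating_moves (c₀ z₀)
  obtain ⟨F, hF⟩ := CfsgLib.BaseThree.exists_five (P := alternatingGroup (Fin 5)) (H := A)
    (fun π h c => funext fun x => rfl) hperf hA c₀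
    (hstab ▸ inferInstance) ⟨⟨π₁, Equiv.Perm.mem_alternatingGroup.2 hπ1⟩, fun e => hπ2 (congrFun e z₀)⟩
  refine ⟨fun i x => (F i : Equiv.Perm (Fin 5)) (c₀ x), fun i j a h => ?_, fun i => ?_⟩
  · refine hF i j a (funext fun x => ?_)
    show (F i : Equiv.Perm (Fin 5)) (c₀ (a⁻¹ • x)) = _
    have := h (a⁻¹ • x)
    simp only [smul_inv_smul] at this
    exact this.symm
  · intro a ha x
    exact hc₀ a (fun y => (F i : Equiv.Perm (Fin 5)).injective (ha y)) x

end CfsgLib.Perm.DlNine
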