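import Cfsg.Agent.Lib.Perm.DlNine.BlockVectors
import Cfsg.Agent.Lib.Perm.DlNine.Colourings
import Cfsg.Agent.Lib.Perm.DlNine.Five

/-!
The imprimitive step for the derived length nine.
-/

set_option autoImplicit false
set_option linter.style.haveILetI false

namespace CfsgLib.DlNine

open CfsgLib.Perm.DlNine (exists_prim_system classes_four classes_three classes_five classes_two_two
  classes_two_three classes_two_many)

universe u

/-- Vectors in different orbits with smaller bound. -/
theorem Orbits.mono_bound {A V : Type*} [Group A] [AddCommGroup V] [DistribMulAction A V] {k m n : ℕ}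
    (h : Orbits A V k m) (hmn : m ≤ n) : Orbits A V k n := by
  obtain ⟨f, hf, hne⟩ := h
  exact ⟨f, fun i => (hf i).mono hmn, hne⟩

/-- **The imprimitive case.** -/
theorem blockState : BlockState.{u} := by
  intro A V _ _ _ _ _ U hA hS hf hirr _ hU hUc hno
  classical
  obtain ⟨Q, _, _, Y, hp, x, y, hxy⟩ := exists_prim_system hirr hU hUc hno
  haveI : Nonempty Q := ⟨x⟩
  have h2 : 2 ≤ Nat.card Q := Finite.one_lt_card_iff_nontrivial.2 ⟨⟨x, y, hxy⟩⟩
  have hmove : ∃ a : A, a • x ≠ x := by
    obtain ⟨a, ha⟩ := hp.trans x y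
    exact ⟨a, fun h => hxy (h.symm.trans ha)⟩
  rcases Y.blockVectors hA hS hirr x hmove with h | h | h | h
  · exact Or.inl ((h.orbits hp.trans hf (classes_five hA)).mono_bound (by norm_num))
  · exact Or.inl ((h.orbits hp.trans hf (classes_four hA hp h2)).mono_bound (by norm_num))
  · exact Or.inl ((h.orbits hp.trans hf (classes_three hA hp h2)).mono_bound (by norm_num))
  rcases (show Nat.card Q = 2 ∨ Nat.card Q = 3 ∨ 4 ≤ Nat.card Q by omega) with hd | hd | hd
  · exact Or.inr (Or.inr (Or.inl ((h.orbits hp.trans hf (classes_two_two hA hd)).mono_bound (by norm_num))))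
  · exact Or.inr (Or.inl ((h.orbits hp.trans hf (classes_two_three hA hd)).mono_bound (by norm_num)))
  · exact Or.inl ((h.orbits hp.trans hf (classes_two_many hA hp hd)).mono_bound (by norm_num))

end CfsgLib.DlNine
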