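import Cfsg.Agent.Lib.Perm.DlNine.Small

/-!
Colourings: stabilisers, numbers of points of the colours, and a primitive quotient of a transitive action.
-/

set_option autoImplicit false
set_option linter.style.haveILetI false

namespace CfsgLib.Perm.DlNine

open MulAction

universe u

variable {A : Type u} {Ω : Type u} [Group A] [MulAction A Ω] {C : Type*}

/-- The stabiliser of a colouring. -/
def colStab (A : Type u) {Ω : Type u} [Group A] [MulAction A Ω] {C : Type*} (col : Ω → C) : Subgroup A where
  carrier := {a | ∀ x : Ω, col (a • x) = col x}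
  one_mem' := fun x => by rw [one_smul]
  mul_mem' := fun {a b} ha hb x => by rw [mul_smul, ha, hb]
  inv_mem' := fun {a} ha x => by
    conv_rhs => rw [← smul_inv_smul a x, ha]

theorem mem_colStab {col : Ω → C} {a : A} : a ∈ colStab A col ↔ ∀ x, col (a • x) = col x := Iff.rfl

/-- Pairwise inequivalent colourings with small stabilisers. -/
def Classes (H : Type u) (X : Type u) [Group H] [MulAction H X] (m c k : ℕ) : Prop :=
  ∃ g : Fin k → X → Fin m, (∀ (i j : Fin k) (a : H), (∀ x, g j (a • x) = g i x) → i = j) ∧
    ∀ i, Fixes (dser (colStab H (g i)) c) X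

/-- The number of points of a colour. -/
noncomputable def cnt (f : Ω → C) (c : C) : ℕ := Nat.card {x : Ω // f x = c}

theorem cnt_eq_of_smul {f g : Ω → C} {a : A} (h : ∀ x, g (a • x) = f x) (c : C) : cnt g c = cnt f c :=
  (Nat.card_congr (Equiv.subtypeEquiv (MulAction.toPerm a) fun x => by
    show f x = c ↔ g (a • x) = c
    rw [h])).symm

/-- Inequivalence from the numbers of points of the colours. -/
theorem inequiv_of_cnt {k : ℕ} {g : Fin k → Ω → C} (h : ∀ i j, (∀ c, cnt (g i) c = cnt (g j) c) → i = j)
    (i j : Fin k) (a : A) (ha : ∀ x, g j (a • x) = g i x) : i = j :=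
  h i j fun c => (cnt_eq_of_smul ha c).symm

/-- A small invariant set is fixed by an early member of the derived series. -/
theorem fixes_set [Finite A] [Finite Ω] (hA : Group.IsSolvable A) {S : Subgroup A} (P : Set Ω)
    (hP : ∀ a ∈ S, ∀ x ∈ P, a • x ∈ P) {n : ℕ} (hn : Nat.card P = n) (hn7 : n ≤ 7) :
    ∀ a ∈ dser S (bnd n), ∀ x ∈ P, a • x = x := by
  intro a ha x hx
  obtain ⟨a, ha', rfl⟩ := mem_dser_sub ha
  let X : SubMulAction S Ω := { carrier := P, smul_mem' := fun s y hy => hP s s.2 y hy }
  haveI := hA
  exact congrArg Subtype.val (fixes_small n hn7 S X inferInstance hn a ha' ⟨x, hx⟩)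

/-- Colours with few points: the stabiliser fixes their points after a few commutators. -/
theorem fixes_col_point [Finite A] [Finite Ω] (hA : Group.IsSolvable A) {col : Ω → C} {x : Ω}
    (h7 : cnt col (col x) ≤ 7) {k : ℕ} (hk : bnd (cnt col (col x)) ≤ k) :
    ∀ a ∈ dser (colStab A col) k, a • x = x := fun a ha =>
  fixes_set hA (S := colStab A col) {y | col y = col x} (fun _ hs y hy => (hs y).trans hy) rfl h7 a
    (dser_anti _ hk ha) x rfl

/-- A base in small colour classes bounds the stabiliser. -/
theorem fixes_colStab [Finite A] [Finite Ω] (hA : Group.IsSolvable A) {col : Ω → C} {ι : Type*} (q : ι → Ω)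
    (hq : ∀ a : A, (∀ i, a • q i = q i) → ∀ x : Ω, a • x = x) {k : ℕ}
    (h : ∀ i, cnt col (col (q i)) ≤ 7 ∧ bnd (cnt col (col (q i))) ≤ k) :
    Fixes (dser (colStab A col) k) Ω := fun a ha =>
  hq a fun i => fixes_col_point hA (h i).1 (h i).2 a ha

/-- A maximal proper stable equivalence has a primitive quotient. -/
theorem exists_prim_quotient [Finite Ω] (htr : ∀ x y : Ω, ∃ a : A, a • x = y) (hne : ∃ x y : Ω, x ≠ y) :
    ∃ (Q : Type u) (_ : MulAction A Q) (f : Ω → Q), Finite Q ∧ Function.Surjective f ∧
      (∀ (a : A) x, f (a • x) = a • f x) ∧ Prim A Q ∧ ∃ x y : Q, x ≠ y := by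
  classical
  let good : Set (Setoid Ω) := {s | Stable A s ∧ ∃ x y, ¬ s.r x y}
  haveI : Finite (Setoid Ω) := Finite.of_injective (fun s : Setoid Ω => s.r) fun _ _ h => Setoid.ext fun a b => iff_of_eq (congrFun (congrFun h a) b)
  obtain ⟨x₀, y₀, hxy⟩ := hne
  obtain ⟨r, hr⟩ := (Set.toFinite good).exists_maximal
    ⟨⊥, fun a x y h => congrArg (fun z => a • z) (show x = y from h), x₀, y₀, hxy⟩
  obtain ⟨hs, x₁, y₁, h1⟩ := hr.prop
  let Q := Quotient r
  letI : MulAction A Q :=
    { smul := fun a => Quotient.map (fun x => a • x) fun x y h => hs a x y h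
      one_smul := fun i => Quotient.inductionOn i fun x => congrArg (Quotient.mk _) (one_smul A x)
      mul_smul := fun a b i => Quotient.inductionOn i fun x => congrArg (Quotient.mk _) (mul_smul a b x) }
  refine ⟨Q, inferInstance, Quotient.mk r, Quotient.finite _, Quotient.mk_surjective, fun a x => rfl,
    ⟨fun p q => ?_, fun s hsS => ?_⟩, Quotient.mk r x₁, Quotient.mk r y₁, fun e => h1 (Quotient.exact e)⟩
  · induction p using Quotient.inductionOn with
    | h x =>
    induction q using Quotient.inductionOn with
    | h y =>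
    obtain ⟨a, rfl⟩ := htr x y
    exact ⟨a, rfl⟩
  · by_cases htop : ∀ p q, s.r p q
    · exact Or.inr htop
    refine Or.inl fun p q hpq => ?_
    push Not at htop
    obtain ⟨p', q', hn⟩ := htop
    induction p' using Quotient.inductionOn with
    | h x' =>
    induction q' using Quotient.inductionOn with
    | h y' =>
    induction p using Quotient.inductionOn with
    | h x =>
    induction q using Quotient.inductionOn with
    | h y =>
    let t : Setoid Ω := s.comap (Quotient.mk r)
    have hle : r ≤ t := fun u v h => by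
      show s.r (Quotient.mk r u) (Quotient.mk r v)
      rw [Quotient.sound h]
    have := hr.le_of_ge (y := t) ⟨fun a u v h => hsS a _ _ h, x', y', hn⟩ hle
    exact Quotient.sound (this hpq)

end CfsgLib.Perm.DlNine
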