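import Cfsg.Agent.Lib.ClassLin.Linear

/-!
Derived length nine: definitions and interfaces.

A solvable group acting irreducibly has `State`: enough orbits of vectors whose stabilisers have small derived
length that the property survives induction over systems of blocks.
-/

set_option autoImplicit false
set_option linter.unusedSectionVars false

namespace CfsgLib.DlNine

open CfsgLib.BaseTwo (Irr Inv FieldCase)
open CfsgLib.ClassLin (LinGrp)

universe u v w

/-- the derived length of `G` is at most `n` -/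
def DlLE (G : Type u) [Group G] (n : ℕ) : Prop := derivedSeries G n = ⊥

variable {G : Type u} [Group G] {H : Type v} [Group H]

theorem DlLE.mono {m n : ℕ} (h : DlLE G m) (hmn : m ≤ n) : DlLE G n :=
  le_bot_iff.1 ((derivedSeries_antitone G hmn).trans (le_of_eq h))

theorem DlLE.of_injective {n : ℕ} (h : DlLE H n) (f : G →* H) (hf : Function.Injective f) : DlLE G n :=
  (Subgroup.map_eq_bot_iff_of_injective _ hf).1
    (le_bot_iff.1 ((map_derivedSeries_le_derivedSeries f n).trans (le_of_eq h)))

theorem DlLE.of_surjective {n : ℕ} (h : DlLE G n) (f : G →* H) (hf : Function.Surjective f) : DlLE H n := by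
  unfold DlLE at *
  rw [← map_derivedSeries_eq hf, h, Subgroup.map_bot]

theorem DlLE.subgroup {n : ℕ} (h : DlLE G n) (K : Subgroup G) : DlLE K n :=
  h.of_injective K.subtype K.subtype_injective

theorem DlLE.of_le {n : ℕ} {K L : Subgroup G} (h : DlLE L n) (hle : K ≤ L) : DlLE K n :=
  h.of_injective (Subgroup.inclusion hle) (Subgroup.inclusion_injective hle)

theorem DlLE.of_subsingleton [Subsingleton G] (n : ℕ) : DlLE G n := Subsingleton.elim _ _

theorem DlLE.of_comm (h : ∀ x y : G, x * y = y * x) : DlLE G 1 := by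
  unfold DlLE
  rw [derivedSeries_one, commutator_def, Subgroup.commutator_eq_bot_iff_le_centralizer]
  exact fun x _ => Subgroup.mem_centralizer_iff.2 fun y _ => h y x

/-- extensions -/
theorem DlLE.of_hom {a b : ℕ} (f : G →* H) (hk : DlLE f.ker a) (hH : DlLE H b) : DlLE G (b + a) := by
  have h0 : derivedSeries G b ≤ f.ker := fun x hx =>
    MonoidHom.mem_ker.2 (Subgroup.mem_bot.1 (by
      rw [← hH]
      exact map_derivedSeries_le_derivedSeries f b ⟨x, hx, rfl⟩))
  have h1 : ∀ i : ℕ, derivedSeries G (b + i) ≤ (derivedSeries f.ker i).map f.ker.subtype := by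
    intro i
    induction i with
    | zero => intro x hx; exact ⟨⟨x, h0 hx⟩, Subgroup.mem_top _, rfl⟩
    | succ i ih =>
      rw [← Nat.add_assoc, derivedSeries_succ, derivedSeries_succ, Subgroup.map_commutator]
      exact Subgroup.commutator_mono ih ih
  refine le_bot_iff.1 ((h1 a).trans ?_)
  rw [show derivedSeries f.ker a = ⊥ from hk, Subgroup.map_bot]

/-- a group embedded by two homomorphisms -/
theorem DlLE.of_two {K : Type w} [Group K] {n : ℕ} (f : G →* H) (g : G →* K) (hH : DlLE H n) (hK : DlLE K n)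
    (hinj : ∀ x, f x = 1 → g x = 1 → x = 1) : DlLE G n := by
  refine (Subgroup.eq_bot_iff_forall _).2 fun x hx => hinj x ?_ ?_
  · exact Subgroup.mem_bot.1 (by rw [← hH]; exact map_derivedSeries_le_derivedSeries f n ⟨x, hx, rfl⟩)
  · exact Subgroup.mem_bot.1 (by rw [← hK]; exact map_derivedSeries_le_derivedSeries g n ⟨x, hx, rfl⟩)

theorem DlLE.pi {ι : Type w} {n : ℕ} (h : DlLE H n) (f : G →* (ι → H)) (hf : Function.Injective f) :
    DlLE G n := by
  refine (Subgroup.eq_bot_iff_forall _).2 fun x hx => hf ?_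
  rw [map_one]
  funext i
  exact Subgroup.mem_bot.1 (by
    rw [← h]
    exact map_derivedSeries_le_derivedSeries ((Pi.evalMonoidHom (fun _ => H) i).comp f) n ⟨x, hx, rfl⟩)

/-! ### The invariant of the induction -/

/-- `k` vectors in different orbits, each with stabiliser of derived length at most `n` -/
def Orbits (A V : Type*) [Group A] [AddCommGroup V] [DistribMulAction A V] (k n : ℕ) : Prop :=
  ∃ f : Fin k → V, (∀ i, DlLE (MulAction.stabilizer A (f i)) n) ∧ ∀ (i j : Fin k) (a : A), a • f i = f j → i = j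

/-- the invariant: five orbits with bound 9, four with 8, three with 7, or two with 6 -/
def State (A V : Type*) [Group A] [AddCommGroup V] [DistribMulAction A V] : Prop :=
  Orbits A V 5 9 ∨ Orbits A V 4 8 ∨ Orbits A V 3 7 ∨ Orbits A V 2 6

theorem State.exists_nine {A V : Type*} [Group A] [AddCommGroup V] [DistribMulAction A V] (h : State A V) :
    ∃ v : V, DlLE (MulAction.stabilizer A v) 9 := by
  rcases h with ⟨f, hf, -⟩ | ⟨f, hf, -⟩ | ⟨f, hf, -⟩ | ⟨f, hf, -⟩ <;>
    exact ⟨f 0, (hf 0).mono (by norm_num)⟩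

/-- the induction hypothesis -/
def StateHyp (N : ℕ) : Prop :=
  ∀ (A V : Type u) [Group A] [Finite A] [AddCommGroup V] [Finite V] [DistribMulAction A V],
    Nat.card A ≤ N → Group.IsSolvable A → (∀ a : A, (∀ v : V, a • v = v) → a = 1) → Irr A V →
      Nontrivial V → State A V

/-! ### Statements of the pieces -/

/-- every solvable group of permutations of `t` points has derived length at most `n` -/
def PermDl (t n : ℕ) : Prop :=
  ∀ S : Subgroup (Equiv.Perm (Fin t)), Group.IsSolvable S → DlLE S n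

/-- every solvable irreducible group of degree `m` over the prime field with `p` elements has derived length
at most `n` -/
def LinDl (p m n : ℕ) : Prop :=
  ∀ (A V : Type u) [Group A] [Finite A] [AddCommGroup V] [Finite V] [DistribMulAction A V],
    LinGrp A V p m → DlLE A n

/-- the table of the small degrees: the exact values needed by the primitive case -/
def Table : Prop :=
  (∀ r, r.Prime → LinDl.{u} r 2 4) ∧ LinDl.{u} 2 2 2 ∧ LinDl.{u} 2 4 3 ∧ LinDl.{u} 2 6 6 ∧ LinDl.{u} 2 8 6 ∧
  LinDl.{u} 3 4 5 ∧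
  (∀ r m, r.Prime → 1 ≤ m → m ≤ 5 → LinDl.{u} r (2 * m) 8) ∧
  (∀ m, 1 ≤ m → m ≤ 8 → LinDl.{u} 2 (2 * m) 8)

/-- the field case of a table entry -/
def FieldDl (A : Type u) [Group A] (p m : ℕ) : Prop :=
  ∃ a d e : ℕ, a * d = m ∧ 1 ≤ a ∧ 1 ≤ e ∧ e ≤ d ∧ (∀ r : ℕ, r.Prime → r ∣ e → r ∣ p ^ a - 1) ∧
    (e = 1 → DlLE A 2) ∧
    ∀ D, 1 ≤ D → (∀ r k : ℕ, r.Prime → 1 ≤ k → r ^ k ∣ e → LinDl.{u} r (2 * k) D) → DlLE A (D + 2)

/-- the block case of a table entry -/
def BlockDl (A : Type u) [Group A] (p m : ℕ) : Prop :=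
  ∃ t m₀ : ℕ, 2 ≤ t ∧ 1 ≤ m₀ ∧ t * m₀ = m ∧
    ∀ b c, LinDl.{u} p m₀ b → PermDl t c → DlLE A (c + b)

/-- the recursion step of the table -/
def DlStep : Prop :=
  ∀ (A V : Type u) [Group A] [Finite A] [AddCommGroup V] [Finite V] [DistribMulAction A V] (p m : ℕ),
    p.Prime → LinGrp A V p m → BlockDl.{u} A p m ∨ FieldDl.{u} A p m

/-- the primitive case -/
def FieldState : Prop :=
  ∀ (A V : Type u) [Group A] [Finite A] [AddCommGroup V] [Finite V] [DistribMulAction A V] (U : Subgroup A),
    Group.IsSolvable A → Irr A V → FieldCase A V U →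
      (∀ W : Subgroup A, W.Normal → U ≤ W → (∀ x ∈ W, ∀ y ∈ W, x * y = y * x) → W = U) → State A V

/-- the imprimitive case -/
def BlockState : Prop :=
  ∀ (A V : Type u) [Group A] [Finite A] [AddCommGroup V] [Finite V] [DistribMulAction A V] (U : Subgroup A),
    Group.IsSolvable A → StateHyp.{u} (Nat.card A - 1) → (∀ a : A, (∀ v : V, a • v = v) → a = 1) → Irr A V →
      Nontrivial V → U.Normal → (∀ x ∈ U, ∀ y ∈ U, x * y = y * x) →
      ¬ (∀ s ∈ BaseTwo.scalars V U, s ≠ 0 → ∃ s' ∈ BaseTwo.scalars V U, s * s' = 1) → State A V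

end CfsgLib.DlNine
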