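import Mathlib

/-!
The derived series of a subgroup inside the ambient group, and the actions on which a member of it is trivial.
-/

set_option autoImplicit false

namespace CfsgLib.Perm.DlNine

open scoped commutatorElement

universe u v

variable {A : Type u} [Group A]

/-- The members of the derived series of a subgroup, inside the ambient group. -/
def dser (S : Subgroup A) : ℕ → Subgroup A
  | 0 => S
  | k + 1 => ⁅dser S k, dser S k⁆

@[simp] theorem dser_zero (S : Subgroup A) : dser S 0 = S := rfl

theorem dser_succ (S : Subgroup A) (k : ℕ) : dser S (k + 1) = ⁅dser S k, dser S k⁆ := rfl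

theorem dser_mono {S T : Subgroup A} (h : S ≤ T) : ∀ k, dser S k ≤ dser T k
  | 0 => h
  | k + 1 => Subgroup.commutator_mono (dser_mono h k) (dser_mono h k)

theorem dser_succ_le (S : Subgroup A) : ∀ k, dser S (k + 1) ≤ dser S k
  | 0 => Subgroup.commutator_le_self S
  | k + 1 => Subgroup.commutator_mono (dser_succ_le S k) (dser_succ_le S k)

theorem dser_le (S : Subgroup A) : ∀ k, dser S k ≤ S
  | 0 => le_rfl
  | k + 1 => (dser_succ_le S k).trans (dser_le S k)

theorem dser_anti (S : Subgroup A) {i j : ℕ} (h : i ≤ j) : dser S j ≤ dser S i := by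
  induction j, h using Nat.le_induction with
  | base => exact le_rfl
  | succ j _ ih => exact (dser_succ_le S j).trans ih

theorem dser_add (S : Subgroup A) (i : ℕ) : ∀ j, dser S (i + j) = dser (dser S i) j
  | 0 => rfl
  | j + 1 => by rw [← add_assoc, dser_succ, dser_succ, dser_add S i j]

theorem dser_map {B : Type v} [Group B] (f : A →* B) (S : Subgroup A) :
    ∀ k, (dser S k).map f = dser (S.map f) k
  | 0 => rfl
  | k + 1 => by rw [dser_succ, dser_succ, Subgroup.map_commutator, dser_map f S k]

theorem map_derivedSeries (S : Subgroup A) : ∀ k, (derivedSeries S k).map S.subtype = dser S k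
  | 0 => by rw [derivedSeries_zero, dser_zero, ← MonoidHom.range_eq_map, S.range_subtype]
  | k + 1 => by rw [derivedSeries_succ, dser_succ, Subgroup.map_commutator, map_derivedSeries S k]

theorem derivedSeries_eq_bot_iff {S : Subgroup A} {k : ℕ} : derivedSeries S k = ⊥ ↔ dser S k = ⊥ := by
  rw [← map_derivedSeries, Subgroup.map_eq_bot_iff, S.ker_subtype, le_bot_iff]

theorem dser_top (k : ℕ) : dser (⊤ : Subgroup A) k = derivedSeries A k := by
  induction k with
  | zero => rfl
  | succ k ih => rw [dser_succ, ih, derivedSeries_succ]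

/-- A subgroup acts trivially. -/
def Fixes (S : Subgroup A) (Ω : Type v) [MulAction A Ω] : Prop := ∀ a ∈ S, ∀ x : Ω, a • x = x

theorem Fixes.mono {S T : Subgroup A} {Ω : Type v} [MulAction A Ω] (h : Fixes T Ω) (hle : S ≤ T) :
    Fixes S Ω := fun a ha => h a (hle ha)

theorem eq_bot_of_fixes {S : Subgroup A} {Ω : Type v} [MulAction A Ω]
    (hf : ∀ a : A, (∀ x : Ω, a • x = x) → a = 1) (h : Fixes S Ω) : S = ⊥ :=
  (Subgroup.eq_bot_iff_forall _).2 fun a ha => hf a (h a ha)

/-- A subgroup all of whose elements commute on the points acts with derived length one. -/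
theorem fixes_dser_one {S : Subgroup A} {Ω : Type v} [MulAction A Ω]
    (h : ∀ a ∈ S, ∀ b ∈ S, ∀ x : Ω, a • b • x = b • a • x) : Fixes (dser S 1) Ω := by
  let φ := MulAction.toPermHom A Ω
  have hle : dser S 1 ≤ φ.ker := by
    rw [dser_succ, dser_zero, Subgroup.commutator_le]
    intro a ha b hb
    rw [MonoidHom.mem_ker, map_commutatorElement, commutatorElement_eq_one_iff_mul_comm]
    exact Equiv.ext fun x => h a ha b hb x
  exact fun a ha x => congrArg (fun π : Equiv.Perm Ω => π x) (MonoidHom.mem_ker.1 (hle ha))

end CfsgLib.Perm.DlNine
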