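import Cfsg.Agent.Lib.ClassLin.LayerAux

/-!
Derived length nine, the field case: numerical inequalities.
-/

set_option autoImplicit false

namespace CfsgLib.DlNine

open CfsgLib.ClassPSq (Bd maxPrime maxPrime_spec)

theorem bd_le : ∀ e : ℕ, 1 ≤ e → Bd e ≤ e ^ (2 * Nat.log 2 e + 1) := by
  intro e
  induction e using Nat.strong_induction_on with
  | _ e ih =>
  intro he
  rcases Nat.lt_or_ge e 2 with h2 | h2
  · obtain rfl : e = 1 := by omega
    simp [CfsgLib.ClassPSq.Bd_small.2.1]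
  obtain ⟨hP, hPe⟩ := maxPrime_spec (show 1 < e by omega)
  set P := maxPrime e with hPdef
  set f := e / P with hf
  have hef : P * f = e := Nat.mul_div_cancel' hPe
  have hf1 : 1 ≤ f := Nat.pos_of_ne_zero fun h => by rw [h, mul_zero] at hef; omega
  obtain ⟨j, hj⟩ : ∃ j, Nat.log 2 e = j + 1 := ⟨Nat.log 2 e - 1, by
    have := Nat.log_pos one_lt_two h2
    omega⟩
  have hlog : Nat.log 2 f ≤ j := by
    refine (Nat.log_mono_right (b := 2) (Nat.div_le_div_left hP.two_le (by norm_num) : e / P ≤ e / 2)).trans ?_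
    rw [Nat.log_div_base, hj, Nat.add_sub_cancel]
  have hP2 : e ≤ P ^ (j + 1) := by
    rcases hP.two_le.eq_or_lt with h | h
    · have hu : ∀ {r : ℕ}, r.Prime → r ∣ e → r = 2 := fun {r} hr hre => by
        have h1 : r ≤ P := Finset.le_sup (f := id) (Nat.mem_primeFactors.2 ⟨hr, hre, by omega⟩)
        exact le_antisymm (h1.trans h.ge) hr.two_le
      obtain ⟨k, hk⟩ : ∃ k, e = 2 ^ k := ⟨_, Nat.eq_prime_pow_of_unique_prime_dvd (by omega) hu⟩
      rw [hk, Nat.log_pow one_lt_two] at hj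
      rw [hk, hj, h.symm]
    · have hup : e < 2 ^ (j + 2) := by
        have := Nat.lt_pow_succ_log_self one_lt_two e
        rwa [hj] at this
      rcases Nat.eq_zero_or_pos j with rfl | hj1
      · rw [pow_one]
        have : e ≤ 3 := by norm_num at hup; omega
        omega
      · refine hup.le.trans (le_trans ?_ (Nat.pow_le_pow_left h (j + 1)))
        clear hup hj hlog
        induction j, hj1 using Nat.le_induction with
        | base => norm_num
        | succ j _ ih2 =>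
          rw [pow_succ 2 (j + 2), pow_succ (Nat.succ 2) (j + 1)]
          exact Nat.mul_le_mul ih2 (by norm_num)
  have hBf : Bd f ≤ f ^ (2 * j + 1) :=
    (ih f (Nat.div_lt_self (by omega) hP.one_lt) hf1).trans (Nat.pow_le_pow_right hf1 (by omega))
  rw [hj, Bd, dif_pos (by omega), ← hPdef, ← hf]
  calc (e * e - 1) * (e * e / P) * Bd f ≤ (e * e) * (e * f) * f ^ (2 * j + 1) := by
        rw [Nat.mul_div_assoc e hPe, ← hf]
        exact Nat.mul_le_mul (Nat.mul_le_mul_right _ (Nat.sub_le _ _)) hBf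
    _ = e * (e * (e * f ^ (2 * j + 2))) := by ring
    _ ≤ e * (P ^ (j + 1) * (P ^ (j + 1) * f ^ (2 * j + 2))) :=
        Nat.mul_le_mul_left _ (Nat.mul_le_mul hP2 (Nat.mul_le_mul_right _ hP2))
    _ = e * (P * f) ^ (2 * j + 2) := by ring
    _ = e ^ (2 * (j + 1) + 1) := by rw [hef, ← pow_succ']; congr 1

theorem sq_mul_bd {e : ℕ} (he : 1 ≤ e) : e * e * Bd e ≤ e ^ (2 * Nat.log 2 e + 3) :=
  (Nat.mul_le_mul_left _ (bd_le e he)).trans_eq (by ring)

theorem sq_mul_bd_two {e : ℕ} (he : 1 ≤ e) {L : ℕ} (h : Nat.log 2 e = L) :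
    e * e * Bd e ≤ 2 ^ ((L + 1) * (2 * L + 3)) := by
  refine (sq_mul_bd he).trans ?_
  rw [h, pow_mul]
  exact Nat.pow_le_pow_left (h ▸ (Nat.lt_pow_succ_log_self one_lt_two e).le) _

theorem three_pow_even (m : ℕ) : 2 ^ (3 * m) ≤ 3 ^ (2 * m) := by
  rw [pow_mul, pow_mul]
  exact Nat.pow_le_pow_left (by norm_num) m

theorem exp_five : ∀ L : ℕ, 7 ≤ L → (L + 1) * (2 * L + 3) + 3 ≤ 3 * 2 ^ (L - 1) := by
  intro L hL
  induction L, hL using Nat.le_induction with
  | base => norm_num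
  | succ L hL ih =>
    have h : 2 ^ (L + 1 - 1) = 2 * 2 ^ (L - 1) := by
      rw [← pow_succ']; congr 1; omega
    rw [h]
    nlinarith

theorem exp_regular : ∀ L : ℕ, 10 ≤ L → 6 + (L + 1) * (8 * L + 12) + 12 ≤ 3 * 2 ^ (L - 1) := by
  intro L hL
  induction L, hL using Nat.le_induction with
  | base => norm_num
  | succ L hL ih =>
    have h : 2 ^ (L + 1 - 1) = 2 * 2 ^ (L - 1) := by
      rw [← pow_succ']; congr 1; omega
    rw [h]
    nlinarith

theorem pow_lower {q e L c : ℕ} (hq : 1 ≤ q) (he : 1 ≤ e) (h : Nat.log 2 e = L) : q ^ (2 ^ L - c) ≤ q ^ (e - c) :=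
  Nat.pow_le_pow_right hq (Nat.sub_le_sub_right (h ▸ Nat.pow_log_le_self 2 (by omega)) c)

/-- few vectors outside five orbits: at least `2 ^ 7` in the exponent -/
theorem ineq_big {q e : ℕ} (hq : 3 ≤ q) (he : 128 ≤ e) : e * e * Bd e ≤ q ^ (e - 2) := by
  obtain ⟨L, hL⟩ : ∃ L, Nat.log 2 e = L := ⟨_, rfl⟩
  have hL7 : 7 ≤ L := hL ▸ Nat.le_log_of_pow_le one_lt_two (by simpa using he)
  refine (sq_mul_bd_two (by omega) hL).trans (le_trans ?_ (pow_lower (by omega) (by omega) hL))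
  refine le_trans ?_ (Nat.pow_le_pow_left hq _)
  have h2 : 2 ^ L - 2 = 2 * (2 ^ (L - 1) - 1) := by
    rw [Nat.mul_sub, ← pow_succ', show L - 1 + 1 = L by omega]
  rw [h2]
  refine le_trans (Nat.pow_le_pow_right two_pos ?_) (three_pow_even _)
  have := exp_five L hL7
  omega

/-- few vectors outside five orbits: large fields -/
theorem ineq_seven {q e : ℕ} (hq : 7 ≤ q) (he : 22 ≤ e) : e * e * Bd e ≤ q ^ (e - 2) := by
  obtain ⟨L, hL⟩ : ∃ L, Nat.log 2 e = L := ⟨_, rfl⟩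
  rcases Nat.lt_or_ge e 128 with h | h
  swap
  · exact ineq_big (by omega) h
  have h1 := sq_mul_bd_two (by omega) hL
  have h2 : 4 ≤ L := hL ▸ Nat.le_log_of_pow_le one_lt_two (by omega)
  have h3 : L ≤ 6 := Nat.lt_succ_iff.1 (hL ▸ Nat.log_lt_of_lt_pow (by omega) (by omega))
  have hp := Nat.pow_log_le_self 2 (show e ≠ 0 by omega)
  rw [hL] at hp
  refine h1.trans (le_trans ?_ (Nat.pow_le_pow_left hq _))
  have hm : max 22 (2 ^ L) - 2 ≤ e - 2 := Nat.sub_le_sub_right (max_le he hp) 2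
  refine le_trans ?_ (Nat.pow_le_pow_right (by norm_num) hm)
  interval_cases L <;> norm_num

/-- regular orbits -/
theorem ineq_regular {q e : ℕ} (hq : 3 ≤ q) (he : 512 ≤ e) (hq4 : q < 4 → ∃ k, e = 2 ^ k) :
    64 * (e * e * Bd e) ^ 4 ≤ q ^ (e - 8) := by
  obtain ⟨L, hL⟩ : ∃ L, Nat.log 2 e = L := ⟨_, rfl⟩
  have hL9 : 9 ≤ L := hL ▸ Nat.le_log_of_pow_le one_lt_two (by simpa using he)
  have h1 : 64 * (e * e * Bd e) ^ 4 ≤ 2 ^ (6 + (L + 1) * (8 * L + 12)) := by
    rw [pow_add, show (L + 1) * (8 * L + 12) = (L + 1) * (2 * L + 3) * 4 by ring, pow_mul]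
    exact Nat.mul_le_mul le_rfl (Nat.pow_le_pow_left (sq_mul_bd_two (by omega) hL) _)
  rcases hL9.eq_or_lt with rfl | h10
  · rcases Nat.lt_or_ge q 4 with h4 | h4
    · obtain ⟨k, rfl⟩ := hq4 h4
      rw [Nat.log_pow one_lt_two] at hL
      subst hL
      refine le_trans (Nat.mul_le_mul_left _ (Nat.pow_le_pow_left (sq_mul_bd (by norm_num)) _)) ?_
      rw [Nat.log_pow one_lt_two, show q = 3 by omega, show (64 : ℕ) = 2 ^ 6 by norm_num, ← pow_mul, ← pow_mul,
        ← pow_add]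
      refine le_trans (Nat.pow_le_pow_right two_pos (show _ ≤ 19 * 42 by norm_num)) ?_
      refine le_trans ?_ (Nat.pow_le_pow_right (show 1 ≤ 3 by norm_num) (show 12 * 42 ≤ _ by norm_num))
      rw [pow_mul, pow_mul]
      exact Nat.pow_le_pow_left (by norm_num) 42
    · refine h1.trans (le_trans ?_ (Nat.pow_le_pow_left h4 _))
      refine le_trans ?_ (Nat.pow_le_pow_right (by norm_num) (Nat.sub_le_sub_right he 8))
      rw [show (4 : ℕ) = 2 ^ 2 by norm_num, ← pow_mul]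
      exact Nat.pow_le_pow_right two_pos (by norm_num)
  · refine h1.trans (le_trans ?_ ((Nat.pow_le_pow_left hq _).trans (pow_lower (by omega) (by omega) hL)))
    have h2 : 2 ^ L - 8 = 2 * (2 ^ (L - 1) - 4) := by
      rw [Nat.mul_sub, ← pow_succ', show L - 1 + 1 = L by omega]
    rw [h2]
    refine le_trans (Nat.pow_le_pow_right two_pos ?_) (three_pow_even _)
    have := exp_regular L h10
    omega

/-- pure powers with small fields -/
theorem ineq_pow_two : (∀ q : ℕ, 3 ≤ q → 64 * 64 * Bd 64 ≤ q ^ 62) := by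
  intro q hq
  refine le_trans (Nat.mul_le_mul_left _ (CfsgLib.ClassLin.bd_prime_pow_le Nat.prime_two 6)) ?_
  exact le_trans (by norm_num) (Nat.pow_le_pow_left hq 62)

theorem ineq_pow_three {q k : ℕ} (hq : 4 ≤ q) (hk : k = 3 ∨ k = 4) :
    3 ^ k * 3 ^ k * Bd (3 ^ k) ≤ q ^ (3 ^ k - 2) := by
  refine le_trans (Nat.mul_le_mul_left _ (CfsgLib.ClassLin.bd_prime_pow_le Nat.prime_three k)) ?_
  refine le_trans ?_ (Nat.pow_le_pow_left hq _)
  rcases hk with rfl | rfl <;> norm_num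

theorem small_field {p a e : ℕ} (hp : p.Prime) (ha : 1 ≤ a) (he : 2 ≤ e) (hlt : p ^ a < 7)
    (hr : ∀ r : ℕ, r.Prime → r ∣ e → r ∣ p ^ a - 1) :
    (p ^ a = 4 ∧ a = 2 ∧ ∃ k, e = 3 ^ k) ∨ ((p ^ a = 3 ∨ p ^ a = 5) ∧ a = 1 ∧ ∃ k, e = 2 ^ k) := by
  have hp2 := hp.two_le
  have hple : p ≤ p ^ a := Nat.le_self_pow (by omega) p
  have ha3 : a < 3 := by
    by_contra hc
    have : 2 ^ 3 ≤ p ^ a := (Nat.pow_le_pow_right two_pos (by omega)).trans (Nat.pow_le_pow_left hp2 a)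
    omega
  obtain ⟨r, hr', hre⟩ := Nat.exists_prime_and_dvd (show e ≠ 1 by omega)
  have h1 := hr r hr' hre
  have hpow : ∀ s : ℕ, (∀ r : ℕ, r.Prime → r ∣ p ^ a - 1 → r = s) → ∃ k, e = s ^ k := fun s hs =>
    ⟨_, Nat.eq_prime_pow_of_unique_prime_dvd (by omega) fun {d} hd hde => hs d hd (hr d hd hde)⟩
  have hp7 : p < 7 := by omega
  interval_cases a <;> interval_cases p
  all_goals try (norm_num at hp)
  all_goals try (norm_num at hlt)
  all_goals norm_num at h1 hpow ⊢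
  · exact absurd h1 hr'.ne_one
  · exact hpow 2 fun r hr h => (Nat.prime_dvd_prime_iff_eq hr Nat.prime_two).1 h
  · refine hpow 2 fun r hr h => ?_
    exact (Nat.prime_dvd_prime_iff_eq hr Nat.prime_two).1 (hr.dvd_of_dvd_pow (show r ∣ 2 ^ 2 from h))
  · exact hpow 3 fun r hr h => (Nat.prime_dvd_prime_iff_eq hr Nat.prime_three).1 h

end CfsgLib.DlNine
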