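import Cfsg.Agent.Lib.Perm.DlNine.FieldCount

/-!
Derived length nine, the field case: arithmetic for the two smallest layers.
-/

set_option autoImplicit false
set_option linter.unusedSectionVars false
set_option linter.style.haveILetI false
set_option maxHeartbeats 1000000

namespace CfsgLib.DlNine

open ArithmeticFunction (cardFactors)

universe u

theorem omega_mul_le {m c : ℕ} (hm : m ≠ 0) (hc : c ∣ m) : c * 2 ^ (cardFactors m - cardFactors c) ≤ m := by
  obtain ⟨n, rfl⟩ := hc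
  obtain ⟨hc0, hn0⟩ := mul_ne_zero_iff.1 hm
  rw [ArithmeticFunction.cardFactors_mul hc0 hn0, Nat.add_sub_cancel_left]
  exact Nat.mul_le_mul_left c (two_pow_omega_le hn0)

theorem dvd_of_omega {m B w L : ℕ} (hm : m ≠ 0) (hB : m ≤ B) (hw : w ≤ cardFactors m)
    (h : ∀ r k : ℕ, r.Prime → 1 ≤ k → r ^ k * 2 ^ (w - k) ≤ B → r ^ k ∣ L) : m ∣ L := by
  rw [Nat.dvd_iff_prime_pow_dvd_dvd]
  intro r k hr hrk
  rcases Nat.eq_zero_or_pos k with rfl | hk
  · simp
  refine h r k hr hk (le_trans ?_ ((omega_mul_le hm hrk).trans hB))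
  rw [ArithmeticFunction.cardFactors_apply_prime_pow hr]
  exact Nat.mul_le_mul_left _ (Nat.pow_le_pow_right two_pos (by omega))

theorem exp_le_ten {r k : ℕ} (hr : r.Prime) (hk : 1 ≤ k) {B w : ℕ} (hB : B ≤ 1296)
    (h : r ^ k * 2 ^ (w - k) ≤ B) : k ≤ 10 := by
  by_contra hc
  have h1 : 2 ^ 11 ≤ r ^ k := (Nat.pow_le_pow_right two_pos (by omega)).trans (Nat.pow_le_pow_left hr.two_le k)
  have h2 : 1 ≤ 2 ^ (w - k) := Nat.one_le_two_pow
  nlinarith

theorem base_le {r k w B : ℕ} (hr : r.Prime) (hk : 1 ≤ k) (hkw : 1 ≤ w) (h : r ^ k * 2 ^ (w - k) ≤ B) :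
    r * 2 ^ (w - 1) ≤ B := by
  refine le_trans ?_ h
  obtain ⟨j, rfl⟩ : ∃ j, k = j + 1 := ⟨k - 1, by omega⟩
  rw [pow_succ', mul_assoc]
  refine Nat.mul_le_mul_left _ ((Nat.pow_le_pow_right two_pos (show w - 1 ≤ j + (w - (j + 1)) by omega)).trans ?_)
  rw [pow_add]
  exact Nat.mul_le_mul_right _ (Nat.pow_le_pow_left hr.two_le j)

theorem omega_divisor {m : ℕ} (hm : m ≠ 0) (hB : m ≤ 1296) (hw : 8 ≤ cardFactors m) :
    m ∣ 2 ^ 10 * 81 ∨ m ∣ 2 ^ 8 * 15 ∨ m ∣ 2 ^ 7 * 7 := by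
  have h0 : m ∣ 2 ^ 10 * 81 * 35 := dvd_of_omega hm hB hw fun r k hr hk h => by
    have h1 := base_le hr hk (by norm_num) h
    have h2 := exp_le_ten hr hk le_rfl h
    have hr10 : r ≤ 10 := by norm_num at h1; omega
    interval_cases r <;> first | (exfalso; norm_num at hr; done) | (interval_cases k <;> first | (exfalso; norm_num at h; done) | norm_num)
  by_cases h5 : 5 ∣ m
  · obtain ⟨n, rfl⟩ := h5
    refine Or.inr (Or.inl (Nat.mul_dvd_mul_left 5 (show n ∣ 2 ^ 8 * 3 from ?_) |>.trans (by norm_num)))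
    have hn : n ≠ 0 := fun h => hm (by rw [h, mul_zero])
    have hw' : 7 ≤ cardFactors n := by
      rw [ArithmeticFunction.cardFactors_mul (by norm_num) hn,
        ArithmeticFunction.cardFactors_apply_prime (show Nat.Prime 5 by norm_num)] at hw
      omega
    refine dvd_of_omega hn (show n ≤ 259 by omega) hw' fun r k hr hk h => ?_
    have h1 := base_le hr hk (by norm_num) h
    have h2 := exp_le_ten hr hk (by norm_num) h
    have hr4 : r ≤ 4 := by norm_num at h1; omega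
    interval_cases r <;> first | (exfalso; norm_num at hr; done) | (interval_cases k <;> first | (exfalso; norm_num at h; done) | norm_num)
  by_cases h7 : 7 ∣ m
  · obtain ⟨n, rfl⟩ := h7
    refine Or.inr (Or.inr (Nat.mul_dvd_mul_left 7 (show n ∣ 2 ^ 7 from ?_) |>.trans (by norm_num)))
    have hn : n ≠ 0 := fun h => hm (by rw [h, mul_zero])
    have hw' : 7 ≤ cardFactors n := by
      rw [ArithmeticFunction.cardFactors_mul (by norm_num) hn,
        ArithmeticFunction.cardFactors_apply_prime (show Nat.Prime 7 by norm_num)] at hw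
      omega
    refine dvd_of_omega hn (show n ≤ 185 by omega) hw' fun r k hr hk h => ?_
    have h1 := base_le hr hk (by norm_num) h
    have h2 := exp_le_ten hr hk (by norm_num) h
    have hr4 : r ≤ 2 := by norm_num at h1; omega
    interval_cases r <;> first | (exfalso; norm_num at hr; done) | (interval_cases k <;> first | (exfalso; norm_num at h; done) | norm_num)
  left
  refine (Nat.Coprime.dvd_of_dvd_mul_right ?_ h0)
  rw [show (35 : ℕ) = 5 * 7 by norm_num]
  exact Nat.Coprime.mul_right (((Nat.Prime.coprime_iff_not_dvd (by norm_num)).2 h5).symm)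
    (((Nat.Prime.coprime_iff_not_dvd (by norm_num)).2 h7).symm)

/-- no two divisors add up -/
theorem no_sum {A B N x y : ℕ}
    (hchk : ∀ i < A + 1, ∀ b < B + 1, b ∣ B → N ≤ 2 ^ i * b ∨ ¬ N - 2 ^ i * b ∣ 2 ^ A * B)
    (hB : 0 < B) (hy0 : 0 < y) (hx : x ∣ 2 ^ A * B) (hy : y ∣ 2 ^ A * B) : x + y ≠ N := by
  intro h
  obtain ⟨c, b, hc, hb, rfl⟩ := exists_dvd_and_dvd_of_dvd_mul hx
  obtain ⟨i, hi, rfl⟩ := (Nat.dvd_prime_pow Nat.prime_two).1 hc
  rcases hchk i (by omega) b (Nat.lt_succ_of_le (Nat.le_of_dvd hB hb)) hb with h1 | h1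
  · omega
  · exact h1 (by rwa [show N - 2 ^ i * b = y by omega])

theorem dvd_sum_eight {x y d m : ℕ} (hd8 : 8 ≤ d) (hd : d ≤ 10) (hm : m ≠ 0) (hB : m ≤ 1296)
    (hw : 8 ≤ cardFactors m) (hx : x ∣ 128 * m) (hy : y ∣ 128 * m) (hy0 : 0 < y) : x + y ≠ 3 ^ d - 1 := by
  rcases omega_divisor hm hB hw with h | h | h
  · have h' : 128 * m ∣ 2 ^ 17 * 81 := (Nat.mul_dvd_mul_left 128 h).trans (by norm_num)
    exact no_sum (A := 17) (B := 81) (by interval_cases d <;> decide +kernel) (by norm_num) hy0 (hx.trans h')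
      (hy.trans h')
  · have h' : 128 * m ∣ 2 ^ 15 * 15 := (Nat.mul_dvd_mul_left 128 h).trans (by norm_num)
    exact no_sum (A := 15) (B := 15) (by interval_cases d <;> decide +kernel) (by norm_num) hy0 (hx.trans h')
      (hy.trans h')
  · have h' : 128 * m ∣ 2 ^ 14 * 7 := (Nat.mul_dvd_mul_left 128 h).trans (by norm_num)
    exact no_sum (A := 14) (B := 7) (by interval_cases d <;> decide +kernel) (by norm_num) hy0 (hx.trans h')
      (hy.trans h')

variable {A V : Type u} [Group A] [Finite A] [AddCommGroup V] [Finite V] [DistribMulAction A V]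

theorem orbit_ne_zero {v : V} (hv : v ≠ 0) : MulAction.orbit A v ⊆ ({0}ᶜ : Set V) := by
  rintro _ ⟨a, rfl⟩ h
  exact hv ((smul_eq_zero_iff_eq a).1 h)

theorem orbit_dvd (v : V) : Nat.card (MulAction.orbit A v) ∣ Nat.card A := ⟨_, (card_orbit_mul v).symm⟩

/-- not transitive on the nonzero vectors -/
theorem orbits_two_nonzero {n : ℕ} (hn : ∀ v : V, v ≠ 0 → DlLE (MulAction.stabilizer A v) n)
    {v : V} (hv : v ≠ 0) (hnd : ¬ Nat.card V - 1 ∣ Nat.card A) :
    ∃ w : V, w ≠ 0 ∧ w ∉ MulAction.orbit A v ∧ Orbits A V 2 n := by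
  by_contra hcon
  push Not at hcon
  apply hnd
  have heq : MulAction.orbit A v = ({0}ᶜ : Set V) := (orbit_ne_zero hv).antisymm fun w hw => by
    by_contra hno
    exact hcon w hw hno (orbits_two v w (hn v hv) (hn w hw) fun a ha => hno ⟨a, ha⟩)
  rw [← card_compl_zero, ← heq]
  exact orbit_dvd v

/-- three orbits, unless two orbit lengths add up -/
theorem orbits_three_nonzero {n : ℕ} (hn : ∀ v : V, v ≠ 0 → DlLE (MulAction.stabilizer A v) n)
    {v : V} (hv : v ≠ 0) (hnd : ¬ Nat.card V - 1 ∣ Nat.card A)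
    (hsum : ∀ x y : ℕ, x ∣ Nat.card A → y ∣ Nat.card A → 0 < y → x + y ≠ Nat.card V - 1) : Orbits A V 3 n := by
  classical
  obtain ⟨w, hw, hwv, -⟩ := orbits_two_nonzero hn hv hnd
  obtain ⟨z, hz, hzv, hzw⟩ : ∃ z : V, z ≠ 0 ∧ z ∉ MulAction.orbit A v ∧ z ∉ MulAction.orbit A w := by
    by_contra hcon
    push Not at hcon
    have heq : MulAction.orbit A v ∪ MulAction.orbit A w = ({0}ᶜ : Set V) :=
      (Set.union_subset (orbit_ne_zero hv) (orbit_ne_zero hw)).antisymm fun z hz => by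
        by_cases h : z ∈ MulAction.orbit A v
        · exact Or.inl h
        · exact Or.inr (hcon z hz h)
    have hdis : Disjoint (MulAction.orbit A v) (MulAction.orbit A w) := Set.disjoint_left.2 fun z h1 h2 =>
      hwv (MulAction.orbit_eq_iff.1 ((MulAction.orbit_eq_iff.2 h2).symm.trans (MulAction.orbit_eq_iff.2 h1)))
    refine hsum _ _ (orbit_dvd (A := A) v) (orbit_dvd w) ?_ ?_
    · haveI : Nonempty (MulAction.orbit A w) := ⟨⟨w, MulAction.mem_orbit_self w⟩⟩
      exact Nat.card_pos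
    · rw [← card_compl_zero, ← heq, Nat.card_coe_set_eq, Nat.card_coe_set_eq, Nat.card_coe_set_eq,
        Set.ncard_union_eq hdis]
  refine ⟨![v, w, z], fun i => ?_, fun i j a => ?_⟩
  · fin_cases i
    exacts [hn v hv, hn w hw, hn z hz]
  · fin_cases i <;> fin_cases j <;> simp only [Fin.reduceFinMk, Fin.isValue, Matrix.cons_val_zero,
      Matrix.cons_val_one, Matrix.cons_val, imp_self, implies_true]
    · exact fun h => absurd ⟨a, h⟩ hwv
    · exact fun h => absurd ⟨a, h⟩ hzv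
    · exact fun h => absurd ⟨a⁻¹, show a⁻¹ • v = w by rw [← h, inv_smul_smul]⟩ hwv
    · exact fun h => absurd ⟨a, h⟩ hzw
    · exact fun h => absurd ⟨a⁻¹, show a⁻¹ • v = z by rw [← h, inv_smul_smul]⟩ hzv
    · exact fun h => absurd ⟨a⁻¹, show a⁻¹ • w = z by rw [← h, inv_smul_smul]⟩ hzw

end CfsgLib.DlNine
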