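import Cfsg.Agent.Lib.Perm.DlNine.Step
import Cfsg.Agent.Lib.Perm.DlNine.FieldNum
import Cfsg.Agent.Lib.Perm.DlNine.FieldSpecial

/-!
Derived length nine: the primitive case has the invariant.
-/

set_option autoImplicit false
set_option linter.unusedSectionVars false
set_option linter.style.haveILetI false
set_option maxHeartbeats 1000000

namespace CfsgLib.DlNine

open CfsgLib.BaseTwo (Irr Inv FieldCase)
open CfsgLib.ClassLin (LinBd)
open CfsgLib.ClassPSq (Bd)

universe u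

variable {A V : Type u} [Group A] [Finite A] [AddCommGroup V] [Finite V] [DistribMulAction A V]

theorem exists_exponent (hirr : Irr A V) (hnt : ∃ v : V, v ≠ 0) : ∃ p : ℕ, p.Prime ∧ ∀ v : V, p • v = 0 := by
  classical
  obtain ⟨v, hv⟩ := hnt
  haveI : Nontrivial V := ⟨⟨v, 0, hv⟩⟩
  obtain ⟨p, hp, hpV⟩ := Nat.exists_prime_and_dvd (n := Nat.card V) Finite.one_lt_card.ne'
  haveI : Fact p.Prime := ⟨hp⟩
  let T : AddSubgroup V := (nsmulAddMonoidHom p : V →+ V).ker
  rcases hirr T (fun a _ x hx => by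
    show p • (a • x) = 0
    rw [smul_comm, show p • x = 0 from hx, smul_zero]) with h | h
  · obtain ⟨x, hx⟩ := exists_prime_addOrderOf_dvd_card' p hpV
    have : x ∈ T := by
      show p • x = 0
      rw [← hx]; exact addOrderOf_nsmul_eq_zero x
    rw [h, AddSubgroup.mem_bot] at this
    rw [this, addOrderOf_zero] at hx
    exact absurd hx.symm hp.one_lt.ne'
  · exact ⟨p, hp, fun w => show w ∈ T by rw [h]; trivial⟩

/-! ### The table at the layers -/

theorem table_small (hT : Table.{u}) {e r k : ℕ} (hr : r.Prime) (hk : 1 ≤ k) (hd : r ^ k ∣ e) (h8 : ¬ 8 ∣ e)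
    (hodd : ∀ r : ℕ, r.Prime → r ≠ 2 → ¬ r ^ 2 ∣ e) : LinDl.{u} r (2 * k) 4 := by
  obtain rfl | hk2 : k = 1 ∨ 2 ≤ k := by omega
  · exact hT.1 r hr
  obtain rfl : r = 2 := by
    by_contra h
    exact hodd r hr h ((pow_dvd_pow r hk2).trans hd)
  have hk3 : k < 3 := by
    by_contra h
    exact h8 ((pow_dvd_pow 2 (show 3 ≤ k by omega)).trans hd)
  obtain rfl : k = 2 := by omega
  exact fun A V _ _ _ _ _ L => (hT.2.2.1 A V L).mono (by norm_num)

theorem table_five_hundred (hT : Table.{u}) {e r k : ℕ} (he : 1 ≤ e) (he2 : e < 512) (hr : r.Prime) (hk : 1 ≤ k)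
    (hd : r ^ k ∣ e) : LinDl.{u} r (2 * k) 8 := by
  have hle := Nat.le_of_dvd (by omega) hd
  rcases hr.two_le.eq_or_lt with rfl | h3
  · refine hT.2.2.2.2.2.2.2 k hk ?_
    by_contra h
    have := Nat.pow_le_pow_right two_pos (show 9 ≤ k by omega)
    omega
  · refine hT.2.2.2.2.2.2.1 r k hr hk ?_
    by_contra h
    have := (Nat.pow_le_pow_right (show 0 < 3 by norm_num) (show 6 ≤ k by omega)).trans (Nat.pow_le_pow_left h3 k)
    omega

theorem prime_pow_of_dvd {s j r k : ℕ} (hs : s.Prime) (hr : r.Prime) (hk : 1 ≤ k) (hd : r ^ k ∣ s ^ j) :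
    r = s ∧ k ≤ j := by
  obtain rfl := (Nat.prime_dvd_prime_iff_eq hr hs).1 (hr.dvd_of_dvd_pow ((dvd_pow_self r (by omega)).trans hd))
  exact ⟨rfl, (Nat.pow_dvd_pow_iff_le_right hr.one_lt).1 hd⟩

theorem table_eight (hT : Table.{u}) {r k : ℕ} (hr : r.Prime) (hk : 1 ≤ k) (hd : r ^ k ∣ 8) :
    LinDl.{u} r (2 * k) 6 := by
  obtain ⟨rfl, hk3⟩ := prime_pow_of_dvd (s := 2) (j := 3) Nat.prime_two hr hk hd
  interval_cases k
  · exact fun A V _ _ _ _ _ L => (hT.1 2 hr A V L).mono (by norm_num)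
  · exact fun A V _ _ _ _ _ L => (hT.2.2.1 A V L).mono (by norm_num)
  · exact hT.2.2.2.1

theorem table_nine (hT : Table.{u}) {r k : ℕ} (hr : r.Prime) (hk : 1 ≤ k) (hd : r ^ k ∣ 9) :
    LinDl.{u} r (2 * k) 5 := by
  obtain ⟨rfl, hk2⟩ := prime_pow_of_dvd (s := 3) (j := 2) Nat.prime_three hr hk hd
  interval_cases k
  · exact fun A V _ _ _ _ _ L => (hT.1 3 hr A V L).mono (by norm_num)
  · exact hT.2.2.2.2.2.1

/-- orders of the groups induced on small layers -/
def bdSmall (e : ℕ) : ℕ :=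
  if e = 1 then 1 else if e = 2 then 6 else if e = 3 then 48 else if e = 4 then 72 else if e = 6 then 288
  else if e = 8 then 1296 else if e = 9 then 4608 else if e = 16 then 31104 else if e = 18 then 27648
  else if e = 32 then 629856 else 0

theorem card_small {e : ℕ} {R : Type u} [Group R] (hR : RangeBd.{u} e R)
    (he : e = 8 ∨ e = 9 ∨ e = 16 ∨ e = 18 ∨ e = 32) : Nat.card R ≤ bdSmall e := by
  refine hR.2 bdSmall (by decide) (fun a b hab => ?_) fun r k hr hk hd => ?_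
  · have h1 : ∀ e ∈ [8, 9, 16, 18, 32], ∀ a < 33, ∀ b < 33, a * b ∣ e →
        bdSmall a * bdSmall b ≤ bdSmall (a * b) := by decide +kernel
    have h2 : 0 < e := by omega
    refine h1 e (by simp; omega) a ?_ b ?_ hab
    · have := Nat.le_of_dvd h2 (dvd_of_mul_right_dvd hab)
      omega
    · have := Nat.le_of_dvd h2 (dvd_of_mul_left_dvd hab)
      omega
  · have hr23 : (r = 2 ∧ k ≤ 5) ∨ (r = 3 ∧ k ≤ 2) := by
      have hre := hr.dvd_of_dvd_pow (n := 1) (by simpa using (dvd_pow_self r (show k ≠ 0 by omega)).trans hd)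
      rcases he with rfl | rfl | rfl | rfl | rfl
      · exact Or.inl ((prime_pow_of_dvd (s := 2) (j := 3) Nat.prime_two hr hk hd).imp_right (by omega))
      · exact Or.inr (prime_pow_of_dvd (s := 3) (j := 2) Nat.prime_three hr hk hd)
      · exact Or.inl ((prime_pow_of_dvd (s := 2) (j := 4) Nat.prime_two hr hk hd).imp_right (by omega))
      · have h18 : r ≤ 18 := Nat.le_of_dvd (by norm_num) hre
        have hk5 : k ≤ 4 := by
          by_contra h
          have h2 := (Nat.pow_le_pow_right two_pos (show 5 ≤ k by omega)).trans (Nat.pow_le_pow_left hr.two_le k)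
          have h3 := Nat.le_of_dvd (by norm_num) hd
          omega
        interval_cases r <;> first | (exfalso; norm_num at hr; done) | (interval_cases k <;> first | (exfalso; norm_num at hd; done) | norm_num)
      · exact Or.inl (prime_pow_of_dvd (s := 2) (j := 5) Nat.prime_two hr hk hd)
    rcases hr23 with ⟨rfl, h⟩ | ⟨rfl, h⟩ <;> interval_cases k
    · exact CfsgLib.ClassLin.linBd_two_two
    · exact CfsgLib.ClassLin.linBd_two_four
    · exact CfsgLib.ClassLin.linBd_two_six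
    · exact CfsgLib.ClassLin.linBd_two_eight
    · exact CfsgLib.ClassLin.linBd_two_ten
    · exact CfsgLib.ClassLin.linBd_three_two
    · exact CfsgLib.ClassLin.linBd_three_four

/-! ### Arithmetic -/

theorem two_mul_le_pow {p : ℕ} (hp : 2 ≤ p) (a : ℕ) : 2 * a ≤ p ^ a := by
  refine le_trans ?_ (Nat.pow_le_pow_left hp a)
  induction a with
  | zero => simp
  | succ a ih =>
    have : 1 ≤ 2 ^ a := Nat.one_le_two_pow
    rw [pow_succ]
    rcases Nat.eq_zero_or_pos a with rfl | h <;> omega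

theorem card_le_half {q a e n X : ℕ} (hq : 2 ≤ q) (he : 2 ≤ e) (ha : 2 * a ≤ q) (hX : X ≤ q ^ (e - 2))
    (hn : n ≤ (q - 1) * X * a) : 2 * n ≤ q ^ e - 1 := by
  obtain ⟨j, rfl⟩ : ∃ j, e = j + 2 := ⟨e - 2, by omega⟩
  rw [Nat.add_sub_cancel] at hX
  obtain ⟨c, rfl⟩ : ∃ c, q = c + 1 := ⟨q - 1, by omega⟩
  rw [Nat.add_sub_cancel] at hn
  have h1 : 2 * n + (c + 1) ^ (j + 1) ≤ (c + 1) ^ (j + 2) := calc
    2 * n + (c + 1) ^ (j + 1) ≤ c * X * (2 * a) + (c + 1) ^ (j + 1) := by nlinarith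
    _ ≤ c * (c + 1) ^ j * (c + 1) + (c + 1) ^ (j + 1) :=
      Nat.add_le_add_right (Nat.mul_le_mul (Nat.mul_le_mul_left c hX) ha) _
    _ = _ := by ring
  have h2 : 1 ≤ (c + 1) ^ (j + 1) := Nat.one_le_pow _ _ (by omega)
  omega

theorem regular_count {q a e n X F v : ℕ} (ha : 2 * a ≤ q) (he : 8 ≤ e) (hn1 : 1 ≤ n) (hF1 : 1 ≤ F)
    (hX : 64 * X ^ 4 ≤ q ^ (e - 8)) (hn : n ≤ (q - 1) * X * a) (hv : q ^ e ≤ v) (hF : F ^ 4 ≤ v ^ 3) :
    n * (F + 4) < v := by
  have h1 : 2 * n ≤ q ^ 2 * X := calc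
    2 * n ≤ (q - 1) * X * (2 * a) := by nlinarith
    _ ≤ q * X * q := Nat.mul_le_mul (Nat.mul_le_mul_right _ (Nat.sub_le _ _)) ha
    _ = _ := by ring
  have h2 : 625 * n ^ 4 < v := calc
    625 * n ^ 4 < 64 * (2 * n) ^ 4 := by
      have : 0 < n ^ 4 := Nat.pow_pos hn1
      rw [mul_pow]
      omega
    _ ≤ 64 * (q ^ 2 * X) ^ 4 := Nat.mul_le_mul_left _ (Nat.pow_le_pow_left h1 4)
    _ = q ^ 8 * (64 * X ^ 4) := by ring
    _ ≤ q ^ 8 * q ^ (e - 8) := Nat.mul_le_mul_left _ hX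
    _ = q ^ e := by rw [← pow_add]; congr 1; omega
    _ ≤ v := hv
  have hv1 : 0 < v := by omega
  have h3 : (5 * n * F) ^ 4 < v ^ 4 := calc
    (5 * n * F) ^ 4 = 625 * n ^ 4 * F ^ 4 := by ring
    _ ≤ 625 * n ^ 4 * v ^ 3 := Nat.mul_le_mul_left _ hF
    _ < v * v ^ 3 := Nat.mul_lt_mul_of_pos_right h2 (Nat.pow_pos hv1)
    _ = v ^ 4 := by ring
  calc n * (F + 4) ≤ n * (5 * F) := Nat.mul_le_mul_left _ (by omega)
    _ = 5 * n * F := by ring
    _ < v := lt_of_pow_lt_pow_left₀ 4 (Nat.zero_le _) h3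

/-- the field with four elements and the layer of order `81` -/
theorem state_nine (hsol : Group.IsSolvable A) (h6 : ∀ v : V, v ≠ 0 → DlLE (MulAction.stabilizer A v) 6)
    {v₀ : V} (hv₀ : v₀ ≠ 0) {d n : ℕ} (hd : 9 ≤ d) (hV : Nat.card V = 4 ^ d) (hA : Nat.card A ≤ 2239488)
    (hdvd : Nat.card A ∣ 2 * 243 * n) (hn : n ≠ 0)
    (hno : ∀ r : ℕ, r.Prime → (∀ k, k ∣ 81 → k % r = 81 % r → k = 81) → ¬ r ∣ n) : State A V := by
  rcases Nat.lt_or_ge d 11 with h | h
  swap
  · refine state_of_count hsol (fun v hv => (h6 v hv).mono (by norm_num)) ?_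
    have := Nat.pow_le_pow_right (show 0 < 4 by norm_num) h
    rw [hV]
    omega
  obtain ⟨ℓ, hℓ, hℓN, hℓ2, hℓc⟩ : ∃ ℓ, ℓ.Prime ∧ ℓ ∣ 4 ^ d - 1 ∧ ¬ ℓ ∣ 2 * 243 ∧
      ∀ i ≤ 4, 3 ^ i % ℓ = 81 % ℓ → i = 4 := by
    interval_cases d
    · exact ⟨73, by norm_num, by norm_num, by norm_num, by decide⟩
    · exact ⟨41, by norm_num, by norm_num, by norm_num, by decide⟩
  obtain ⟨w, -, -, h2⟩ := orbits_two_nonzero h6 hv₀ fun hdiv => by
    rcases hℓ.dvd_mul.1 (hℓN.trans ((hV ▸ hdiv).trans hdvd)) with h1 | h1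
    · exact hℓ2 h1
    · refine hno ℓ hℓ (fun k hk hmod => ?_) h1
      obtain ⟨i, hi, rfl⟩ := (Nat.dvd_prime_pow (m := 4) Nat.prime_three).1 hk
      rw [hℓc i hi hmod]
      norm_num
  exact Or.inr (Or.inr (Or.inr h2))

/-- the field with three elements and the layer of order `64` -/
theorem state_eight (hsol : Group.IsSolvable A) {R : Type u} [Group R] [Finite R] (hRsol : Group.IsSolvable R)
    (h7 : ∀ v : V, v ≠ 0 → DlLE (MulAction.stabilizer A v) 7)
    (h6 : DlLE R 5 → ∀ v : V, v ≠ 0 → DlLE (MulAction.stabilizer A v) 6)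
    {v₀ : V} (hv₀ : v₀ ≠ 0) {d : ℕ} (hd : 8 ≤ d) (hV : Nat.card V = 3 ^ d) (hA : Nat.card A ≤ 165888)
    (hR : Nat.card R ≤ 1296) (hdvd : Nat.card A ∣ 128 * Nat.card R)
    (hno : ∀ r : ℕ, r.Prime → (∀ k, k ∣ 64 → k % r = 64 % r → k = 64) → ¬ r ∣ Nat.card R) : State A V := by
  rcases Nat.lt_or_ge d 11 with h | h
  swap
  · refine state_of_count hsol (fun v hv => (h7 v hv).mono (by norm_num)) ?_
    have := Nat.pow_le_pow_right (show 0 < 3 by norm_num) h
    rw [hV]
    omega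
  obtain ⟨ℓ, hℓ, hℓN, hℓ2, hℓc⟩ : ∃ ℓ, ℓ.Prime ∧ ℓ ∣ 3 ^ d - 1 ∧ ¬ ℓ ∣ 128 ∧
      ∀ i ≤ 6, 2 ^ i % ℓ = 64 % ℓ → i = 6 := by
    interval_cases d
    · exact ⟨41, by norm_num, by norm_num, by norm_num, by decide⟩
    · exact ⟨757, by norm_num, by norm_num, by norm_num, by decide⟩
    · exact ⟨61, by norm_num, by norm_num, by norm_num, by decide⟩
  have hnd : ¬ Nat.card V - 1 ∣ Nat.card A := fun hdiv => by
    rcases hℓ.dvd_mul.1 (hℓN.trans ((hV ▸ hdiv).trans hdvd)) with h1 | h1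
    · exact hℓ2 h1
    · refine hno ℓ hℓ (fun k hk hmod => ?_) h1
      obtain ⟨i, hi, rfl⟩ := (Nat.dvd_prime_pow (m := 6) Nat.prime_two).1 hk
      rw [hℓc i hi hmod]
      norm_num
  rcases dlLE_five_or_omega hRsol with h5 | h8
  · obtain ⟨w, -, -, h2⟩ := orbits_two_nonzero (h6 h5) hv₀ hnd
    exact Or.inr (Or.inr (Or.inr h2))
  · refine Or.inr (Or.inr (Or.inl (orbits_three_nonzero h7 hv₀ hnd fun x y hx hy hy0 => ?_)))
    rw [hV]
    exact dvd_sum_eight hd (by omega) Nat.card_pos.ne' hR h8 (hx.trans hdvd) (hy.trans hdvd) hy0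

/-- solvable from a derived length -/
theorem DlLE.isSolvable {G : Type u} [Group G] {n : ℕ} (h : DlLE G n) : Group.IsSolvable G := ⟨⟨n, h⟩⟩

theorem field_state (hT : Table.{u}) : FieldState.{u} := by
  intro A V _ _ _ _ _ U hsol hirr F hmax
  classical
  obtain ⟨p, hp, hexp⟩ := exists_exponent hirr F.nt
  haveI := Fact.mk hp
  obtain ⟨a, d, e, ha, -, hV, he, hed, hr, -, R, _, _, hRbd, hndvd, hdl, cU, cR, ci, hA, hcU, hcR, hci, hBd⟩ :=
    field_info hsol F hmax hexp
  obtain ⟨v₀, hv₀⟩ := F.nt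
  by_cases hrem : ¬ 8 ∣ e ∧ ∀ r : ℕ, r.Prime → r ≠ 2 → ¬ r ^ 2 ∣ e
  · exact Or.inr (Or.inr (Or.inr (orbits_zero
      ((hdl 4 (by norm_num) (hRbd.1 4 fun r k hr hk hd => table_small hT hr hk hd hrem.1 hrem.2)).1) hv₀)))
  have he8 : 8 ≤ e := by
    by_contra hlt
    exact hrem ⟨fun h => absurd (Nat.le_of_dvd (by omega) h) hlt, fun r hr h2 h => by
      have h3 : 3 ≤ r := by have := hr.two_le; omega
      have := (Nat.pow_le_pow_left h3 2).trans (Nat.le_of_dvd (by omega) h)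
      omega⟩
  have hq3 : 3 ≤ p ^ a := by
    obtain ⟨r, hr', hre⟩ := Nat.exists_prime_and_dvd (show e ≠ 1 by omega)
    have h1 : 1 < p ^ a := Nat.one_lt_pow (by omega) hp.one_lt
    have := Nat.le_of_dvd (by omega) (hr r hr' hre)
    have := hr'.two_le
    omega
  have h2a := two_mul_le_pow hp.two_le a
  have hpos : 1 ≤ Nat.card A := Nat.card_pos
  have hcU' : cU ≤ p ^ a - 1 := Nat.le_of_dvd (by omega) hcU
  have hqe : (p ^ a) ^ e ≤ Nat.card V := by
    rw [hV, pow_mul]
    exact Nat.pow_le_pow_right (by omega) hed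
  have hbound : ∀ N, cR ≤ N → Nat.card A ≤ (p ^ a - 1) * (e * e * N) * a := fun N hN => by
    rw [hA]
    exact Nat.mul_le_mul (Nat.mul_le_mul hcU' (Nat.mul_le_mul_left _ hN)) hci
  -- many regular orbits
  rcases Nat.lt_or_ge e 512 with he512 | he512
  swap
  · left
    have hreg := ineq_regular hq3 he512 fun h4 => by
      rcases small_field hp ha (show 2 ≤ e by omega) (by omega) hr with ⟨h, -, -⟩ | ⟨-, -, h⟩
      · omega
      · exact h
    obtain ⟨F', hF1, hFle, hfix⟩ : ∃ F' : ℕ, 1 ≤ F' ∧ F' ^ 4 ≤ Nat.card V ^ 3 ∧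
        ∀ g : A, g ≠ 1 → Nat.card (fixedOf (V := V) g) ≤ F' := by
      refine ⟨Nat.sqrt (Nat.sqrt (Nat.card V ^ 3)), ?_, ?_, fun g hg => ?_⟩
      · rw [Nat.le_sqrt', Nat.le_sqrt']
        simpa using Nat.one_le_pow 3 _ Nat.card_pos
      · rw [show (4 : ℕ) = 2 * 2 from rfl, pow_mul]
        exact (Nat.pow_le_pow_left (Nat.sqrt_le' _) 2).trans (Nat.sqrt_le' _)
      · rw [Nat.le_sqrt', Nat.le_sqrt', ← pow_mul]
        exact card_fixedOf_le hsol F hmax hg
    exact orbits_regular hfix (regular_count h2a he8 hpos hF1 hreg (hbound _ hBd) hqe hFle)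
  -- stabilisers
  have h9 : ∀ v : V, v ≠ 0 → DlLE (MulAction.stabilizer A v) 9 :=
    (hdl 8 (by norm_num) (hRbd.1 8 fun r k hr hk hd => table_five_hundred hT he he512 hr hk hd)).2
  have hcount : ∀ N, cR ≤ N → e * e * N ≤ (p ^ a) ^ (e - 2) → State A V := fun N hN hX => by
    refine state_of_count hsol h9 ?_
    have h1 := card_le_half (by omega) (by omega) h2a hX (hbound N hN)
    omega
  have hsmall : (e = 8 ∨ e = 9 ∨ e = 16 ∨ e = 18 ∨ e = 32) → cR ≤ bdSmall e := fun h =>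
    (Nat.le_of_dvd Nat.card_pos hcR).trans (card_small hRbd h)
  rcases Nat.lt_or_ge (p ^ a) 7 with hlt | hge
  swap
  · rcases Nat.lt_or_ge e 22 with h22 | h22
    · have h4 : e = 8 ∨ e = 9 ∨ e = 16 ∨ e = 18 := by
        by_contra hc
        refine hrem ⟨fun h => ?_, fun r hr' h2 h => ?_⟩
        · omega
        · have h5 : r < 5 := by
            by_contra h5
            have := (Nat.pow_le_pow_left (show 5 ≤ r by omega) 2).trans (Nat.le_of_dvd (by omega) h)
            omega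
          interval_cases r <;> first | (exfalso; norm_num at hr'; done) | omega | skip
          all_goals (norm_num at h; omega)
      refine hcount _ (hsmall (by omega)) (le_trans ?_ (Nat.pow_le_pow_left hge _))
      rcases h4 with rfl | rfl | rfl | rfl <;> decide +kernel
    · exact hcount _ hBd (ineq_seven hge h22)
  rcases small_field hp ha (show 2 ≤ e by omega) hlt hr with ⟨hq, ha2, k, rfl⟩ | ⟨hq, ha1, k, rfl⟩
  · -- three-powers over four elements
    have hk2 : 2 ≤ k := by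
      by_contra h
      have := Nat.pow_le_pow_right (show 0 < 3 by norm_num) (show k ≤ 1 by omega)
      omega
    rcases Nat.lt_or_ge k 5 with hk5 | hk5
    swap
    · exact hcount _ hBd (ineq_big hq3 (le_trans (by norm_num) (Nat.pow_le_pow_right (show 0 < 3 by norm_num) hk5)))
    rcases hk2.eq_or_lt with rfl | hk3
    swap
    · exact hcount _ hBd (ineq_pow_three hq.ge (by omega))
    subst ha2
    have hp2 : p = 2 := Nat.pow_left_injective (show (2 : ℕ) ≠ 0 by norm_num) (hq : p ^ 2 = 2 ^ 2)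
    subst hp2
    have hR := card_small hRbd (Or.inr (Or.inl rfl))
    have hN : bdSmall (3 ^ 2) = 4608 := by decide
    rw [hN] at hR
    have hci2 : ci = 1 ∨ ci = 2 := by
      rcases Nat.eq_zero_or_pos ci with rfl | h
      · rw [mul_zero] at hA; omega
      · omega
    refine state_nine hsol ((hdl 5 (by norm_num) (hRbd.1 5 fun r k hr hk hd => table_nine hT hr hk hd)).2) hv₀
      (d := d) (n := Nat.card R) (by omega) (by rw [hV, pow_mul, show (2 : ℕ) ^ 2 = 4 by norm_num]) ?_ ?_ Nat.card_pos.ne'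
      (fun r hr' hk => hndvd r hr' hk)
    · exact (hbound 4608 ((Nat.le_of_dvd Nat.card_pos hcR).trans hR)).trans (by norm_num)
    · rw [hA]
      have h3 : cU * (3 ^ 2 * 3 ^ 2 * cR) ∣ 243 * Nat.card R := by
        have := Nat.mul_dvd_mul hcU (Nat.mul_dvd_mul_left (3 ^ 2 * 3 ^ 2) hcR)
        refine this.trans ?_
        norm_num
        exact dvd_of_eq (by ring)
      rw [mul_assoc 2 243 _, mul_comm 2 (243 * Nat.card R)]
      exact Nat.mul_dvd_mul h3 (by rcases hci2 with rfl | rfl <;> norm_num)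
  · -- two-powers over three or five elements
    subst ha1
    have hk3 : 3 ≤ k := by
      by_contra h
      have := Nat.pow_le_pow_right two_pos (show k ≤ 2 by omega)
      omega
    rcases Nat.lt_or_ge k 7 with hk7 | hk7
    swap
    · exact hcount _ hBd (ineq_big hq3 (le_trans (by norm_num) (Nat.pow_le_pow_right two_pos hk7)))
    simp only [pow_one, one_mul] at hq hq3 hV hcU' hcU hqe hbound hcount
    interval_cases k
    · -- the layer of order 64
      have hcR' : cR ≤ 1296 := hsmall (by norm_num)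
      have hA' := hbound 1296 hcR'
      rcases hq with rfl | rfl
      swap
      · refine state_of_count hsol h9 ?_
        norm_num at hA' hqe
        omega
      have hR : Nat.card R ≤ 1296 := card_small hRbd (Or.inl rfl)
      have hci1 : ci = 1 := by
        rcases Nat.eq_zero_or_pos ci with rfl | h
        · rw [mul_zero] at hA; omega
        · omega
      have h5R := hRbd.1 6 fun r k hr hk hd => table_eight hT hr hk hd
      refine state_eight hsol h5R.isSolvable ((hdl 6 (by norm_num) h5R).2)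
        (fun h5 => (hdl 5 (by norm_num) h5).2) hv₀ (d := d) (by omega) hV
        (hA'.trans (by norm_num)) hR ?_ fun r hr' hk => hndvd r hr' hk
      rw [hA, hci1, mul_one]
      refine (Nat.mul_dvd_mul hcU (Nat.mul_dvd_mul_left (2 ^ 3 * 2 ^ 3) hcR)).trans ?_
      norm_num
      exact dvd_of_eq (by ring)
    · -- the layer of order 256
      have hcR' : cR ≤ 31104 := hsmall (by norm_num)
      rcases hq with rfl | rfl
      · refine state_of_count hsol h9 ?_
        have hA' := hbound 31104 hcR'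
        norm_num at hA' hqe
        omega
      · exact hcount 31104 hcR' (by norm_num)
    · exact hcount 629856 (hsmall (by norm_num)) (le_trans (by norm_num) (Nat.pow_le_pow_left hq3 _))
    · exact hcount _ hBd (ineq_pow_two p hq3)

end CfsgLib.DlNine
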