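import Cfsg.Agent.Lib.Perm.DlNine.Length
import Cfsg.Agent.Lib.ClassLin.Field

/-!
Derived length nine, the field case: choosing vectors in different orbits, and fixed points.
-/

set_option autoImplicit false
set_option linter.unusedSectionVars false
set_option linter.style.haveILetI false

namespace CfsgLib.DlNine

open CfsgLib.BaseTwo (FieldCase)

universe u

variable {A V : Type u} [Group A] [Finite A] [AddCommGroup V] [Finite V] [DistribMulAction A V]

theorem card_orbit_mul (v : V) :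
    Nat.card (MulAction.orbit A v) * Nat.card (MulAction.stabilizer A v) = Nat.card A := by
  rw [Nat.card_coe_set_eq, ← MulAction.index_stabilizer, mul_comm, Subgroup.card_mul_index]

theorem card_orbit_le (v : V) : Nat.card (MulAction.orbit A v) ≤ Nat.card A :=
  (Nat.le_mul_of_pos_right _ Nat.card_pos).trans_eq (card_orbit_mul v)

/-- enough vectors give vectors in different orbits -/
theorem exists_separate {S : Set V} {M : ℕ} (hM : ∀ v ∈ S, Nat.card (MulAction.orbit A v) ≤ M) :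
    ∀ k : ℕ, (k - 1) * M < Nat.card S → ∃ f : Fin k → V, (∀ i, f i ∈ S) ∧ ∀ (i j : Fin k) (a : A), a • f i = f j → i = j := by
  classical
  intro k
  induction k with
  | zero => exact fun _ => ⟨Fin.elim0, fun i => i.elim0, fun i => i.elim0⟩
  | succ k ih =>
    intro h
    rw [Nat.add_sub_cancel] at h
    obtain ⟨f, hf, hsep⟩ := ih (lt_of_le_of_lt (Nat.mul_le_mul_right M (Nat.sub_le k 1)) h)
    obtain ⟨v, hv, hvn⟩ : ∃ v ∈ S, ∀ i, v ∉ MulAction.orbit A (f i) := by
      by_contra hcon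
      push Not at hcon
      let g : (Σ i : Fin k, MulAction.orbit A (f i)) → V := fun x => (x.2 : V)
      have hsub : S ⊆ Set.range g := fun v hv => by
        obtain ⟨i, hi⟩ := hcon v hv
        exact ⟨⟨i, v, hi⟩, rfl⟩
      have h1 : Nat.card S ≤ k * M := calc
        Nat.card S ≤ Nat.card (Set.range g) := Nat.card_mono (Set.toFinite _) hsub
        _ ≤ Nat.card (Σ i : Fin k, MulAction.orbit A (f i)) := Finite.card_range_le g
        _ = ∑ i, Nat.card (MulAction.orbit A (f i)) := Nat.card_sigma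
        _ ≤ ∑ _i : Fin k, M := Finset.sum_le_sum fun i _ => hM _ (hf i)
        _ = k * M := by simp
      omega
    refine ⟨Fin.cons v f, fun i => Fin.cases hv hf i, fun i j a => ?_⟩
    refine Fin.cases ?_ (fun i => ?_) i <;> refine Fin.cases ?_ (fun j => ?_) j <;>
      simp only [Fin.cons_zero, Fin.cons_succ]
    · exact fun _ => trivial
    · exact fun h => absurd ⟨a⁻¹, show a⁻¹ • f j = v by rw [← h, inv_smul_smul]⟩ (hvn j)
    · exact fun h => absurd ⟨a, h⟩ (hvn i)
    · exact fun h => congrArg Fin.succ (hsep i j a h)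

/-- enough orbits among vectors with small stabilisers -/
theorem orbits_of_card {S : Set V} {M k n : ℕ} (hM : ∀ v ∈ S, Nat.card (MulAction.orbit A v) ≤ M)
    (hk : (k - 1) * M < Nat.card S) (hn : ∀ v ∈ S, DlLE (MulAction.stabilizer A v) n) : Orbits A V k n := by
  obtain ⟨f, hf, hsep⟩ := exists_separate hM k hk
  exact ⟨f, fun i => hn _ (hf i), hsep⟩

theorem orbits_two {n : ℕ} (v w : V) (hv : DlLE (MulAction.stabilizer A v) n)
    (hw : DlLE (MulAction.stabilizer A w) n) (h : ∀ a : A, a • v ≠ w) : Orbits A V 2 n := by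
  refine ⟨![v, w], fun i => ?_, fun i j a => ?_⟩
  · fin_cases i <;> assumption
  · fin_cases i <;> fin_cases j <;> simp only [Fin.mk_zero, Fin.mk_one, Fin.isValue, Matrix.cons_val_zero,
      Matrix.cons_val_one, imp_self, implies_true]
    · exact fun h' => absurd h' (h a)
    · exact fun h' => absurd (show a⁻¹ • v = w by rw [← h', inv_smul_smul]) (h a⁻¹)

theorem orbits_zero {n : ℕ} (hA : DlLE A n) {v : V} (hv : v ≠ 0) : Orbits A V 2 n :=
  orbits_two 0 v (hA.subgroup _) (hA.subgroup _) fun a h => hv (by rw [← h, smul_zero])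

theorem card_compl_zero : Nat.card ({0}ᶜ : Set V) = Nat.card V - 1 := by
  rw [Nat.card_coe_set_eq, Set.ncard_compl, Set.ncard_singleton]

/-- the general criterion: stabilisers of derived length nine, and not too few vectors -/
theorem state_of_count (hsol : Group.IsSolvable A) (h9 : ∀ v : V, v ≠ 0 → DlLE (MulAction.stabilizer A v) 9)
    (hcount : 1027 * Nat.card A < 1024 * (Nat.card V - 1)) : State A V := by
  classical
  haveI := hsol
  have hne : Nat.card ({0}ᶜ : Set V) ≠ 0 := by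
    rw [card_compl_zero]; omega
  obtain ⟨⟨v₀, hv₀⟩⟩ := (Nat.card_ne_zero.1 hne).1
  obtain ⟨v, hv, hpref⟩ : ∃ v : V, v ≠ 0 ∧ ∀ w : V, w ≠ 0 → Nat.card (MulAction.stabilizer A w) < 1024 →
      Nat.card (MulAction.stabilizer A v) < 1024 := by
    by_cases h : ∃ w : V, w ≠ 0 ∧ Nat.card (MulAction.stabilizer A w) < 1024
    · obtain ⟨w, hw, hlt⟩ := h
      exact ⟨w, hw, fun _ _ _ => hlt⟩
    · exact ⟨v₀, hv₀, fun w hw hlt => absurd ⟨w, hw, hlt⟩ h⟩
  have h6 : ∀ w : V, Nat.card (MulAction.stabilizer A w) < 1024 → DlLE (MulAction.stabilizer A w) 6 := fun w hw =>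
    (dlLE_six_or_card inferInstance).resolve_right (by omega)
  by_cases htwo : ∃ w : V, w ≠ 0 ∧ w ∉ MulAction.orbit A v ∧ Nat.card (MulAction.stabilizer A w) < 1024
  · obtain ⟨w, hw, hno, hlt⟩ := htwo
    exact Or.inr (Or.inr (Or.inr (orbits_two v w (h6 v (hpref w hw hlt)) (h6 w hlt)
      fun a ha => hno ⟨a, ha⟩)))
  push Not at htwo
  left
  set S : Set V := {w | w ≠ 0 ∧ w ∉ MulAction.orbit A v}
  have hS : Nat.card V - 1 ≤ Nat.card (MulAction.orbit A v) + Nat.card S := by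
    rw [← card_compl_zero, Nat.card_coe_set_eq, Nat.card_coe_set_eq, Nat.card_coe_set_eq]
    refine (Set.ncard_le_ncard (fun w hw => ?_) (Set.toFinite _)).trans (Set.ncard_union_le _ _)
    by_cases hwo : w ∈ MulAction.orbit A v
    · exact Or.inl hwo
    · exact Or.inr ⟨hw, hwo⟩
  have hM : ∀ w ∈ S, Nat.card (MulAction.orbit A w) ≤ Nat.card A / 1024 := fun w hw => by
    rw [Nat.le_div_iff_mul_le (by norm_num), ← card_orbit_mul (A := A) w]
    exact Nat.mul_le_mul_left _ (htwo w hw.1 hw.2)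
  have hvA := card_orbit_le (A := A) v
  have hlt : (4 - 1) * (Nat.card A / 1024) < Nat.card S := by omega
  obtain ⟨f, hf, hsep⟩ := exists_separate hM 4 hlt
  refine ⟨Fin.cons v f, fun i => ?_, fun i j a => ?_⟩
  · exact Fin.cases (motive := fun i => DlLE (MulAction.stabilizer A ((Fin.cons v f : Fin 5 → V) i)) 9)
      (h9 v hv) (fun i => h9 _ (hf i).1) i
  · refine Fin.cases ?_ (fun i => ?_) i <;> refine Fin.cases ?_ (fun j => ?_) j <;>
      simp only [Fin.cons_zero, Fin.cons_succ]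
    · exact fun _ => trivial
    · exact fun h => absurd ⟨a, h⟩ (hf j).2
    · exact fun h => absurd ⟨a⁻¹, show a⁻¹ • v = f i by rw [← h, inv_smul_smul]⟩ (hf i).2
    · exact fun h => congrArg Fin.succ (hsep i j a h)

/-- the fixed vectors of an element -/
def fixedOf (g : A) : AddSubgroup V where
  carrier := {v | g • v = v}
  zero_mem' := smul_zero g
  add_mem' := fun {v w} hv hw => show g • (v + w) = v + w by
    rw [smul_add, show g • v = v from hv, show g • w = w from hw]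
  neg_mem' := fun {v} hv => show g • -v = -v by rw [smul_neg, show g • v = v from hv]

theorem card_mul_le (X Y : AddSubgroup V) :
    Nat.card X * Nat.card Y ≤ Nat.card V * Nat.card (X ⊓ Y : AddSubgroup V) := by
  let f : X × Y →+ V := X.subtype.coprod Y.subtype
  rw [← Nat.card_prod, ← f.ker.card_mul_index, AddSubgroup.index_ker, mul_comm]
  refine Nat.mul_le_mul (Nat.card_le_card_of_injective _ Subtype.val_injective) ?_
  have hmem : ∀ z : f.ker, ((z : X × Y).1 : V) ∈ X ⊓ Y := fun z => ⟨(z : X × Y).1.2, by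
    have h : ((z : X × Y).1 : V) + (z : X × Y).2 = 0 := z.2
    rw [eq_neg_of_add_eq_zero_left h]
    exact Y.neg_mem (z : X × Y).2.2⟩
  refine Nat.card_le_card_of_injective (fun z => (⟨_, hmem z⟩ : (X ⊓ Y : AddSubgroup V))) fun z z' h => ?_
  have h1 : ((z : X × Y).1 : V) = (z' : X × Y).1 := congrArg (fun w : (X ⊓ Y : AddSubgroup V) => (w : V)) h
  have h2 : ((z : X × Y).1 : V) + (z : X × Y).2 = 0 := z.2
  have h2' : ((z' : X × Y).1 : V) + (z' : X × Y).2 = 0 := z'.2
  refine Subtype.ext (Prod.ext (Subtype.ext h1) (Subtype.ext ?_))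
  rw [eq_neg_of_add_eq_zero_right h2, eq_neg_of_add_eq_zero_right h2', h1]

/-- a commutator bounds the fixed points -/
theorem fixedOf_sq_le (g y : A) :
    Nat.card (fixedOf (V := V) g) * Nat.card (fixedOf (V := V) g) ≤
      Nat.card V * Nat.card (fixedOf (V := V) (y * g * y⁻¹ * g⁻¹)) := by
  have hY : Nat.card (fixedOf (V := V) g) = Nat.card (fixedOf (V := V) (y * g * y⁻¹)) := by
    refine Nat.card_congr ⟨fun v => ⟨y • (v : V), ?_⟩, fun v => ⟨y⁻¹ • (v : V), ?_⟩, fun v => ?_, fun v => ?_⟩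
    · show (y * g * y⁻¹) • y • (v : V) = y • (v : V)
      rw [mul_smul, mul_smul, inv_smul_smul, show g • (v : V) = v from v.2]
    · show g • y⁻¹ • (v : V) = y⁻¹ • (v : V)
      have h : (y * g * y⁻¹) • (v : V) = v := v.2
      rw [mul_smul, mul_smul] at h
      rw [← inv_smul_smul y (g • y⁻¹ • (v : V)), h]
    · exact Subtype.ext (inv_smul_smul _ _)
    · exact Subtype.ext (smul_inv_smul _ _)
  nth_rewrite 2 [hY]
  refine (card_mul_le _ _).trans (Nat.mul_le_mul_left _ (Nat.card_mono (Set.toFinite _) ?_))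
  rintro v ⟨h1, h2⟩
  show (y * g * y⁻¹ * g⁻¹) • v = v
  rw [mul_smul, show g⁻¹ • v = v by rw [inv_smul_eq_iff]; exact (h1 : g • v = v).symm]
  exact h2

/-- only zero is fixed by a nontrivial scalar -/
theorem card_fixedOf_scalar {U : Subgroup A} (F : FieldCase A V U) {g : A} (hg : g ∈ U) (hg1 : g ≠ 1) :
    Nat.card (fixedOf (V := V) g) = 1 := by
  rw [AddSubgroup.card_eq_one, eq_bot_iff]
  exact fun v hv => AddSubgroup.mem_bot.2 (F.eq_zero_of_smul_eq hg hg1 hv)

/-- **Fixed points.** A nontrivial element fixes at most three quarters of the dimension. -/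
theorem card_fixedOf_le (hsol : Group.IsSolvable A) {U : Subgroup A} (F : FieldCase A V U)
    (hmax : ∀ W : Subgroup A, W.Normal → U ≤ W → (∀ x ∈ W, ∀ y ∈ W, x * y = y * x) → W = U)
    {g : A} (hg : g ≠ 1) : Nat.card (fixedOf (V := V) g) ^ 4 ≤ Nat.card V ^ 3 := by
  obtain ⟨E, hEn, -, hEC, hcomm, -, hcent⟩ := CfsgLib.ClassPSq.exists_layer hsol F.normal F.comm hmax
  have hV1 : 1 ≤ Nat.card V := Nat.card_pos
  have hsq : ∀ h y : A, y * h * y⁻¹ * h⁻¹ ∈ U → y * h ≠ h * y →
      Nat.card (fixedOf (V := V) h) ^ 2 ≤ Nat.card V := fun h y hc hne => by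
    have := fixedOf_sq_le (V := V) h y
    rwa [card_fixedOf_scalar F hc (fun e => hne (by rwa [mul_inv_eq_one, mul_inv_eq_iff_eq_mul] at e)), mul_one,
      ← pow_two] at this
  have hfour : ∀ h y : A, y * h * y⁻¹ * h⁻¹ ∈ U → y * h ≠ h * y →
      Nat.card (fixedOf (V := V) h) ^ 4 ≤ Nat.card V ^ 3 := fun h y hc hne => calc
    Nat.card (fixedOf (V := V) h) ^ 4 = (Nat.card (fixedOf (V := V) h) ^ 2) ^ 2 := by ring
    _ ≤ Nat.card V ^ 2 := Nat.pow_le_pow_left (hsq h y hc hne) 2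
    _ ≤ Nat.card V ^ 3 := Nat.pow_le_pow_right hV1 (by norm_num)
  by_cases hgU : g ∈ U
  · rw [card_fixedOf_scalar F hgU hg, one_pow]
    exact Nat.one_le_pow _ _ hV1
  by_cases hgC : g ∈ Subgroup.centralizer (U : Set A)
  swap
  · rw [Subgroup.mem_centralizer_iff] at hgC
    push Not at hgC
    obtain ⟨u, hu, hne⟩ := hgC
    refine hfour g u ?_ hne
    rw [show u * g * u⁻¹ * g⁻¹ = u * (g * u⁻¹ * g⁻¹) by group]
    exact mul_mem hu (F.normal.conj_mem _ (inv_mem hu) g)
  obtain ⟨y, hy, hne⟩ : ∃ y ∈ E, y * g ≠ g * y := by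
    by_contra hcon
    push Not at hcon
    exact hgU (hcent.le ⟨hgC, Subgroup.mem_centralizer_iff.2 hcon⟩)
  by_cases hcU : y * g * y⁻¹ * g⁻¹ ∈ U
  · exact hfour g y hcU hne
  have hEE : y * g * y⁻¹ * g⁻¹ ∈ Subgroup.centralizer (U : Set A) :=
    mul_mem (mul_mem (mul_mem (hEC hy) hgC) (inv_mem (hEC hy))) (inv_mem hgC)
  by_cases hz : ∃ z : A, z * (y * g * y⁻¹ * g⁻¹) * z⁻¹ * (y * g * y⁻¹ * g⁻¹)⁻¹ ∈ U ∧
      z * (y * g * y⁻¹ * g⁻¹) ≠ (y * g * y⁻¹ * g⁻¹) * z
  · obtain ⟨z, hz1, hz2⟩ := hz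
    calc Nat.card (fixedOf (V := V) g) ^ 4 = (Nat.card (fixedOf (V := V) g) ^ 2) ^ 2 := by ring
      _ ≤ (Nat.card V * Nat.card (fixedOf (V := V) (y * g * y⁻¹ * g⁻¹))) ^ 2 :=
          Nat.pow_le_pow_left ((pow_two _).trans_le (fixedOf_sq_le g y)) 2
      _ = Nat.card V ^ 2 * Nat.card (fixedOf (V := V) (y * g * y⁻¹ * g⁻¹)) ^ 2 := by ring
      _ ≤ Nat.card V ^ 2 * Nat.card V := Nat.mul_le_mul_left _ (hsq _ z hz1 hz2)
      _ = Nat.card V ^ 3 := by ring
  exfalso
  push Not at hz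
  refine hcU (hcent.le ⟨hEE, Subgroup.mem_centralizer_iff.2 fun z hzE => hz z ?_⟩)
  have hcE : y * g * y⁻¹ * g⁻¹ ∈ E := by
    rw [show y * g * y⁻¹ * g⁻¹ = y * (g * y⁻¹ * g⁻¹) by group]
    exact mul_mem hy (hEn.conj_mem _ (inv_mem hy) g)
  exact hcomm z hzE _ hcE

/-- regular orbits from few fixed points -/
theorem orbits_regular {F : ℕ} (hfix : ∀ g : A, g ≠ 1 → Nat.card (fixedOf (V := V) g) ≤ F)
    (h : Nat.card A * (F + 4) < Nat.card V) : Orbits A V 5 9 := by
  classical
  let B : Set V := {v | ∃ g : A, g ≠ 1 ∧ g • v = v}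
  have hB : Nat.card B ≤ Nat.card A * F := by
    let f : (Σ g : {g : A // g ≠ 1}, fixedOf (V := V) g.1) → V := fun x => (x.2 : V)
    haveI := Fintype.ofFinite A
    calc Nat.card B ≤ Nat.card (Set.range f) := Nat.card_mono (Set.toFinite _)
          (fun v ⟨g, hg, hgv⟩ => ⟨⟨⟨g, hg⟩, v, hgv⟩, rfl⟩)
      _ ≤ Nat.card (Σ g : {g : A // g ≠ 1}, fixedOf (V := V) g.1) := Finite.card_range_le f
      _ = ∑ g : {g : A // g ≠ 1}, Nat.card (fixedOf (V := V) g.1) := Nat.card_sigma
      _ ≤ ∑ _g : {g : A // g ≠ 1}, F := Finset.sum_le_sum fun g _ => hfix _ g.2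
      _ ≤ Nat.card A * F := by
        rw [Finset.sum_const, smul_eq_mul, Finset.card_univ, Fintype.card_eq_nat_card]
        exact Nat.mul_le_mul_right _ (Nat.card_le_card_of_injective _ Subtype.val_injective)
  refine orbits_of_card (S := Bᶜ) (fun v _ => card_orbit_le v) ?_ fun v hv => ?_
  · rw [Nat.card_coe_set_eq, Set.ncard_compl, ← Nat.card_coe_set_eq]
    rw [Nat.mul_add] at h
    omega
  · haveI : Subsingleton (MulAction.stabilizer A v) := ⟨fun x y => by
      have h1 : ∀ z : MulAction.stabilizer A v, (z : A) = 1 := fun z => by_contra fun hz => hv ⟨z, hz, z.2⟩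
      exact Subtype.ext ((h1 x).trans (h1 y).symm)⟩
    exact DlLE.of_subsingleton 9

end CfsgLib.DlNine
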