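import Cfsg.Agent.Lib.Perm.DlNine.Defs
import Cfsg.Agent.Lib.ClassLin.Layer

/-!
Derived length nine: the group induced on a layer, a module with an alternating pairing and no invariant isotropic
subgroup, decomposes into irreducible symplectic groups of prime exponent.
-/

set_option autoImplicit false
set_option linter.unusedSectionVars false
set_option linter.style.haveILetI false
set_option maxHeartbeats 1000000

namespace CfsgLib.DlNine

open CfsgLib.BaseTwo (Irr Inv)
open CfsgLib.ClassPSq (IsPairing)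
open CfsgLib.ClassLin (LinGrp LinBd restrictAct card_hom_le)

universe u

/-- what is known of the group `T` induced on a layer of order `e * e` -/
def RangeBd (e : ℕ) (T : Type u) [Group T] : Prop :=
  (∀ D, (∀ r k, r.Prime → 1 ≤ k → r ^ k ∣ e → LinDl.{u} r (2 * k) D) → DlLE T D) ∧
  ∀ N : ℕ → ℕ, 1 ≤ N 1 → (∀ a b, a * b ∣ e → N a * N b ≤ N (a * b)) →
    (∀ r k, r.Prime → 1 ≤ k → r ^ k ∣ e → LinBd.{u} r (2 * k) (N (r ^ k))) → Nat.card T ≤ N e

variable {A W μ : Type u} [Group A] [Finite A] [CommGroup W] [Finite W] [CommGroup μ] [Finite μ]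
  [IsCyclic μ] {β : W → W → μ}

theorem range_irreducible (hsol : Group.IsSolvable A) (act : A →* MulAut W) {q : ℕ} (hq : q.Prime)
    (hexp : ∀ w : W, w ^ q = 1) (hirr : ∀ Y : Subgroup W, (∀ a : A, ∀ y ∈ Y, act a y ∈ Y) → Y = ⊥ ∨ Y = ⊤)
    {e : ℕ} (he : Nat.card W = e * e) (hW1 : 1 < Nat.card W) : RangeBd.{u} e act.range := by
  classical
  haveI : Fact q.Prime := ⟨hq⟩
  haveI : Finite (MulAut W) := Finite.of_injective (fun φ : MulAut W => (φ : W → W)) DFunLike.coe_injective
  obtain ⟨n, hn⟩ : ∃ n, Nat.card W = q ^ n := by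
    refine IsPGroup.iff_card.1 fun w => ⟨1, ?_⟩
    rw [pow_one, hexp]
  obtain ⟨d, -, hd⟩ := (Nat.dvd_prime_pow hq).1 (show e ∣ q ^ n from hn ▸ he ▸ dvd_mul_right e e)
  subst hd
  have hd1 : 1 ≤ d := by
    rcases Nat.eq_zero_or_pos d with rfl | h
    · rw [pow_zero] at he; omega
    · exact h
  -- the linear group
  let T : Subgroup (MulAut W) := act.range
  letI : DistribMulAction T (Additive W) :=
    { smul := fun s x => Additive.ofMul ((s : MulAut W) x.toMul)
      one_smul := fun x => rfl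
      mul_smul := fun s t x => rfl
      smul_zero := fun s => by
        show Additive.ofMul ((s : MulAut W) 1) = 0
        rw [map_one]; rfl
      smul_add := fun s x y => by
        show Additive.ofMul ((s : MulAut W) (x.toMul * y.toMul)) = _
        rw [map_mul]; rfl }
  have L : LinGrp T (Additive W) q (2 * d) := by
    refine ⟨(haveI := hsol; Group.isSolvable_of_surjective act.rangeRestrict_surjective), fun s hs => ?_, ?_, ?_, ?_,
      by omega⟩
    · exact Subtype.ext (MulEquiv.ext fun w => congrArg Additive.toMul (hs (Additive.ofMul w)))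
    · intro Y hY
      let Y' : Subgroup W := AddSubgroup.toSubgroup' Y
      have h := hirr Y' fun a y hy => hY ⟨_, a, rfl⟩ trivial (Additive.ofMul y) hy
      rcases h with h | h
      · left
        rw [eq_bot_iff]
        intro y hy
        have : y.toMul ∈ Y' := hy
        rw [h, Subgroup.mem_bot] at this
        exact AddSubgroup.mem_bot.2 (congrArg Additive.ofMul this)
      · right
        rw [eq_top_iff]
        intro y _
        exact (show y.toMul ∈ Y' by rw [h]; trivial)
    · intro v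
      rw [← ofMul_toMul v, ← ofMul_pow, hexp, ofMul_one]
    · rw [show Nat.card (Additive W) = Nat.card W from rfl, he, ← pow_add, two_mul]
  exact ⟨fun D hD => hD q d hq hd1 dvd_rfl T (Additive W) L,
    fun N _ _ hN => hN q d hq hd1 dvd_rfl T (Additive W) L⟩

/-- **The layer.** -/
theorem range_bd (hβ : IsPairing β) (hsol : Group.IsSolvable A) (act : A →* MulAut W)
    (horth : ∀ (c : A) (x y : W), β x y = 1 → β (act c x) (act c y) = 1)
    (hno : ∀ X : Subgroup W, (∀ c : A, ∀ x ∈ X, act c x ∈ X) → (∀ x ∈ X, ∀ y ∈ X, β x y = 1) → X = ⊥)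
    {e : ℕ} (he : Nat.card W = e * e) : RangeBd.{u} e act.range := by
  classical
  induction hn : Nat.card W using Nat.strong_induction_on generalizing W e with
  | _ n ih =>
  subst hn
  haveI : Finite (MulAut W) := Finite.of_injective (fun φ : MulAut W => (φ : W → W)) DFunLike.coe_injective
  rcases Nat.lt_or_ge 1 (Nat.card W) with hW1 | hW1
  swap
  · have : Subsingleton W := Finite.card_le_one_iff_subsingleton.1 hW1
    have : Subsingleton (MulAut W) := ⟨fun a b => MulEquiv.ext fun w => Subsingleton.elim _ _⟩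
    obtain rfl : e = 1 := Nat.eq_one_of_mul_eq_one_right (he.symm.trans (Nat.card_of_subsingleton (1 : W)))
    refine ⟨fun D _ => DlLE.of_subsingleton D, fun N h1 _ _ => ?_⟩
    rw [Nat.card_of_subsingleton (1 : act.range)]
    exact h1
  -- a minimal invariant subgroup
  obtain ⟨X, ⟨hX, hXne⟩, hXmin⟩ := Set.Finite.exists_minimal
    (s := {X : Subgroup W | (∀ a : A, ∀ x ∈ X, act a x ∈ X) ∧ X ≠ ⊥}) (Set.toFinite _)
    ⟨⊤, fun _ _ _ => trivial, fun h => by
      have h1 : Nat.card W = 1 := by rw [← Subgroup.card_top (G := W), h, Subgroup.card_bot]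
      omega⟩
  obtain ⟨q, hq, hqX⟩ := Nat.exists_prime_and_dvd (fun h => hXne (Subgroup.card_eq_one.1 h) : Nat.card X ≠ 1)
  haveI : Fact q.Prime := ⟨hq⟩
  have hXq : ∀ x ∈ X, x ^ q = 1 := by
    let Xq : Subgroup W := X ⊓ (powMonoidHom q : W →* W).ker
    have h1 : ∀ a : A, ∀ x ∈ Xq, act a x ∈ Xq := fun a x hx => ⟨hX a x hx.1, by
      show (act a x) ^ q = 1
      rw [← map_pow, show x ^ q = 1 from hx.2, map_one]⟩
    have h2 : Xq ≠ ⊥ := fun h => by
      obtain ⟨x, hx⟩ := exists_prime_orderOf_dvd_card' (G := X) q hqX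
      have : (x : W) ∈ Xq := ⟨x.2, by
        show (x : W) ^ q = 1
        rw [← hx, ← Subgroup.coe_pow, pow_orderOf_eq_one, Subgroup.coe_one]⟩
      rw [h, Subgroup.mem_bot, OneMemClass.coe_eq_one] at this
      rw [this, orderOf_one] at hx
      exact hq.one_lt.ne hx
    exact fun x hx => ((hXmin ⟨h1, h2⟩ inf_le_left) hx).2
  -- its orthogonal
  let Y : Subgroup W := ⨅ x : X, (hβ.toHom (x : W)).ker
  have hmemY : ∀ {w : W}, w ∈ Y ↔ ∀ x ∈ X, β x w = 1 := fun {w} => by
    show w ∈ (⨅ x : X, (hβ.toHom (x : W)).ker) ↔ _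
    rw [Subgroup.mem_iInf]
    exact ⟨fun h x hx => h ⟨x, hx⟩, fun h x => h x x.2⟩
  have hY : ∀ a : A, ∀ y ∈ Y, act a y ∈ Y := fun a y hy => hmemY.2 fun x hx => by
    have h1 := hmemY.1 hy (act a⁻¹ x) (hX a⁻¹ x hx)
    have h2 := horth a _ _ h1
    rwa [← MulAut.mul_apply, ← map_mul, mul_inv_cancel, map_one, MulAut.one_apply] at h2
  have hXY : X ⊓ Y = ⊥ := hno _ (fun a x hx => ⟨hX a x hx.1, hY a x hx.2⟩)
    fun x hx y hy => hmemY.1 hy.2 x hx.1
  by_cases hXtop : X = ⊤
  · refine range_irreducible hsol act hq (fun w => hXq w (hXtop ▸ Subgroup.mem_top w)) (fun Z hZ => ?_) he hW1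
    by_cases hZ0 : Z = ⊥
    · exact Or.inl hZ0
    · exact Or.inr (top_le_iff.1 (hXtop ▸ hXmin ⟨hZ, hZ0⟩ (hXtop ▸ le_top)))
  -- the restrictions of the pairing
  let βX : X → X → μ := fun x y => β x y
  have hβX : IsPairing βX :=
    ⟨fun a b c => hβ.mul_left a b c, fun a b c => hβ.mul_right a b c, fun a => hβ.alt a, fun a ha => by
      have : (a : W) ∈ X ⊓ Y := ⟨a.2, hmemY.2 fun x hx => by
        rw [hβ.skew a x, show β a x = 1 from ha ⟨x, hx⟩, inv_one]⟩
      rw [hXY, Subgroup.mem_bot] at this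
      exact Subtype.ext this⟩
  let θ : X → (X →* μ) := fun x => (hβ.toHom (x : W)).comp X.subtype
  have hθ : Function.Injective θ := fun x x' h => by
    have h1 : x * x'⁻¹ = 1 := hβX.nondeg _ fun y => by
      have h2 : β x y = β x' y := DFunLike.congr_fun h y
      show β ((x : W) * (x' : W)⁻¹) y = 1
      rw [hβ.mul_left, hβ.inv_left, h2, mul_inv_cancel]
    exact mul_inv_eq_one.1 h1
  have hfin := (card_hom_le (X := X) (μ := μ)).1
  have hsurj : Function.Surjective θ := ((Nat.bijective_iff_injective_and_card θ).2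
    ⟨hθ, le_antisymm (Nat.card_le_card_of_injective θ hθ) (card_hom_le (X := X) (μ := μ)).2⟩).2
  have hsplit : ∀ w : W, ∃ x ∈ X, ∃ y ∈ Y, x * y = w := fun w => by
    obtain ⟨x₀, hx₀⟩ := hsurj ((hβ.toHom w).comp X.subtype)
    refine ⟨x₀, x₀.2, (x₀ : W)⁻¹ * w, hmemY.2 fun x hx => ?_, mul_inv_cancel_left _ _⟩
    have h1 : β (x₀ : W) x = β w x := DFunLike.congr_fun hx₀ ⟨x, hx⟩
    have h2 : β (x₀ : W)⁻¹ x * β w x = 1 := by rw [hβ.inv_left, h1, inv_mul_cancel]
    rw [hβ.skew ((x₀ : W)⁻¹ * w) x, hβ.mul_left, h2, inv_one]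
  let m : X × Y →* W := MonoidHom.coprod X.subtype Y.subtype
  have hm : Function.Bijective m := by
    refine ⟨(injective_iff_map_eq_one m).2 fun z hz => ?_, fun w => ?_⟩
    · have hz' : (z.1 : W) * (z.2 : W) = 1 := hz
      have h1 : (z.1 : W) ∈ X ⊓ Y := ⟨z.1.2, by
        rw [mul_eq_one_iff_eq_inv.1 hz']; exact Y.inv_mem z.2.2⟩
      rw [hXY, Subgroup.mem_bot] at h1
      rw [h1, one_mul] at hz'
      exact Prod.ext (Subtype.ext h1) (Subtype.ext hz')
    · obtain ⟨x, hx, y, hy, rfl⟩ := hsplit w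
      exact ⟨(⟨x, hx⟩, ⟨y, hy⟩), rfl⟩
  have hcard : Nat.card X * Nat.card Y = Nat.card W := by
    rw [← Nat.card_prod]
    exact Nat.card_congr (Equiv.ofBijective m hm)
  let βY : Y → Y → μ := fun x y => β x y
  have hβY : IsPairing βY :=
    ⟨fun a b c => hβ.mul_left a b c, fun a b c => hβ.mul_right a b c, fun a => hβ.alt a, fun a ha => by
      refine Subtype.ext (hβ.nondeg a fun w => ?_)
      obtain ⟨x, hx, y, hy, rfl⟩ := hsplit w
      rw [hβ.mul_right, show β a y = 1 from ha ⟨y, hy⟩, hβ.skew x a, hmemY.1 a.2 x hx, inv_one, one_mul]⟩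
  have hXlt : Nat.card X < Nat.card W := by
    refine lt_of_le_of_ne (Subgroup.card_le_card_group X) fun h => hXtop (Subgroup.eq_top_of_card_eq X h)
  have hX1 : 1 < Nat.card X := by
    have := Nat.le_of_dvd Nat.card_pos hqX
    have := hq.two_le
    omega
  have hYlt : Nat.card Y < Nat.card W := by
    have : 0 < Nat.card Y := Nat.card_pos
    have h2 : 2 * Nat.card Y ≤ Nat.card X * Nat.card Y := Nat.mul_le_mul_right _ hX1
    omega
  obtain ⟨e₁, he₁⟩ := hβX.exists_sq
  obtain ⟨e₂, he₂⟩ := hβY.exists_sq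
  have hee : e₁ * e₂ = e := Nat.mul_self_inj.1 (by rw [← he, ← hcard, he₁, he₂]; ring)
  let aX := restrictAct act X hX
  let aY := restrictAct act Y hY
  have hRX : RangeBd.{u} e₁ aX.range :=
    ih _ hXlt (W := X) (β := βX) hβX aX (fun c x y h => horth c x y h)
      (fun Z hZ hiso' => by
        have h := hno (Z.map X.subtype) (by rintro c _ ⟨x, hx, rfl⟩; exact ⟨aX c x, hZ c x hx, rfl⟩)
          (by rintro _ ⟨x, hx, rfl⟩ _ ⟨y, hy, rfl⟩; exact hiso' x hx y hy)
        exact (Subgroup.map_eq_bot_iff_of_injective _ X.subtype_injective).1 h) he₁ rfl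
  have hRY : RangeBd.{u} e₂ aY.range :=
    ih _ hYlt (W := Y) (β := βY) hβY aY (fun c x y h => horth c x y h)
      (fun Z hZ hiso' => by
        have h := hno (Z.map Y.subtype) (by rintro c _ ⟨x, hx, rfl⟩; exact ⟨aY c x, hZ c x hx, rfl⟩)
          (by rintro _ ⟨x, hx, rfl⟩ _ ⟨y, hy, rfl⟩; exact hiso' x hx y hy)
        exact (Subgroup.map_eq_bot_iff_of_injective _ Y.subtype_injective).1 h) he₂ rfl
  haveI : Finite (MulAut X) := Finite.of_injective (fun φ : MulAut X => (φ : X → X)) DFunLike.coe_injective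
  haveI : Finite (MulAut Y) := Finite.of_injective (fun φ : MulAut Y => (φ : Y → Y)) DFunLike.coe_injective
  have hkX : act.ker ≤ aX.ker := fun c hc => MulEquiv.ext fun x => Subtype.ext (DFunLike.congr_fun hc (x : W))
  have hkY : act.ker ≤ aY.ker := fun c hc => MulEquiv.ext fun x => Subtype.ext (DFunLike.congr_fun hc (x : W))
  have hsep : ∀ c, aX c = 1 → aY c = 1 → act c = 1 := fun c h1 h2 => MulEquiv.ext fun w => by
    obtain ⟨x, hx, y, hy, rfl⟩ := hsplit w
    show act c (x * y) = x * y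
    have hx' : act c x = x := congrArg Subtype.val (DFunLike.congr_fun h1 (⟨x, hx⟩ : X))
    have hy' : act c y = y := congrArg Subtype.val (DFunLike.congr_fun h2 (⟨y, hy⟩ : Y))
    rw [map_mul, hx', hy']
  let πq := QuotientGroup.quotientKerEquivRange act
  let fX : A ⧸ act.ker →* aX.range :=
    QuotientGroup.lift act.ker aX.rangeRestrict (by rw [MonoidHom.ker_rangeRestrict]; exact hkX)
  let fY : A ⧸ act.ker →* aY.range :=
    QuotientGroup.lift act.ker aY.rangeRestrict (by rw [MonoidHom.ker_rangeRestrict]; exact hkY)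
  have hinj : ∀ x, fX x = 1 → fY x = 1 → x = 1 := fun x => by
    obtain ⟨c, rfl⟩ := QuotientGroup.mk_surjective x
    exact fun h1 h2 => (QuotientGroup.eq_one_iff c).2 (hsep c (congrArg Subtype.val h1) (congrArg Subtype.val h2))
  refine ⟨fun D hD => ?_, fun N h1 hmul hN => ?_⟩
  · have h := DlLE.of_two fX fY
      (hRX.1 D fun r k hr hk hd => hD r k hr hk (hd.trans (Dvd.intro _ hee)))
      (hRY.1 D fun r k hr hk hd => hD r k hr hk (hd.trans (Dvd.intro_left _ hee))) hinj
    exact h.of_injective πq.symm.toMonoidHom πq.symm.injective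
  · have hX' := hRX.2 N h1 (fun a b h => hmul a b (h.trans (Dvd.intro _ hee)))
      fun r k hr hk hd => hN r k hr hk (hd.trans (Dvd.intro _ hee))
    have hY' := hRY.2 N h1 (fun a b h => hmul a b (h.trans (Dvd.intro_left _ hee)))
      fun r k hr hk hd => hN r k hr hk (hd.trans (Dvd.intro_left _ hee))
    have hf : Function.Injective (fX.prod fY) := (injective_iff_map_eq_one _).2 fun x hx =>
      hinj x (congrArg Prod.fst hx) (congrArg Prod.snd hx)
    calc Nat.card act.range = Nat.card (A ⧸ act.ker) := (Nat.card_congr πq.toEquiv).symm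
      _ ≤ Nat.card (aX.range × aY.range) := Nat.card_le_card_of_injective _ hf
      _ ≤ N e₁ * N e₂ := by rw [Nat.card_prod]; exact Nat.mul_le_mul hX' hY'
      _ ≤ N e := (hmul e₁ e₂ (dvd_of_eq hee)).trans_eq (by rw [hee])

end CfsgLib.DlNine
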