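import Cfsg.Agent.Lib.Perm.DlNine.Defs
import Mathlib.NumberTheory.ArithmeticFunction.Misc

/-!
Derived length nine: a group of large derived length has many prime factors.
-/

set_option autoImplicit false
set_option linter.unusedSectionVars false
set_option linter.style.haveILetI false

namespace CfsgLib.DlNine

open ArithmeticFunction (cardFactors)
open scoped commutatorElement

universe u

variable {G : Type u} [Group G] [Finite G]

theorem omega_pos {n : ℕ} (hn : 2 ≤ n) : 1 ≤ cardFactors n := by
  rw [ArithmeticFunction.cardFactors_apply]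
  exact List.length_pos_iff.2 (fun h => by
    rcases (Nat.primeFactorsList_eq_nil n).1 h with h | h <;> omega)

theorem two_pow_omega_le {n : ℕ} (hn : n ≠ 0) : 2 ^ cardFactors n ≤ n := by
  rw [ArithmeticFunction.cardFactors_apply]
  conv_rhs => rw [← Nat.prod_primeFactorsList hn]
  exact List.pow_card_le_prod _ _ fun x hx => (Nat.prime_of_mem_primeFactorsList hx).two_le

/-- the index of consecutive terms of the derived series -/
noncomputable def step (G : Type u) [Group G] (i : ℕ) : ℕ := (derivedSeries G (i + 1)).relIndex (derivedSeries G i)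

theorem step_mul (i : ℕ) : Nat.card (derivedSeries G (i + 1)) * step G i = Nat.card (derivedSeries G i) := by
  rw [step, Subgroup.relIndex, ← Nat.card_congr
    (Subgroup.subgroupOfEquivOfLe (derivedSeries_antitone G (Nat.le_succ i))).toEquiv, Subgroup.card_mul_index]

theorem omega_succ (i : ℕ) :
    cardFactors (Nat.card (derivedSeries G i)) =
      cardFactors (Nat.card (derivedSeries G (i + 1))) + cardFactors (step G i) := by
  have h : step G i ≠ 0 := fun h => by
    have := step_mul (G := G) i
    rw [h, mul_zero] at this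
    exact absurd this.symm Nat.card_pos.ne'
  rw [← step_mul i, ArithmeticFunction.cardFactors_mul Nat.card_pos.ne' h]

theorem step_two_le (hsol : Group.IsSolvable G) {i : ℕ} (h : derivedSeries G i ≠ ⊥) : 2 ≤ step G i := by
  by_contra hlt
  have h0 : step G i ≠ 0 := fun h0 => by
    have := step_mul (G := G) i
    rw [h0, mul_zero] at this
    exact absurd this.symm Nat.card_pos.ne'
  have h1 : step G i = 1 := by omega
  have heq : derivedSeries G (i + 1) = derivedSeries G i :=
    le_antisymm (derivedSeries_antitone G (Nat.le_succ i)) (Subgroup.relIndex_eq_one.1 h1)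
  obtain ⟨n, hn⟩ := hsol
  have hst : ∀ j, derivedSeries G (i + j) = derivedSeries G i := by
    intro j
    induction j with
    | zero => rfl
    | succ j ih => rw [← Nat.add_assoc, derivedSeries_succ, ih, ← derivedSeries_succ, heq]
  exact h (le_bot_iff.1 ((hst n).symm.le.trans ((derivedSeries_antitone G (Nat.le_add_left n i)).trans hn.le)))

/-- consecutive terms beyond the first are not both of prime index -/
theorem step_pair (hsol : Group.IsSolvable G) {i : ℕ} (h : derivedSeries G (i + 2) ≠ ⊥) :
    3 ≤ cardFactors (step G (i + 1)) + cardFactors (step G (i + 2)) := by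
  classical
  have hne : derivedSeries G (i + 1) ≠ ⊥ := fun h' =>
    h (le_bot_iff.1 ((derivedSeries_antitone G (Nat.le_succ _)).trans h'.le))
  have a1 := omega_pos (step_two_le hsol hne)
  have a2 := omega_pos (step_two_le hsol h)
  by_contra hlt
  have hp : (step G (i + 1)).Prime := ArithmeticFunction.cardFactors_eq_one_iff_prime.1 (by omega)
  have hq : (step G (i + 2)).Prime := ArithmeticFunction.cardFactors_eq_one_iff_prime.1 (by omega)
  set L := derivedSeries G (i + 3) with hL
  haveI : L.Normal := derivedSeries_normal G _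
  let π := QuotientGroup.mk' L
  have hmap : ∀ n, (derivedSeries G n).map π = derivedSeries (G ⧸ L) n := fun n =>
    map_derivedSeries_eq (QuotientGroup.mk'_surjective L) n
  set H := derivedSeries (G ⧸ L) (i + 1)
  set K := derivedSeries (G ⧸ L) (i + 2)
  haveI : K.Normal := derivedSeries_normal _ _
  have hKbot : derivedSeries (G ⧸ L) (i + 3) = ⊥ := by
    rw [← hmap, Subgroup.map_eq_bot_iff, QuotientGroup.ker_mk']
  have hLle : L ≤ derivedSeries G (i + 2) := derivedSeries_antitone G (Nat.le_succ _)
  have hcard : ∀ S : Subgroup G, L ≤ S → Nat.card (S.map π) * Nat.card L = Nat.card S := fun S hS => by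
    have e := Subgroup.card_mul_index (L.subgroupOf S)
    rw [Nat.card_congr (Subgroup.subgroupOfEquivOfLe hS).toEquiv] at e
    have hker : (π.comp S.subtype).ker = L.subgroupOf S := by
      rw [← MonoidHom.comap_ker, QuotientGroup.ker_mk']; rfl
    rw [← hker, Subgroup.index_ker, MonoidHom.range_comp, Subgroup.range_subtype] at e
    rw [mul_comm]; exact e
  have hKq : Nat.card K = step G (i + 2) := by
    have e1 := hcard _ hLle
    rw [hmap, ← step_mul (G := G) (i + 2), mul_comm (Nat.card L)] at e1
    exact Nat.eq_of_mul_eq_mul_right Nat.card_pos e1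
  have hHp : Nat.card H = step G (i + 1) * step G (i + 2) := by
    have e1 := hcard _ (hLle.trans (derivedSeries_antitone G (Nat.le_succ _)))
    rw [hmap, ← step_mul (G := G) (i + 1), ← step_mul (G := G) (i + 2)] at e1
    exact Nat.eq_of_mul_eq_mul_right Nat.card_pos (e1.trans (by ring))
  haveI := Fact.mk hq
  haveI hKc : IsCyclic K := isCyclic_of_prime_card hKq
  obtain ⟨k, hk⟩ := IsCyclic.exists_generator (α := K)
  -- commutators centralise `K`
  have hcent : derivedSeries (G ⧸ L) 1 ≤ Subgroup.centralizer (K : Set (G ⧸ L)) := by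
    rw [derivedSeries_one, commutator_def, Subgroup.commutator_le]
    intro x _ y _
    refine Subgroup.mem_centralizer_iff.2 fun z hz => ?_
    have hc : ∀ a : G ⧸ L, ∃ n : ℤ, MulAut.conjNormal (H := K) a k = k ^ n := fun a => by
      obtain ⟨n, hn⟩ := Subgroup.mem_zpowers_iff.1 (hk (MulAut.conjNormal (H := K) a k))
      exact ⟨n, hn.symm⟩
    obtain ⟨m, hm⟩ := hc x
    obtain ⟨n, hn⟩ := hc y
    obtain ⟨z', hz'⟩ := Subgroup.mem_zpowers_iff.1 (hk ⟨z, hz⟩)
    have hxy : MulAut.conjNormal (H := K) (x * y) k = MulAut.conjNormal (H := K) (y * x) k := by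
      rw [map_mul, map_mul, MulAut.mul_apply, MulAut.mul_apply, hn, hm, map_zpow, map_zpow, hm, hn, ← zpow_mul,
        ← zpow_mul, mul_comm]
    have hfix : MulAut.conjNormal (H := K) ⁅x, y⁆ k = k := by
      rw [commutatorElement_def, show x * y * x⁻¹ * y⁻¹ = (x * y) * (y * x)⁻¹ by group]
      have h2 : ∀ j : ℤ, MulAut.conjNormal (H := K) (x * y) (k ^ j) =
          MulAut.conjNormal (H := K) (y * x) (k ^ j) := fun j => by rw [map_zpow, map_zpow, hxy]
      obtain ⟨j, hj⟩ := hc (y * x)⁻¹
      rw [map_mul, MulAut.mul_apply, hj, h2, ← hj, ← MulAut.mul_apply, ← map_mul, mul_inv_cancel, map_one,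
        MulAut.one_apply]
    have h3 : MulAut.conjNormal (H := K) ⁅x, y⁆ ⟨z, hz⟩ = ⟨z, hz⟩ := by rw [← hz', map_zpow, hfix]
    have h4 : ⁅x, y⁆ * z * ⁅x, y⁆⁻¹ = z := by
      have := congrArg Subtype.val h3
      rwa [MulAut.conjNormal_apply] at this
    exact (mul_inv_eq_iff_eq_mul.1 h4).symm
  have hKH : K ≤ H := derivedSeries_antitone _ (Nat.le_succ _)
  have hKcomm : ∀ a ∈ K, ∀ b ∈ H, a * b = b * a := fun a ha b hb =>
    Subgroup.mem_centralizer_iff.1 (hcent (derivedSeries_antitone _ (Nat.le_add_left 1 i) hb)) a ha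
  -- so `H` is abelian
  have hHab : ∀ a ∈ H, ∀ b ∈ H, a * b = b * a := by
    let K' := K.subgroupOf H
    haveI : K'.Normal := Subgroup.normal_subgroupOf
    have hidx : Nat.card (H ⧸ K') = step G (i + 1) := by
      have e := Subgroup.card_mul_index K'
      rw [Nat.card_congr (Subgroup.subgroupOfEquivOfLe hKH).toEquiv, hKq, hHp,
        mul_comm (step G (i + 1))] at e
      exact Nat.eq_of_mul_eq_mul_left hq.pos e
    haveI := Fact.mk hp
    haveI : IsCyclic (H ⧸ K') := isCyclic_of_prime_card hidx
    have hc : K' ≤ Subgroup.center H := fun a ha => Subgroup.mem_center_iff.2 fun b =>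
      Subtype.ext (hKcomm a ha b b.2).symm
    intro a ha b hb
    exact congrArg Subtype.val (commutative_of_cyclic_center_quotient (QuotientGroup.mk' K')
      (by rw [QuotientGroup.ker_mk']; exact hc) ⟨a, ha⟩ ⟨b, hb⟩)
  have hK1 : K = ⊥ := by
    refine le_bot_iff.1 ?_
    show derivedSeries (G ⧸ L) (i + 1 + 1) ≤ ⊥
    rw [derivedSeries_succ, Subgroup.commutator_le]
    exact fun a ha b hb => Subgroup.mem_bot.2 (commutatorElement_eq_one_iff_mul_comm.2 (hHab a ha b hb))
  rw [hK1, Subgroup.card_bot] at hKq
  exact hq.one_lt.ne hKq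

/-- derived length six needs eight prime factors -/
theorem dlLE_five_or_omega (hsol : Group.IsSolvable G) : DlLE G 5 ∨ 8 ≤ cardFactors (Nat.card G) := by
  by_cases h : derivedSeries G 5 = ⊥
  · exact Or.inl h
  refine Or.inr ?_
  have hne : ∀ j ≤ 5, derivedSeries G j ≠ ⊥ := fun j hj h' =>
    h (le_bot_iff.1 ((derivedSeries_antitone G hj).trans h'.le))
  have h0 := omega_pos (step_two_le hsol (hne 0 (by norm_num)))
  have h12 := step_pair hsol (i := 0) (hne 2 (by norm_num))
  have h34 := step_pair hsol (i := 2) (hne 4 (by norm_num))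
  have h5 := omega_pos (step_two_le hsol (hne 5 le_rfl))
  have e := omega_succ (G := G) 0
  have e1 := omega_succ (G := G) 1
  have e2 := omega_succ (G := G) 2
  have e3 := omega_succ (G := G) 3
  have e4 := omega_succ (G := G) 4
  have e5 := omega_succ (G := G) 5
  simp only [Nat.reduceAdd] at *
  rw [show derivedSeries G 0 = ⊤ from rfl, Subgroup.card_top] at e
  omega

/-- derived length seven needs ten prime factors -/
theorem dlLE_six_or_card (hsol : Group.IsSolvable G) : DlLE G 6 ∨ 1024 ≤ Nat.card G := by
  by_cases h : derivedSeries G 6 = ⊥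
  · exact Or.inl h
  refine Or.inr ?_
  have hne : ∀ j ≤ 6, derivedSeries G j ≠ ⊥ := fun j hj h' =>
    h (le_bot_iff.1 ((derivedSeries_antitone G hj).trans h'.le))
  have h0 := omega_pos (step_two_le hsol (hne 0 (by norm_num)))
  have h12 := step_pair hsol (i := 0) (hne 2 (by norm_num))
  have h34 := step_pair hsol (i := 2) (hne 4 (by norm_num))
  have h56 := step_pair hsol (i := 4) (hne 6 le_rfl)
  have e := omega_succ (G := G) 0
  have e1 := omega_succ (G := G) 1
  have e2 := omega_succ (G := G) 2
  have e3 := omega_succ (G := G) 3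
  have e4 := omega_succ (G := G) 4
  have e5 := omega_succ (G := G) 5
  have e6 := omega_succ (G := G) 6
  simp only [Nat.reduceAdd] at *
  rw [show derivedSeries G 0 = ⊤ from rfl, Subgroup.card_top] at e
  exact le_trans (Nat.pow_le_pow_right (show 0 < 2 by norm_num) (show 10 ≤ cardFactors (Nat.card G) by omega))
    (two_pow_omega_le Nat.card_pos.ne')

end CfsgLib.DlNine
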