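import Cfsg.Agent.Lib.Perm.DlNine.Layer

/-!
Derived length nine: what the field case gives, and the recursion step of the table.
-/

set_option autoImplicit false
set_option linter.unusedSectionVars false
set_option linter.style.haveILetI false
set_option maxHeartbeats 1000000

namespace CfsgLib.DlNine

open CfsgLib.BaseTwo (Irr Inv FieldCase endo conjEnd conjEnd_mem_scalars scalars endo_mem_scalars)
open CfsgLib.ClassLin (LinGrp KScal exists_fieldLayer exists_blocks)
open CfsgLib.ClassPSq (exists_max_abelian IsPairing)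

universe u

variable {A V : Type u} [Group A] [Finite A] [AddCommGroup V] [Finite V] [DistribMulAction A V]

/-- commutators centralise the scalars: the automorphism group of a finite field is abelian -/
theorem commutator_centralizes {U : Subgroup A} (F : FieldCase A V U) (x y : A) :
    x * y * x⁻¹ * y⁻¹ ∈ Subgroup.centralizer (U : Set A) := by
  obtain ⟨γ, hγ, hγ0, hgen⟩ := F.exists_units_generator
  have hne : ∀ a : A, conjEnd (V := V) a γ ≠ 0 := fun a h => hγ0 (by
    have h2 := congrArg (conjEnd (V := V) a⁻¹) h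
    rwa [← BaseTwo.conjEnd_mul, inv_mul_cancel, BaseTwo.conjEnd_one, map_zero] at h2)
  have key : ∀ a b : A, conjEnd (V := V) (a * b) γ = conjEnd (b * a) γ := fun a b => by
    obtain ⟨k, hk⟩ := hgen _ (conjEnd_mem_scalars F.normal a hγ) (hne a)
    obtain ⟨l, hl⟩ := hgen _ (conjEnd_mem_scalars F.normal b hγ) (hne b)
    rw [BaseTwo.conjEnd_mul, BaseTwo.conjEnd_mul, hl, hk, map_pow, map_pow, hk, hl, ← pow_mul, ← pow_mul, mul_comm]
  have hfix : conjEnd (V := V) (x * y * x⁻¹ * y⁻¹) γ = γ := by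
    rw [show x * y * x⁻¹ * y⁻¹ = (y⁻¹ * x⁻¹)⁻¹ * (x⁻¹ * y⁻¹) by group, BaseTwo.conjEnd_mul, key x⁻¹,
      ← BaseTwo.conjEnd_mul, inv_mul_cancel, BaseTwo.conjEnd_one]
  refine Subgroup.mem_centralizer_iff.2 fun u hu => ?_
  refine (mul_inv_eq_iff_eq_mul.1 (F.endo_inj (a := (x * y * x⁻¹ * y⁻¹) * u * (x * y * x⁻¹ * y⁻¹)⁻¹) (b := u) ?_)).symm
  rw [map_mul, map_mul]
  show conjEnd (x * y * x⁻¹ * y⁻¹) (endo A V u) = _
  rcases eq_or_ne (endo A V u) 0 with h | h
  · rw [h, map_zero]
  · obtain ⟨n, hn⟩ := hgen _ (endo_mem_scalars hu) h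
    rw [hn, map_pow, hfix]

/-- a prime with only the obvious fixed point count does not divide a group of automorphisms -/
theorem not_dvd_of_faithful {W : Type u} [Group W] [Finite W] {R : Type u} [Group R] [Finite R] (ι : R →* MulAut W)
    (hι : Function.Injective ι) {r : ℕ} (hr : r.Prime)
    (hmod : ∀ k, k ∣ Nat.card W → k % r = Nat.card W % r → k = Nat.card W) : ¬ r ∣ Nat.card R := by
  intro hd
  haveI : Fact r.Prime := ⟨hr⟩
  obtain ⟨g, hg⟩ := exists_prime_orderOf_dvd_card' (G := R) r hd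
  let Z := Subgroup.zpowers (ι g)
  have hZ : IsPGroup r Z := IsPGroup.of_card (n := 1) (by
    rw [Nat.card_zpowers, orderOf_injective ι hι, hg, pow_one])
  let P : Subgroup W :=
    { carrier := {w | ι g w = w}
      one_mem' := map_one _
      mul_mem' := fun {a b} ha hb => show ι g (a * b) = a * b by rw [map_mul, show ι g a = a from ha,
        show ι g b = b from hb]
      inv_mem' := fun {a} ha => show ι g a⁻¹ = a⁻¹ by rw [map_inv, show ι g a = a from ha] }
  letI : MulAction Z W := MulAction.compHom W Z.subtype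
  have hfix : MulAction.fixedPoints Z W = (P : Set W) := by
    ext w
    refine ⟨fun h => h ⟨ι g, Subgroup.mem_zpowers _⟩, fun h z => ?_⟩
    have hz : (z : MulAut W) ∈ MulAction.stabilizer (MulAut W) w :=
      Subgroup.zpowers_le.2 (show ι g ∈ MulAction.stabilizer (MulAut W) w from h) z.2
    exact hz
  have hm := hZ.card_modEq_card_fixedPoints W
  rw [Nat.card_congr (Equiv.setCongr hfix)] at hm
  have heq := hmod _ (Subgroup.card_subgroup_dvd_card P) hm.symm
  have h1 : ι g = 1 := MulEquiv.ext fun w =>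
    show w ∈ P by rw [(Subgroup.card_eq_iff_eq_top P).1 heq]; trivial
  rw [hι (h1.trans (map_one ι).symm), orderOf_one] at hg
  exact hr.one_lt.ne hg

theorem natCast_scalar {p : ℕ} [Fact p.Prime] [Module (ZMod p) V] (U : Subgroup A) (c : ZMod p) :
    ∃ f ∈ scalars V U, ∀ v : V, f v = c • v := by
  refine ⟨(c.val : AddMonoid.End V), natCast_mem _ _, fun v => ?_⟩
  rw [AddMonoid.End.natCast_apply, ← Nat.cast_smul_eq_nsmul (ZMod p), ZMod.natCast_zmod_val]

/-- **The field case.** -/
theorem field_info (hsolv : Group.IsSolvable A) {U : Subgroup A} (F : FieldCase A V U)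
    (hmax : ∀ W : Subgroup A, W.Normal → U ≤ W → (∀ x ∈ W, ∀ y ∈ W, x * y = y * x) → W = U)
    {p : ℕ} [Fact p.Prime] (hexp : ∀ v : V, p • v = 0) :
    ∃ a d e : ℕ, 1 ≤ a ∧ 1 ≤ d ∧ Nat.card V = p ^ (a * d) ∧ 1 ≤ e ∧ e ≤ d ∧
      (∀ r : ℕ, r.Prime → r ∣ e → r ∣ p ^ a - 1) ∧ (e = 1 → DlLE A 2) ∧
      ∃ (R : Type u) (_ : Group R) (_ : Finite R), RangeBd.{u} e R ∧
        (∀ r : ℕ, r.Prime → (∀ k, k ∣ e * e → k % r = e * e % r → k = e * e) → ¬ r ∣ Nat.card R) ∧
        (∀ D, 1 ≤ D → DlLE R D →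
          DlLE A (D + 2) ∧ ∀ v : V, v ≠ 0 → DlLE (MulAction.stabilizer A v) (D + 1)) ∧
        ∃ cU cR ci : ℕ, Nat.card A = cU * (e * e * cR) * ci ∧ cU ∣ p ^ a - 1 ∧ cR ∣ Nat.card R ∧ ci ≤ a ∧
          cR ≤ CfsgLib.ClassPSq.Bd e := by
  classical
  letI : Module (ZMod p) V := AddCommGroup.zmodModule hexp
  obtain ⟨a, d, e, E, ha, hd, hV, he, hed, hUd, hidx, hrU, hEn, hUE, hEC, hcomm, hUEi, W, _, _, μ, _, _, _, β,
      act, hβ, hW, horth, hiso, hno, hker, -⟩ :=
    exists_fieldLayer hsolv F hmax hexp (fun c => natCast_scalar U c) (fun a c v => (KScal.prime (A := A) (p := p)).comm a c v)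
  rw [Nat.card_zmod] at hV hUd
  haveI := hEn
  set C := Subgroup.centralizer (U : Set A) with hC
  haveI := F.normal
  haveI : C.Normal := by rw [hC]; infer_instance
  haveI : Finite (MulAut W) := Finite.of_injective (fun φ : MulAut W => (φ : W → W)) DFunLike.coe_injective
  have hUC : U ≤ C := hUE.trans hEC
  have hAC : DlLE (A ⧸ C) 1 := DlLE.of_comm fun x y => by
    obtain ⟨x, rfl⟩ := QuotientGroup.mk_surjective x
    obtain ⟨y, rfl⟩ := QuotientGroup.mk_surjective y
    have h : ((x * y * x⁻¹ * y⁻¹ : A) : A ⧸ C) = 1 :=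
      (QuotientGroup.eq_one_iff _).2 (commutator_centralizes F x y)
    rwa [QuotientGroup.mk_mul, QuotientGroup.mk_mul, QuotientGroup.mk_mul, QuotientGroup.mk_inv,
      QuotientGroup.mk_inv, mul_inv_eq_one, mul_inv_eq_iff_eq_mul] at h
  -- the quotient by the layer
  have hmem : ∀ x : A, act x = 1 → x ∈ C → x ∈ E := fun x h1 h2 => (hker x h2).1 h1
  have hEdl : DlLE E 2 := by
    let f : E →* E ⧸ U.subgroupOf E := QuotientGroup.mk' _
    refine DlLE.of_hom (a := 1) (b := 1) f ?_ (DlLE.of_comm fun x y => ?_)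
    · refine DlLE.of_comm fun x y => Subtype.ext (Subtype.ext (F.comm _ ?_ _ ?_))
      · exact (QuotientGroup.eq_one_iff (N := U.subgroupOf E) (x : E)).1 (MonoidHom.mem_ker.1 x.2)
      · exact (QuotientGroup.eq_one_iff (N := U.subgroupOf E) (y : E)).1 (MonoidHom.mem_ker.1 y.2)
    · obtain ⟨x, rfl⟩ := QuotientGroup.mk_surjective x
      obtain ⟨y, rfl⟩ := QuotientGroup.mk_surjective y
      have h : ((x * y * x⁻¹ * y⁻¹ : E) : E ⧸ U.subgroupOf E) = 1 :=
        (QuotientGroup.eq_one_iff _).2 (hcomm x x.2 y y.2)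
      rwa [QuotientGroup.mk_mul, QuotientGroup.mk_mul, QuotientGroup.mk_mul, QuotientGroup.mk_inv,
        QuotientGroup.mk_inv, mul_inv_eq_one, mul_inv_eq_iff_eq_mul] at h
  have hout : ∀ D, 1 ≤ D → DlLE act.range D → DlLE (A ⧸ E) D := fun D hD hR => by
    let f : A ⧸ E →* act.range := QuotientGroup.lift E act.rangeRestrict fun x hx =>
      Subtype.ext ((hker x (hEC hx)).2 hx)
    let g : A ⧸ E →* A ⧸ C := QuotientGroup.map E C (MonoidHom.id A) hEC
    refine DlLE.of_two f g hR (hAC.mono hD) fun x => ?_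
    obtain ⟨x, rfl⟩ := QuotientGroup.mk_surjective x
    exact fun h1 h2 => (QuotientGroup.eq_one_iff x).2
      (hmem x (congrArg Subtype.val h1) ((QuotientGroup.eq_one_iff x).1 h2))
  refine ⟨a, d, e, ha, hd, ?_, he, hed, fun r hr hre => (hrU r hr hre).trans hUd, ?_, act.range, inferInstance,
    inferInstance, range_bd hβ hsolv act horth hno hW, fun r hr hmod => ?_, fun D hD hR => ⟨?_, fun v hv => ?_⟩,
    Nat.card U, Nat.card (C.map act), C.index, ?_, hUd, Subgroup.card_dvd_of_le (Subgroup.map_le_range act C),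
    hidx, hβ.card_le (C.map act).subtype Subtype.val_injective (by
      rintro ⟨_, c, hc, rfl⟩ x y
      exact hiso c hc x y) hW⟩
  · exact hV
  · rintro rfl
    have hW1 : Subsingleton W := Finite.card_le_one_iff_subsingleton.1 (by rw [hW])
    have hE : E = C := le_antisymm hEC fun x hx =>
      hmem x (MulEquiv.ext fun w => Subsingleton.elim _ _) hx
    have hU : E = U := le_antisymm (fun x hx => Subgroup.relIndex_eq_one.1 (hUEi.trans (one_mul 1)) hx) hUE
    refine DlLE.of_hom (a := 1) (b := 1) (QuotientGroup.mk' C) ?_ hAC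
    refine DlLE.of_comm fun x y => Subtype.ext (F.comm _ ?_ _ ?_)
    · rw [← hU, hE]; exact (QuotientGroup.eq_one_iff _).1 (MonoidHom.mem_ker.1 x.2)
    · rw [← hU, hE]; exact (QuotientGroup.eq_one_iff _).1 (MonoidHom.mem_ker.1 y.2)
  · refine not_dvd_of_faithful act.range.subtype Subtype.val_injective hr ?_
    rw [hW]; exact hmod
  · refine DlLE.of_hom (a := 2) (b := D) (QuotientGroup.mk' E) ?_ (hout D hD hR)
    exact hEdl.of_le (le_of_eq (QuotientGroup.ker_mk' E))
  · let S := MulAction.stabilizer A v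
    refine DlLE.of_hom (a := 1) (b := D) ((QuotientGroup.mk' E).comp S.subtype) ?_ (hout D hD hR)
    refine DlLE.of_comm fun x y => Subtype.ext (Subtype.ext ?_)
    have hxE : ((x : S) : A) ∈ E := (QuotientGroup.eq_one_iff _).1 (MonoidHom.mem_ker.1 x.2)
    have hyE : ((y : S) : A) ∈ E := (QuotientGroup.eq_one_iff _).1 (MonoidHom.mem_ker.1 y.2)
    exact ClassLin.Scalar.commute_of_fix F (hcomm _ hxE _ hyE) hv (x : S).2 (y : S).2
  · let g := act.comp C.subtype
    have hgk : g.ker = E.subgroupOf C := by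
      ext c
      rw [MonoidHom.mem_ker, Subgroup.mem_subgroupOf]
      exact hker c c.2
    have hgc : E.relIndex C = Nat.card g.range := by
      rw [← Subgroup.index_ker, hgk]; rfl
    rw [show Nat.card (C.map act) = Nat.card g.range by rw [MonoidHom.range_comp, Subgroup.range_subtype],
      ← hgc, ← hUEi, Subgroup.relIndex_mul_relIndex U E C hUE hEC, Subgroup.relIndex,
      ← Nat.card_congr (Subgroup.subgroupOfEquivOfLe hUC).toEquiv, Subgroup.card_mul_index,
      Subgroup.card_mul_index]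

theorem dlStep : DlStep.{u} := by
  intro A V _ _ _ _ _ p m hp L
  classical
  haveI : Fact p.Prime := ⟨hp⟩
  obtain ⟨U, hU, hUc, hmax⟩ := exists_max_abelian (A := A)
  by_cases hall : ∀ s ∈ scalars V U, s ≠ 0 → ∃ s' ∈ scalars V U, s * s' = 1
  · right
    obtain ⟨v, hv⟩ : ∃ v : V, v ≠ 0 := by
      by_contra hn
      push Not at hn
      have : Subsingleton V := ⟨fun x y => (hn x).trans (hn y).symm⟩
      have h1 := Nat.card_of_subsingleton (0 : V)
      rw [L.card] at h1
      exact absurd h1 (Nat.one_lt_pow (Nat.one_le_iff_ne_zero.1 L.one_le) hp.one_lt).ne'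
    have F : FieldCase A V U := ⟨⟨v, hv⟩, hU, hUc, hall, L.faith⟩
    obtain ⟨a, d, e, ha, -, hV, he, hed, hr, h1, R, _, _, hR, -, hdl, -⟩ := field_info L.sol F hmax L.exp
    exact ⟨a, d, e, Nat.pow_right_injective hp.two_le (hV.symm.trans L.card), ha, he, hed, hr, h1,
      fun D hD hLin => (hdl D hD (hR.1 D hLin)).1⟩
  · left
    letI : Module (ZMod p) V := AddCommGroup.zmodModule L.exp
    obtain ⟨H, _, _, W, _, _, _, _, t, π, ψ, ht, hHs, hHf, hHi, -, -, -, hcard, hexp, hψ, -, -, -, -⟩ :=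
      exists_blocks L.sol L.faith L.irr (KScal.prime (p := p)) hU hUc hall
    have hW1 : Nat.card W ^ t = p ^ m := hcard.trans L.card
    obtain ⟨m₀, -, hm₀⟩ := (Nat.dvd_prime_pow hp).1 (hW1 ▸ dvd_pow_self (Nat.card W) (by omega))
    have htm : t * m₀ = m := Nat.pow_right_injective hp.two_le (by
      show p ^ (t * m₀) = p ^ m
      rw [mul_comm, pow_mul, ← hm₀, hW1])
    have hm0 : 1 ≤ m₀ := by
      rcases Nat.eq_zero_or_pos m₀ with rfl | h
      · rw [mul_zero] at htm
        have := L.one_le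
        omega
      · exact h
    refine ⟨t, m₀, ht, hm0, htm, fun b c hb hc => DlLE.of_hom π.rangeRestrict ?_ ?_⟩
    · refine ((hb H W ⟨hHs, hHf, hHi, hexp p L.exp, hm₀, hm0⟩).pi ψ hψ).of_le ?_
      exact le_of_eq (MonoidHom.ker_rangeRestrict π)
    · exact hc π.range (haveI := L.sol; Group.isSolvable_of_surjective π.rangeRestrict_surjective)

end CfsgLib.DlNine
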