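import Cfsg.Agent.Lib.Perm.DlNine.PermDl
import Cfsg.Agent.Lib.Perm.DlNine.Step

/-!
The table of derived lengths of solvable irreducible linear groups of small degree, from the recursion step.
-/

set_option autoImplicit false
set_option linter.unusedSectionVars false

namespace CfsgLib.DlNine

open CfsgLib.ClassLin (LinGrp)

universe u

/-- evaluation of the recursion step -/
theorem LinDl.of_step (hs : DlStep.{u}) {p m n : ℕ} (hp : p.Prime) (hn : 2 ≤ n)
    (hblock : ∀ t m₀, 2 ≤ t → 1 ≤ m₀ → t * m₀ = m → ∃ b c, LinDl.{u} p m₀ b ∧ PermDl t c ∧ c + b ≤ n)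
    (hfield : ∀ a d e, a * d = m → 1 ≤ a → 2 ≤ e → e ≤ d → (∀ r, r.Prime → r ∣ e → r ∣ p ^ a - 1) →
      ∃ D, 1 ≤ D ∧ (∀ r k, r.Prime → 1 ≤ k → r ^ k ∣ e → LinDl.{u} r (2 * k) D) ∧ D + 2 ≤ n) :
    LinDl.{u} p m n := by
  intro A V _ _ _ _ _ L
  rcases hs A V p m hp L with ⟨t, m₀, ht, hm₀, htm, h⟩ | ⟨a, d, e, had, ha, he, hed, hr, h1, h⟩
  · obtain ⟨b, c, hb, hc, hle⟩ := hblock t m₀ ht hm₀ htm
    exact (h b c hb hc).mono hle
  · rcases Nat.lt_or_ge e 2 with he2 | he2
    · exact (h1 (by omega)).mono hn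
    · obtain ⟨D, hD, hD', hle⟩ := hfield a d e had ha he2 hed hr
      exact (h D hD hD').mono hle

/-- over two elements the field case has odd `e`, and `a ≠ 1` -/
theorem field_two {a e : ℕ} (ha : 1 ≤ a) (he : 2 ≤ e) (h : ∀ r, r.Prime → r ∣ e → r ∣ 2 ^ a - 1) :
    2 ≤ a ∧ e ≠ 2 ∧ ¬ 2 ∣ e := by
  have hodd : ¬ 2 ∣ e := fun h2 => by
    have h3 := h 2 Nat.prime_two h2
    have h4 : 2 ∣ 2 ^ a := dvd_pow_self 2 (by omega)
    have h5 : 1 ≤ 2 ^ a := Nat.one_le_two_pow
    omega
  refine ⟨?_, fun h2 => hodd (h2 ▸ dvd_rfl), hodd⟩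
  by_contra hcon
  obtain ⟨r, hr, hre⟩ := Nat.exists_prime_and_dvd (n := e) (by omega)
  have h3 := h r hr hre
  rw [show a = 1 by omega] at h3
  exact hr.not_dvd_one h3

theorem dim_cases {a d m : ℕ} (h : a * d = m) (hm : 1 ≤ m) (ha : 2 ≤ a) : 2 * d ≤ m := by
  rw [← h]
  exact Nat.mul_le_mul_right d ha

theorem pow_dvd_small {r k e : ℕ} (hr : r.Prime) (hk : 1 ≤ k) (he : 1 ≤ e) (hle : e ≤ 16) (h : r ^ k ∣ e) :
    k = 1 ∨ (r = 2 ∧ k ≤ 4) ∨ (r = 3 ∧ k = 2 ∧ 9 ≤ e) := by
  have h1 : r ^ k ≤ e := Nat.le_of_dvd (by omega) h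
  rcases Nat.lt_or_ge k 2 with hk2 | hk2
  · exact Or.inl (by omega)
  have h2 := hr.two_le
  have h3 : r ^ 2 ≤ e := (Nat.pow_le_pow_right hr.pos hk2).trans h1
  have h4 : 2 ^ k ≤ e := (Nat.pow_le_pow_left h2 k).trans h1
  have hk4 : k ≤ 4 := by
    by_contra hcon
    have := Nat.pow_le_pow_right (show 0 < 2 by norm_num) (show 5 ≤ k by omega)
    omega
  have hr4 : r ≤ 4 := by nlinarith
  interval_cases r
  · exact Or.inr (Or.inl ⟨rfl, hk4⟩)
  · refine Or.inr (Or.inr ⟨rfl, ?_, by omega⟩)
    by_contra hcon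
    have := (Nat.pow_le_pow_right (show 0 < 3 by norm_num) (show 3 ≤ k by omega)).trans h1
    omega
  · norm_num at hr

theorem linDl_two (hs : DlStep.{u}) (r : ℕ) (hr : r.Prime) : LinDl.{u} r 2 4 := by
  refine LinDl.of_step hs hr (by norm_num) (fun t m₀ ht hm htm => ?_) fun a d e had ha he hed _ => ?_
  · obtain rfl : t = 2 := by nlinarith
    obtain rfl : m₀ = 1 := by omega
    exact ⟨1, 1, linDl_one r hr, permDl_sigma (by norm_num), by norm_num⟩
  · obtain rfl : e = 2 := by
      have : d ≤ 2 := had ▸ Nat.le_mul_of_pos_left d (by omega)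
      omega
    refine ⟨2, by norm_num, fun r k hr' hk hrk => ?_, le_rfl⟩
    have h := Nat.le_of_dvd (by norm_num) hrk
    obtain rfl : r = 2 := le_antisymm ((Nat.le_self_pow (by omega) r).trans h) hr'.two_le
    obtain rfl : k = 1 := by
      by_contra hcon
      have := Nat.pow_le_pow_right (show 0 < 2 by norm_num) (show 2 ≤ k by omega)
      omega
    exact linDl_two_two

theorem linDl_two_three (hs : DlStep.{u}) : LinDl.{u} 2 3 2 := by
  refine LinDl.of_step hs Nat.prime_two le_rfl (fun t m₀ ht hm htm => ?_) fun a d e had ha he hed hr => ?_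
  · have : t ≤ 3 := by nlinarith
    interval_cases t
    · omega
    · obtain rfl : m₀ = 1 := by omega
      exact ⟨0, 2, linDl_two_one, permDl_sigma (by norm_num), le_rfl⟩
  · have := dim_cases had (by norm_num) (field_two ha he hr).1
    omega

theorem linDl_two_four (hs : DlStep.{u}) : LinDl.{u} 2 4 3 := by
  refine LinDl.of_step hs Nat.prime_two (by norm_num) (fun t m₀ ht hm htm => ?_) fun a d e had ha he hed hr => ?_
  · have : t ≤ 4 := by nlinarith
    interval_cases t
    · obtain rfl : m₀ = 2 := by omega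
      exact ⟨2, 1, linDl_two_two, permDl_sigma (by norm_num), le_rfl⟩
    · omega
    · obtain rfl : m₀ = 1 := by omega
      exact ⟨0, 3, linDl_two_one, permDl_small (by norm_num), le_rfl⟩
  · obtain ⟨h1, h2, -⟩ := field_two ha he hr
    have := dim_cases had (by norm_num) h1
    omega

/-- prime powers in `e ≤ 5` -/
theorem pow_lin_five (hs : DlStep.{u}) {e : ℕ} (he : 1 ≤ e) (hle : e ≤ 5) (r k : ℕ) (hr : r.Prime) (hk : 1 ≤ k)
    (h : r ^ k ∣ e) : LinDl.{u} r (2 * k) 4 := by
  rcases pow_dvd_small hr hk he (by omega) h with rfl | ⟨rfl, -⟩ | ⟨-, -, h9⟩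
  · exact linDl_two hs r hr
  · have h2 : 2 ^ k ≤ e := Nat.le_of_dvd (by omega) h
    have : k ≤ 2 := by
      by_contra hcon
      have := Nat.pow_le_pow_right (show 0 < 2 by norm_num) (show 3 ≤ k by omega)
      omega
    interval_cases k
    · exact linDl_two hs 2 hr
    · exact (linDl_two_four hs).mono (by norm_num)
  · omega

theorem linDl_two_six (hs : DlStep.{u}) : LinDl.{u} 2 6 6 := by
  refine LinDl.of_step hs Nat.prime_two (by norm_num) (fun t m₀ ht hm htm => ?_) fun a d e had ha he hed hr => ?_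
  · have : t ≤ 6 := by nlinarith
    interval_cases t
    · obtain rfl : m₀ = 3 := by omega
      exact ⟨2, 1, linDl_two_three hs, permDl_sigma (by norm_num), by norm_num⟩
    · obtain rfl : m₀ = 2 := by omega
      exact ⟨2, 2, linDl_two_two, permDl_sigma (by norm_num), by norm_num⟩
    · omega
    · omega
    · obtain rfl : m₀ = 1 := by omega
      exact ⟨0, 3, linDl_two_one, permDl_small (by norm_num), by norm_num⟩
  · have := dim_cases had (by norm_num) (field_two ha he hr).1
    exact ⟨4, by norm_num, pow_lin_five hs (by omega) (by omega), le_rfl⟩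

theorem linDl_three_four (hs : DlStep.{u}) : LinDl.{u} 3 4 5 := by
  refine LinDl.of_step hs Nat.prime_three (by norm_num) (fun t m₀ ht hm htm => ?_) fun a d e had ha he hed hr => ?_
  · have : t ≤ 4 := by nlinarith
    interval_cases t
    · obtain rfl : m₀ = 2 := by omega
      exact ⟨4, 1, linDl_two hs 3 Nat.prime_three, permDl_sigma (by norm_num), le_rfl⟩
    · omega
    · obtain rfl : m₀ = 1 := by omega
      exact ⟨1, 3, linDl_one 3 Nat.prime_three, permDl_small (by norm_num), by norm_num⟩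
  · refine ⟨3, by norm_num, fun r k hr' hk hrk => ?_, le_rfl⟩
    have h3 : r ≠ 3 := fun h => by
      subst h
      have h4 := hr 3 hr' ((dvd_pow_self 3 (by omega)).trans hrk)
      have h5 : 3 ∣ 3 ^ a := dvd_pow_self 3 (by omega)
      have h6 : 1 ≤ 3 ^ a := Nat.one_le_pow _ _ (by norm_num)
      omega
    have hle : r ^ k ≤ 4 :=
      (Nat.le_of_dvd (by omega) hrk).trans (hed.trans (had ▸ Nat.le_mul_of_pos_left d (by omega)))
    have hr4 : r ≤ 4 := (Nat.le_self_pow (by omega) r).trans hle
    obtain rfl : r = 2 := by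
      interval_cases r <;> simp_all (config := { decide := true })
    have : k ≤ 2 := by
      by_contra hcon
      have := Nat.pow_le_pow_right (show 0 < 2 by norm_num) (show 3 ≤ k by omega)
      omega
    interval_cases k
    · exact linDl_two_two.mono (by norm_num)
    · exact linDl_two_four hs

/-- linear bounds for permutation groups of up to sixteen points -/
theorem linDl_sixteen (hs : DlStep.{u}) (p j : ℕ) (hp : p.Prime) (hj : 1 ≤ j) (h : p ^ j ≤ 16) :
    LinDl.{u} p j (sigma (p ^ j) - 1) := by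
  by_cases h7 : p ^ j ≤ 7
  · exact linDl_small p j hp hj h7
  rcases pow_dvd_small hp hj (Nat.one_le_pow _ _ hp.pos) h dvd_rfl with rfl | ⟨rfl, hk⟩ | ⟨rfl, rfl, -⟩
  · refine (linDl_one p hp).mono ?_
    rw [pow_one] at h7 ⊢
    unfold sigma
    split_ifs <;> omega
  · interval_cases j
    · omega
    · omega
    · exact (linDl_two_three hs).mono (by decide)
    · exact (linDl_two_four hs).mono (by decide)
  · exact (linDl_two hs 3 hp).mono (by decide)

/-- solvable groups of permutations of at most sixteen points -/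
theorem permDl_sixteen (h0 : DlStep.{0}) {t n : ℕ} (ht : t ≤ 16) (hn : sigma t ≤ n) : PermDl t n :=
  permDl_of le_rfl (linDl_sixteen h0) ht hn

theorem permDl_six (h0 : DlStep.{0}) {t : ℕ} (ht : t ≤ 16) : PermDl t 6 :=
  permDl_sixteen h0 ht (by unfold sigma; split_ifs <;> omega)

theorem linDl_two_eight (hs : DlStep.{u}) (h0 : DlStep.{0}) : LinDl.{u} 2 8 6 := by
  refine LinDl.of_step hs Nat.prime_two (by norm_num) (fun t m₀ ht hm htm => ?_) fun a d e had ha he hed hr => ?_
  · have : t ≤ 8 := by nlinarith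
    interval_cases t
    · obtain rfl : m₀ = 4 := by omega
      exact ⟨3, 1, linDl_two_four hs, permDl_sigma (by norm_num), by norm_num⟩
    · omega
    · obtain rfl : m₀ = 2 := by omega
      exact ⟨2, 3, linDl_two_two, permDl_small (by norm_num), by norm_num⟩
    · omega
    · omega
    · omega
    · obtain rfl : m₀ = 1 := by omega
      exact ⟨0, 4, linDl_two_one, permDl_sixteen h0 (by norm_num) (by decide), by norm_num⟩
  · have := dim_cases had (by norm_num) (field_two ha he hr).1
    exact ⟨4, by norm_num, pow_lin_five hs (by omega) (by omega), le_rfl⟩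

/-- prime powers in `e ≤ 16` -/
theorem pow_lin_sixteen (hs : DlStep.{u}) (h0 : DlStep.{0}) {e : ℕ} (he : 1 ≤ e) (hle : e ≤ 16) (r k : ℕ)
    (hr : r.Prime) (hk : 1 ≤ k) (h : r ^ k ∣ e) : LinDl.{u} r (2 * k) 6 := by
  rcases pow_dvd_small hr hk he hle h with rfl | ⟨rfl, hk4⟩ | ⟨rfl, rfl, -⟩
  · exact (linDl_two hs r hr).mono (by norm_num)
  · interval_cases k
    · exact (linDl_two hs 2 hr).mono (by norm_num)
    · exact (linDl_two_four hs).mono (by norm_num)
    · exact linDl_two_six hs
    · exact linDl_two_eight hs h0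
  · exact (linDl_three_four hs).mono (by norm_num)

/-- degrees up to five -/
theorem linDl_upto_five (hs : DlStep.{u}) (r j : ℕ) (hr : r.Prime) (hj : 1 ≤ j) (hj5 : j ≤ 5) :
    LinDl.{u} r j 6 := by
  rcases Nat.lt_or_ge j 3 with h3 | h3
  · interval_cases j
    · exact (linDl_one r hr).mono (by norm_num)
    · exact (linDl_two hs r hr).mono (by norm_num)
  refine LinDl.of_step hs hr (by norm_num) (fun t m₀ ht hm htm => ?_) fun a d e had ha he hed _ => ?_
  · have : t ≤ 5 := by nlinarith
    have hm2 : m₀ ≤ 2 := by nlinarith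
    have hb : LinDl.{u} r m₀ (if m₀ = 1 then 1 else 4) := by
      interval_cases m₀
      · simpa using linDl_one r hr
      · simpa using linDl_two hs r hr
    refine ⟨_, sigma t, hb, permDl_sigma (by omega), ?_⟩
    unfold sigma
    interval_cases t <;> interval_cases m₀ <;> first | (exfalso; omega) | norm_num
  · have : d ≤ 5 := (had ▸ Nat.le_mul_of_pos_left d (by omega) : d ≤ j).trans hj5
    exact ⟨4, by norm_num, pow_lin_five hs (by omega) (by omega), le_rfl⟩

theorem linDl_even (hs : DlStep.{u}) (h0 : DlStep.{0}) (r m : ℕ) (hr : r.Prime) (hm : 1 ≤ m) (hm5 : m ≤ 5) :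
    LinDl.{u} r (2 * m) 8 := by
  refine LinDl.of_step hs hr (by norm_num) (fun t m₀ ht hm₀ htm => ?_) fun a d e had ha he hed _ => ?_
  · have ht10 : t ≤ 10 := by nlinarith
    have hm5' : m₀ ≤ 5 := by nlinarith
    rcases Nat.lt_or_ge t 4 with ht4 | ht4
    · exact ⟨6, sigma t, linDl_upto_five hs r m₀ hr hm₀ hm5', permDl_sigma (by omega),
        by interval_cases t <;> decide⟩
    rcases Nat.lt_or_ge t 6 with ht6 | ht6
    · have : m₀ ≤ 2 := by nlinarith
      refine ⟨4, 3, ?_, permDl_small (by omega), by norm_num⟩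
      interval_cases m₀
      · exact (linDl_one r hr).mono (by norm_num)
      · exact linDl_two hs r hr
    · obtain rfl : m₀ = 1 := by nlinarith
      exact ⟨1, 6, linDl_one r hr, permDl_six h0 (by omega), by norm_num⟩
  · have : d ≤ 2 * m := had ▸ Nat.le_mul_of_pos_left d (by omega)
    exact ⟨6, by norm_num, pow_lin_sixteen hs h0 (by omega) (by omega), le_rfl⟩

/-- degrees up to eight over two elements -/
theorem linDl_two_upto_eight (hs : DlStep.{u}) (h0 : DlStep.{0}) (j : ℕ) (hj : 1 ≤ j) (hj8 : j ≤ 8) :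
    LinDl.{u} 2 j (if j ≤ 3 then 2 else if j = 4 then 3 else 6) := by
  interval_cases j <;> norm_num
  · exact linDl_two_one.mono (by norm_num)
  · exact linDl_two_two
  · exact linDl_two_three hs
  · exact linDl_two_four hs
  · exact linDl_upto_five hs 2 5 Nat.prime_two (by norm_num) le_rfl
  · exact linDl_two_six hs
  · refine LinDl.of_step hs Nat.prime_two (by norm_num) (fun t m₀ ht hm htm => ?_) fun a d e had ha he hed hr => ?_
    · have : t ≤ 7 := by nlinarith
      obtain rfl : t = 7 := by interval_cases t <;> omega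
      obtain rfl : m₀ = 1 := by omega
      exact ⟨0, 3, linDl_two_one, permDl_small le_rfl, by norm_num⟩
    · have := dim_cases had (by norm_num) (field_two ha he hr).1
      exact ⟨4, by norm_num, pow_lin_five hs (by omega) (by omega), le_rfl⟩
  · exact linDl_two_eight hs h0

theorem linDl_two_even (hs : DlStep.{u}) (h0 : DlStep.{0}) (m : ℕ) (hm : 1 ≤ m) (hm8 : m ≤ 8) :
    LinDl.{u} 2 (2 * m) 8 := by
  refine LinDl.of_step hs Nat.prime_two (by norm_num) (fun t m₀ ht hm₀ htm => ?_) fun a d e had ha he hed _ => ?_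
  · have ht16 : t ≤ 16 := by nlinarith
    have hm8' : m₀ ≤ 8 := by nlinarith
    refine ⟨_, sigma t, linDl_two_upto_eight hs h0 m₀ hm₀ hm8', permDl_sixteen h0 ht16 le_rfl, ?_⟩
    unfold sigma
    interval_cases m₀ <;> interval_cases t <;> first | (exfalso; omega) | norm_num
  · have : d ≤ 2 * m := had ▸ Nat.le_mul_of_pos_left d (by omega)
    exact ⟨6, by norm_num, pow_lin_sixteen hs h0 (by omega) (by omega), le_rfl⟩

/-- the table -/
theorem table_of_step (hs : DlStep.{u}) (h0 : DlStep.{0}) : Table.{u} :=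
  ⟨linDl_two hs, linDl_two_two, linDl_two_four hs, linDl_two_six hs, linDl_two_eight hs h0, linDl_three_four hs,
    linDl_even hs h0, linDl_two_even hs h0⟩

/-- the table, unconditionally -/
theorem table : Table.{u} := table_of_step dlStep dlStep

end CfsgLib.DlNine
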