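import Cfsg.Agent.Lib.Perm.DlNine.Field
import Cfsg.Agent.Lib.Perm.DlNine.Table
import Cfsg.Agent.Lib.Perm.DlNine.Blocks

/-!
Derived length nine: a solvable group acting completely reducibly has a vector with stabiliser of derived length at
most nine.
-/

set_option autoImplicit false
set_option linter.unusedSectionVars false
set_option linter.style.haveILetI false

namespace CfsgLib.DlNine

open CfsgLib.BaseTwo (Irr Inv CROn FieldCase scalars)

universe u

theorem stateHyp : ∀ N : ℕ, StateHyp.{u} N := by
  intro N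
  induction N using Nat.strong_induction_on with
  | _ N ih =>
    intro A V _ _ _ _ _ hle hsol hf hirr hnt
    classical
    obtain ⟨U, hU, hUc, hmax⟩ := CfsgLib.ClassPSq.exists_max_abelian (A := A)
    by_cases hall : ∀ s ∈ scalars V U, s ≠ 0 → ∃ s' ∈ scalars V U, s * s' = 1
    · obtain ⟨v, hv⟩ := exists_ne (0 : V)
      exact field_state table A V U hsol hirr ⟨⟨v, hv⟩, hU, hUc, hall, hf⟩ hmax
    · have hpos : 0 < Nat.card A := Nat.card_pos
      exact blockState A V U hsol (ih _ (by omega)) hf hirr hnt hU hUc hall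

variable {A V : Type u} [Group A] [Finite A] [AddCommGroup V] [Finite V] [DistribMulAction A V]

/-- a vector of `W` whose stabiliser has ninth derived subgroup acting trivially on `W` -/
def NineOn (A : Type u) [Group A] [DistribMulAction A V] (W : AddSubgroup V) : Prop :=
  ∃ v ∈ W, ∀ a ∈ derivedSeries (MulAction.stabilizer A v) 9, ∀ x ∈ W, (a : A) • x = x

theorem nineOn_of_irr {W : AddSubgroup V} (hsol : Group.IsSolvable A) (hW : Inv (⊤ : Subgroup A) W)
    (hmin : ∀ U ≤ W, Inv (⊤ : Subgroup A) U → U = ⊥ ∨ U = W) : NineOn A W := by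
  classical
  by_cases hne : W = ⊥
  · refine ⟨0, zero_mem _, fun a _ x hx => ?_⟩
    rw [hne, AddSubgroup.mem_bot] at hx
    rw [hx, smul_zero]
  letI : DistribMulAction A W :=
    { smul := fun a x => ⟨a • (x : V), hW a trivial x x.2⟩
      one_smul := fun x => Subtype.ext (one_smul A (x : V))
      mul_smul := fun a b x => Subtype.ext (mul_smul a b (x : V))
      smul_zero := fun a => Subtype.ext (smul_zero a)
      smul_add := fun a x y => Subtype.ext (smul_add a (x : V) y) }
  let φ := MulAction.toPermHom A W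
  let A' := A ⧸ φ.ker
  letI : MulAction A' W := MulAction.compHom W (QuotientGroup.kerLift φ)
  have hψ : ∀ a : A, ∀ x : W, (QuotientGroup.mk a : A') • x = a • x := fun a x => rfl
  letI : DistribMulAction A' W :=
    { (inferInstance : MulAction A' W) with
      smul_zero := fun a' => QuotientGroup.induction_on a' fun a => (hψ a 0).trans (smul_zero a)
      smul_add := fun a' x y => QuotientGroup.induction_on a' fun a => by
        show (QuotientGroup.mk a : A') • (x + y) = (QuotientGroup.mk a : A') • x + (QuotientGroup.mk a : A') • y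
        rw [hψ, hψ, hψ, smul_add] }
  have hirr : Irr A' W := by
    intro Y hY
    rcases hmin (Y.map W.subtype) (by rintro _ ⟨y, -, rfl⟩; exact y.2) (by
      rintro a - _ ⟨y, hy, rfl⟩
      exact ⟨_, hY (QuotientGroup.mk a) trivial y hy, by rw [hψ]; rfl⟩) with h | h
    · refine Or.inl ((AddSubgroup.eq_bot_iff_forall _).2 fun y hy => Subtype.ext ?_)
      have h' : (y : V) ∈ Y.map W.subtype := ⟨y, hy, rfl⟩
      rwa [h, AddSubgroup.mem_bot] at h'
    · refine Or.inr (eq_top_iff.2 fun y _ => ?_)
      obtain ⟨z, hz, e⟩ : (y : V) ∈ Y.map W.subtype := by rw [h]; exact y.2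
      rwa [show z = y from Subtype.ext e] at hz
  haveI : Nontrivial W := (AddSubgroup.nontrivial_iff_ne_bot W).2 hne
  obtain ⟨v, hv⟩ := (stateHyp.{u} (Nat.card A') A' W le_rfl
    (haveI := hsol; Group.isSolvable_of_surjective (QuotientGroup.mk'_surjective φ.ker))
    (fun a' h => QuotientGroup.kerLift_injective φ (by rw [map_one]; exact Equiv.ext h)) hirr inferInstance).exists_nine
  refine ⟨v, v.2, fun a ha x hx => ?_⟩
  let g : MulAction.stabilizer A (v : V) →* MulAction.stabilizer A' v :=
    ((QuotientGroup.mk' φ.ker).comp (MulAction.stabilizer A (v : V)).subtype).codRestrict _ fun b =>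
      Subtype.ext (show (b : A) • (v : V) = v from b.2)
  have h1 : g a = 1 := Subgroup.mem_bot.1 (by
    rw [← hv]
    exact map_derivedSeries_le_derivedSeries g 9 ⟨a, ha, rfl⟩)
  have h2 := congrArg (fun b : MulAction.stabilizer A' v => (b : A') • (⟨x, hx⟩ : W)) h1
  exact (congrArg Subtype.val h2).trans (by simp)

theorem nineOn_of_cr (hsol : Group.IsSolvable A) :
    ∀ W : AddSubgroup V, Inv (⊤ : Subgroup A) W → CROn (⊤ : Subgroup A) W → NineOn A W := by
  intro W
  induction h : Nat.card W using Nat.strong_induction_on generalizing W with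
  | _ n ih =>
    intro hW hcr
    by_cases hmin : ∀ U ≤ W, Inv (⊤ : Subgroup A) U → U = ⊥ ∨ U = W
    · exact nineOn_of_irr hsol hW hmin
    push Not at hmin
    obtain ⟨U, hUW, hU, hU0, hUne⟩ := hmin
    obtain ⟨U', hU'W, hU', hinf, hsup⟩ := hcr U hUW hU
    have hlt : ∀ X : AddSubgroup V, X ≤ W → X ≠ W → Nat.card X < n := fun X hX hne =>
      h ▸ Set.ncard_lt_ncard (SetLike.coe_ssubset_coe.2 (lt_of_le_of_ne hX hne)) (Set.toFinite _)
    have hU'ne : U' ≠ W := fun e => hU0 (by
      rw [← hinf, e]; exact (inf_eq_left.2 hUW).symm)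
    obtain ⟨v, hv, h1⟩ := ih _ (hlt U hUW hUne) U rfl hU (hcr.mono hUW hU)
    obtain ⟨v', hv', h2⟩ := ih _ (hlt U' hU'W hU'ne) U' rfl hU' (hcr.mono hU'W hU')
    have key : ∀ a : A, a • (v + v') = v + v' → a • v = v ∧ a • v' = v' := by
      intro a e
      have h0 : a • v - v ∈ U ⊓ U' := AddSubgroup.mem_inf.2
        ⟨sub_mem (hU a trivial v hv) hv, by
          rw [show a • v - v = v' - a • v' by
            rw [smul_add] at e; linear_combination (norm := abel) e]
          exact sub_mem hv' (hU' a trivial v' hv')⟩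
      rw [hinf, AddSubgroup.mem_bot, sub_eq_zero] at h0
      rw [smul_add, h0, add_right_inj] at e
      exact ⟨h0, e⟩
    refine ⟨v + v', add_mem (hUW hv) (hU'W hv'), fun a ha x hx => ?_⟩
    have hle1 : MulAction.stabilizer A (v + v') ≤ MulAction.stabilizer A v := fun b hb => (key b hb).1
    have hle2 : MulAction.stabilizer A (v + v') ≤ MulAction.stabilizer A v' := fun b hb => (key b hb).2
    have k1 := h1 _ (map_derivedSeries_le_derivedSeries (Subgroup.inclusion hle1) 9 ⟨a, ha, rfl⟩)
    have k2 := h2 _ (map_derivedSeries_le_derivedSeries (Subgroup.inclusion hle2) 9 ⟨a, ha, rfl⟩)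
    rw [← hsup] at hx
    obtain ⟨y, hy, y', hy', rfl⟩ := AddSubgroup.mem_sup.1 hx
    rw [smul_add]
    exact congrArg₂ (· + ·) (k1 y hy) (k2 y' hy')

/-- **Derived length nine.** -/
theorem exists_dl_nine {A : Type*} {V : Type u} [Group A] [Finite A] [AddCommGroup V] [Finite V]
    [DistribMulAction A V] [FaithfulSMul A V] (hsol : Group.IsSolvable A)
    (hcr : CROn (⊤ : Subgroup A) (⊤ : AddSubgroup V)) : ∃ v : V, DlLE (MulAction.stabilizer A v) 9 := by
  let φ := MulAction.toPermHom A V
  let A' := φ.range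
  letI : DistribMulAction A' V :=
    { smul := fun g x => (g : Equiv.Perm V) x
      one_smul := fun x => rfl
      mul_smul := fun g h x => rfl
      smul_zero := fun g => by obtain ⟨_, a, rfl⟩ := g; exact smul_zero a
      smul_add := fun g x y => by obtain ⟨_, a, rfl⟩ := g; exact smul_add a x y }
  have hsol' : Group.IsSolvable A' := by
    haveI := hsol
    exact Group.isSolvable_of_surjective φ.rangeRestrict_surjective
  have hcr' : CROn (⊤ : Subgroup A') (⊤ : AddSubgroup V) := by
    intro X hX hXi
    obtain ⟨Y, hY, hYi, h1, h2⟩ := hcr X hX (fun a _ x hx => hXi ⟨φ a, a, rfl⟩ trivial x hx)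
    exact ⟨Y, hY, fun a' _ x hx => by
      obtain ⟨_, a, rfl⟩ := a'
      exact hYi a trivial x hx, h1, h2⟩
  obtain ⟨v, -, hv⟩ := nineOn_of_cr (A := A') hsol' ⊤ (fun _ _ _ _ => trivial) hcr'
  refine ⟨v, ?_⟩
  let g : MulAction.stabilizer A v →* MulAction.stabilizer A' v :=
    (φ.rangeRestrict.comp (MulAction.stabilizer A v).subtype).codRestrict _ fun b => show (b : A) • v = v from b.2
  refine (Subgroup.eq_bot_iff_forall _).2 fun b hb => Subtype.ext (eq_of_smul_eq_smul (α := V) fun x => ?_)
  rw [Subgroup.coe_one, one_smul]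
  exact hv (g b) (map_derivedSeries_le_derivedSeries g 9 ⟨b, hb, rfl⟩) x trivial

end CfsgLib.DlNine
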