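import Cfsg.Agent.Lib.Perm.DlNine.Defs
import Cfsg.Agent.Lib.Solvable.MinNormal

/-!
Derived length of solvable groups of permutations of few points: intransitive groups by orbits, imprimitive
groups by blocks, and primitive groups by their point stabiliser acting on the regular minimal normal subgroup.
-/

set_option autoImplicit false
set_option linter.unusedSectionVars false
set_option linter.style.haveILetI false

namespace CfsgLib.DlNine

open CfsgLib.BaseTwo (Irr Inv)
open CfsgLib.ClassLin (LinGrp)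

universe u v

/-- bound for the derived length of solvable groups of permutations of `t ≤ 16` points -/
def sigma (t : ℕ) : ℕ :=
  if t ≤ 1 then 0 else if t ≤ 2 then 1 else if t ≤ 3 then 2 else if t ≤ 7 then 3 else if t ≤ 8 then 4 else 6

theorem sigma_mono {s t : ℕ} (h : s ≤ t) : sigma s ≤ sigma t := by
  unfold sigma
  split_ifs <;> omega

theorem sigma_one_le {t : ℕ} (h : 2 ≤ t) : 1 ≤ sigma t := by
  unfold sigma
  split_ifs <;> omega

theorem sigma_blocks {t d : ℕ} (ht : 2 ≤ t) (hd : 2 ≤ d) (h : t * d ≤ 16) :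
    sigma t + sigma d ≤ sigma (t * d) := by
  have h1 : t ≤ 8 := by nlinarith
  have h2 : d ≤ 8 := by nlinarith
  interval_cases t <;> interval_cases d <;> first | (exfalso; omega) | decide

/-- a group with a transitive abelian minimal normal subgroup -/
theorem dlLE_regular {B Ω : Type} [Group B] [Finite B] [Finite Ω] [MulAction B Ω] (hB : Group.IsSolvable B)
    (hfaith : ∀ a : B, (∀ x : Ω, a • x = x) → a = 1) (M : Subgroup B) [hMn : M.Normal] (hM : M ≠ ⊥)
    (hmin : ∀ K : Subgroup B, K.Normal → K ≤ M → K = ⊥ ∨ K = M) (ω : Ω)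
    (htr : ∀ x : Ω, ∃ m ∈ M, m • ω = x) :
    ∃ p j : ℕ, p.Prime ∧ 1 ≤ j ∧ Nat.card Ω = p ^ j ∧ ∀ b, LinDl.{0} p j b → DlLE B (b + 1) := by
  classical
  haveI := hB
  obtain ⟨p, hp, hpM, hexp, hMc'⟩ := CfsgLib.Solvable.exists_isPGroup_of_minimal_normal hM hmin
  have hMc : ∀ x ∈ M, ∀ y ∈ M, x * y = y * x := fun x hx y hy =>
    congrArg Subtype.val (hMc'.is_comm.comm (⟨x, hx⟩ : M) ⟨y, hy⟩)
  haveI : Fact p.Prime := ⟨hp⟩
  have reg : ∀ m ∈ M, m • ω = ω → m = 1 := fun m hm h => hfaith m fun x => by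
    obtain ⟨k, hk, rfl⟩ := htr x
    rw [← mul_smul, hMc m hm k hk, mul_smul, h]
  have inj : ∀ m ∈ M, ∀ k ∈ M, m • ω = k • ω → m = k := fun m hm k hk h =>
    (inv_mul_eq_one.1 (reg (k⁻¹ * m) (mul_mem (inv_mem hk) hm) (by rw [mul_smul, h, inv_smul_smul]))).symm
  have hfix : ∀ {a : B}, a • ω = ω → ∀ m : B, (a * m * a⁻¹) • ω = a • m • ω := fun {a} ha m => by
    have h : a⁻¹ • ω = ω := inv_smul_eq_iff.2 ha.symm
    rw [mul_smul, mul_smul, h]
  have hbij : Function.Bijective fun m : M => (m : B) • ω :=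
    ⟨fun m k h => Subtype.ext (inj _ m.2 _ k.2 h), fun x => by
      obtain ⟨m, hm, rfl⟩ := htr x
      exact ⟨⟨m, hm⟩, rfl⟩⟩
  obtain ⟨j, hj⟩ := IsPGroup.iff_card.1 hpM
  have hcard : Nat.card Ω = p ^ j := by rw [← Nat.card_congr (Equiv.ofBijective _ hbij), hj]
  have hj1 : 1 ≤ j := Nat.one_le_iff_ne_zero.2 fun h0 => hM (Subgroup.eq_bot_of_card_eq _ (by rw [hj, h0, pow_zero]))
  refine ⟨p, j, hp, hj1, hcard, fun b hb => ?_⟩
  let H := MulAction.stabilizer B ω
  letI : CommGroup M := { (inferInstance : Group M) with mul_comm := fun x y => Subtype.ext (hMc x x.2 y y.2) }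
  letI : DistribMulAction H (Additive M) :=
    { smul := fun a x => Additive.ofMul ⟨(a : B) * (x.toMul : M) * (a : B)⁻¹, hMn.conj_mem _ x.toMul.2 _⟩
      one_smul := fun x => Additive.toMul.injective (Subtype.ext (show (1 : B) * _ * (1 : B)⁻¹ = _ by simp))
      mul_smul := fun a b x => Additive.toMul.injective (Subtype.ext
        (show ((a : B) * b) * _ * ((a : B) * b)⁻¹ = (a : B) * ((b : B) * _ * (b : B)⁻¹) * (a : B)⁻¹ by group))
      smul_zero := fun a => Additive.toMul.injective (Subtype.ext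
        (show (a : B) * (1 : B) * (a : B)⁻¹ = 1 by group))
      smul_add := fun a x y => Additive.toMul.injective (Subtype.ext
        (show (a : B) * ((x.toMul : M) * (y.toMul : M) : B) * (a : B)⁻¹ =
          ((a : B) * (x.toMul : M) * (a : B)⁻¹) * ((a : B) * (y.toMul : M) * (a : B)⁻¹) by group)) }
  have hL : LinGrp H (Additive M) p j :=
    { sol := Group.isSolvable_of_isSolvable_injective H.subtype_injective
      faith := fun a ha => Subtype.ext (hfaith a fun x => by
        obtain ⟨m, hm, rfl⟩ := htr x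
        have h : (a : B) * m * (a : B)⁻¹ = m :=
          congrArg (fun z : Additive M => ((z.toMul : M) : B)) (ha (Additive.ofMul ⟨m, hm⟩))
        rw [← hfix a.2 m, h])
      irr := fun U hU => by
        let U₀ : Subgroup B := (U.toSubgroup').map M.subtype
        have hU₀M : U₀ ≤ M := by rintro _ ⟨x, -, rfl⟩; exact x.2
        have hmem : ∀ x : M, (x : B) ∈ U₀ ↔ Additive.ofMul x ∈ U := fun x => by
          constructor
          · rintro ⟨y, hy, e⟩
            rw [show y = x from Subtype.ext e] at hy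
            exact hy
          · exact fun h => ⟨x, h, rfl⟩
        have hn : U₀.Normal := ⟨fun n hn g => by
          obtain ⟨m, hm, hmg⟩ := htr (g • ω)
          have hh : m⁻¹ * g ∈ H := by
            rw [MulAction.mem_stabilizer_iff, mul_smul, ← hmg, inv_smul_smul]
          have hnM := hU₀M hn
          have h1 : (m⁻¹ * g) * n * (m⁻¹ * g)⁻¹ ∈ U₀ := by
            have := hU (⟨m⁻¹ * g, hh⟩ : H) trivial (Additive.ofMul ⟨n, hnM⟩) ((hmem ⟨n, hnM⟩).1 hn)
            exact (hmem ⟨_, hMn.conj_mem n hnM _⟩).2 this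
          have h2 : g * n * g⁻¹ = (m⁻¹ * g) * n * (m⁻¹ * g)⁻¹ := by
            have hc := hMc m hm _ (hMn.conj_mem n hnM (m⁻¹ * g))
            calc g * n * g⁻¹ = m * ((m⁻¹ * g) * n * (m⁻¹ * g)⁻¹) * m⁻¹ := by group
              _ = _ := by rw [hc]; group
          rw [h2]; exact h1⟩
        rcases hmin U₀ hn hU₀M with h | h
        · refine Or.inl ((AddSubgroup.eq_bot_iff_forall _).2 fun x hx => ?_)
          have h' : ((x.toMul : M) : B) ∈ U₀ := (hmem _).2 hx
          rw [h, Subgroup.mem_bot] at h'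
          exact Additive.toMul.injective (Subtype.ext h')
        · refine Or.inr (eq_top_iff.2 fun x _ => (hmem x.toMul).1 ?_)
          rw [h]; exact x.toMul.2
      exp := fun x => Additive.toMul.injective (Subtype.ext (hexp _ x.toMul.2))
      card := (Nat.card_congr Additive.toMul).trans hj
      one_le := hj1 }
  have hq : DlLE (B ⧸ M) b := by
    refine (hb H (Additive M) hL).of_surjective ((QuotientGroup.mk' M).comp H.subtype) fun q => ?_
    obtain ⟨g, rfl⟩ := QuotientGroup.mk'_surjective M q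
    obtain ⟨m, hm, hmg⟩ := htr (g • ω)
    refine ⟨⟨m⁻¹ * g, by rw [MulAction.mem_stabilizer_iff, mul_smul, ← hmg, inv_smul_smul]⟩, ?_⟩
    show QuotientGroup.mk' M (m⁻¹ * g) = QuotientGroup.mk' M g
    rw [map_mul, map_inv, show QuotientGroup.mk' M m = 1 from (QuotientGroup.eq_one_iff m).2 hm, inv_one, one_mul]
  refine DlLE.of_hom (QuotientGroup.mk' M) (DlLE.of_comm fun x y => Subtype.ext ?_) hq
  exact hMc _ ((QuotientGroup.eq_one_iff _).1 x.2) _ ((QuotientGroup.eq_one_iff _).1 y.2)

/-- the derived series fixes every point -/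
theorem derived_smul_eq {N : ℕ} (hN : N ≤ 16)
    (hlin : ∀ p j : ℕ, p.Prime → 1 ≤ j → p ^ j ≤ N → LinDl.{0} p j (sigma (p ^ j) - 1)) :
    ∀ (n : ℕ) (A Ω : Type) [Group A] [Finite A] [Finite Ω] [MulAction A Ω], Group.IsSolvable A →
      Nat.card Ω = n → n ≤ N → ∀ a ∈ derivedSeries A (sigma n), ∀ x : Ω, a • x = x := by
  intro n
  induction n using Nat.strong_induction_on with
  | _ n ih =>
    intro A Ω _ _ _ _ hA hn hnN a ha ω
    by_cases hn1 : n ≤ 1
    · haveI : Subsingleton Ω := Finite.card_le_one_iff_subsingleton.1 (hn ▸ hn1)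
      exact Subsingleton.elim _ _
    by_cases htr : ∀ x : Ω, ∃ g : A, g • ω = x
    swap
    · let P : SubMulAction A Ω :=
        { carrier := MulAction.orbit A ω, smul_mem' := fun g x hx => MulAction.mem_orbit_of_mem_orbit g hx }
      push Not at htr
      obtain ⟨y, hy⟩ := htr
      have hlt : Nat.card P < n := hn ▸ Finite.card_subtype_lt (x := y) fun ⟨g, hg⟩ => hy g hg
      exact congrArg Subtype.val (ih _ hlt A P hA rfl (hlt.le.trans hnN) a
        (derivedSeries_antitone A (sigma_mono hlt.le) ha) ⟨ω, MulAction.mem_orbit_self ω⟩)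
    -- a transitive group of permutations
    suffices hF : ∀ (B : Type) [Group B] [Finite B] [MulAction B Ω], Group.IsSolvable B →
        (∀ b : B, (∀ x : Ω, b • x = x) → b = 1) → (∀ x : Ω, ∃ g : B, g • ω = x) → DlLE B (sigma n) by
      let φ := MulAction.toPermHom A Ω
      haveI := hA
      have hR := hF φ.range (Group.isSolvable_of_surjective φ.rangeRestrict_surjective)
        (fun b hb => Subtype.ext (Equiv.ext hb)) fun x => by
          obtain ⟨g, hg⟩ := htr x
          exact ⟨⟨φ g, g, rfl⟩, hg⟩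
      have h1 := map_derivedSeries_le_derivedSeries φ.rangeRestrict (sigma n) ⟨a, ha, rfl⟩
      rw [hR, Subgroup.mem_bot] at h1
      exact congrArg (fun s : φ.range => (s : Equiv.Perm Ω) ω) h1
    intro B _ _ _ hB hfaith htrB
    haveI := hB
    haveI : Nontrivial Ω := Finite.one_lt_card_iff_nontrivial.1 (hn ▸ Nat.lt_of_not_le hn1)
    haveI : Nontrivial B := by
      obtain ⟨y, hy⟩ := exists_ne ω
      obtain ⟨g, hg⟩ := htrB y
      exact ⟨⟨g, 1, fun e => hy (by rw [← hg, e, one_smul])⟩⟩
    obtain ⟨M, hMn, hM, hmin⟩ := CfsgLib.Solvable.exists_minimal_normal (G := B)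
    haveI := hMn
    by_cases hMt : ∀ x : Ω, ∃ m ∈ M, m • ω = x
    · obtain ⟨p, j, hp, hj, hcard, hd⟩ := dlLE_regular hB hfaith M hM hmin ω hMt
      rw [hn] at hcard
      refine (hd _ (hlin p j hp hj (hcard ▸ hnN))).mono ?_
      rw [← hcard, Nat.sub_add_cancel (sigma_one_le (by omega))]
    -- blocks
    classical
    let setoidM : Setoid Ω := MulAction.orbitRel M Ω
    let Ω' := Quotient setoidM
    letI : MulAction B Ω' :=
      { smul := fun g => Quotient.map (fun x => g • x) fun x y h => by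
          obtain ⟨m, hm⟩ := h
          refine ⟨⟨g * (m : B) * g⁻¹, hMn.conj_mem _ m.2 g⟩, ?_⟩
          show (g * (m : B) * g⁻¹) • g • y = g • x
          rw [mul_smul, mul_smul, inv_smul_smul, ← show (m : B) • y = x from hm]
        one_smul := fun i => Quotient.inductionOn i fun x => congrArg (Quotient.mk _) (one_smul B x)
        mul_smul := fun g h i => Quotient.inductionOn i fun x => congrArg (Quotient.mk _) (mul_smul g h x) }
    haveI : Finite Ω' := Quotient.finite _
    let f : Ω → Ω' := Quotient.mk setoidM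
    have hf : ∀ (g : B) (x : Ω), f (g • x) = g • f x := fun _ _ => rfl
    let i₀ := f ω
    have hfib : ∀ i : Ω', Nonempty ({x : Ω // f x = i} ≃ {x : Ω // f x = i₀}) := by
      intro i
      obtain ⟨x, rfl⟩ := Quotient.mk_surjective i
      obtain ⟨g, rfl⟩ := htrB x
      refine ⟨((MulAction.toPerm g).subtypeEquiv fun y => ?_).symm⟩
      show f y = i₀ ↔ f (g • y) = f (g • ω)
      rw [hf, hf, smul_left_cancel_iff]
    obtain ⟨t, ht⟩ : ∃ t, Nat.card Ω' = t := ⟨_, rfl⟩
    obtain ⟨d, hd⟩ : ∃ d, Nat.card {x : Ω // f x = i₀} = d := ⟨_, rfl⟩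
    have htd : t * d = n := by
      rw [← ht, ← hd, ← Nat.card_prod, ← hn]
      exact Nat.card_congr ((Equiv.sigmaFiberEquiv f).symm.trans
        (Equiv.sigmaEquivProdOfEquiv fun i => (hfib i).some)).symm
    have ht2 : 2 ≤ t := by
      push Not at hMt
      obtain ⟨x, hx⟩ := hMt
      haveI : Nontrivial Ω' := ⟨⟨f x, f ω, fun e => by
        obtain ⟨m, hm⟩ := Quotient.exact e
        exact hx m m.2 hm⟩⟩
      exact ht ▸ Finite.one_lt_card
    have hd2 : 2 ≤ d := by
      obtain ⟨m, hm, hm1⟩ : ∃ m ∈ M, m ≠ 1 := by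
        by_contra hno
        push Not at hno
        exact hM ((Subgroup.eq_bot_iff_forall _).2 hno)
      obtain ⟨x, hx⟩ : ∃ x : Ω, m • x ≠ x := by
        by_contra hno
        push Not at hno
        exact hm1 (hfaith m hno)
      rw [← hd, ← Nat.card_congr (hfib (f x)).some]
      haveI : Nontrivial {y : Ω // f y = f x} :=
        ⟨⟨⟨m • x, Quotient.sound ⟨⟨m, hm⟩, rfl⟩⟩, ⟨x, rfl⟩, fun e => hx (congrArg Subtype.val e)⟩⟩
      exact Finite.one_lt_card
    have htn : t < n := by nlinarith
    have hdn : d < n := by nlinarith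
    let φ := (MulAction.toPermHom B Ω').rangeRestrict
    have hR : DlLE (MulAction.toPermHom B Ω').range (sigma t) :=
      (Subgroup.eq_bot_iff_forall _).2 fun r hr => Subtype.ext (Equiv.ext fun i =>
        ih t htn (MulAction.toPermHom B Ω').range Ω'
          (Group.isSolvable_of_surjective (MulAction.toPermHom B Ω').rangeRestrict_surjective) ht
          (htn.le.trans hnN) r hr i)
    have hK : DlLE φ.ker (sigma d) := by
      refine (Subgroup.eq_bot_iff_forall _).2 fun k hk => Subtype.ext (hfaith (k : B) fun x => ?_)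
      have hkf : ∀ (k : φ.ker) (i : Ω'), (k : B) • i = i := fun k i =>
        congrArg (fun s : (MulAction.toPermHom B Ω').range => (s : Equiv.Perm Ω') i) k.2
      letI : MulAction φ.ker {y : Ω // f y = f x} :=
        { smul := fun k y => ⟨(k : B) • (y : Ω), by rw [hf, y.2, hkf]⟩
          one_smul := fun y => Subtype.ext (one_smul B (y : Ω))
          mul_smul := fun k l y => Subtype.ext (mul_smul (k : B) l (y : Ω)) }
      exact congrArg Subtype.val (ih d hdn φ.ker {y : Ω // f y = f x}
        (Group.isSolvable_of_isSolvable_injective φ.ker.subtype_injective)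
        (by rw [Nat.card_congr (hfib (f x)).some, hd]) (hdn.le.trans hnN) k hk ⟨x, rfl⟩)
    refine (DlLE.of_hom φ hK hR).mono ?_
    rw [← htd]
    exact sigma_blocks ht2 hd2 (by omega)

/-- the permutation table from linear bounds -/
theorem permDl_of {N : ℕ} (hN : N ≤ 16)
    (hlin : ∀ p j : ℕ, p.Prime → 1 ≤ j → p ^ j ≤ N → LinDl.{0} p j (sigma (p ^ j) - 1))
    {t n : ℕ} (ht : t ≤ N) (hn : sigma t ≤ n) : PermDl t n := fun S hS =>
  DlLE.mono ((Subgroup.eq_bot_iff_forall _).2 fun a ha => Subtype.ext (Equiv.ext fun x =>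
    derived_smul_eq hN hlin t S (Fin t) hS (Nat.card_fin t) ht a ha x)) hn

/-! ### The smallest linear groups -/

theorem LinDl.mono {p m a b : ℕ} (h : LinDl.{u} p m a) (hab : a ≤ b) : LinDl.{u} p m b :=
  fun A V _ _ _ _ _ L => (h A V L).mono hab

/-- degree one: abelian -/
theorem linDl_one (p : ℕ) (hp : p.Prime) : LinDl.{u} p 1 1 := by
  intro A V _ _ _ _ _ L
  haveI : Fact p.Prime := ⟨hp⟩
  haveI : IsAddCyclic V := isAddCyclic_of_prime_card (p := p) (by rw [L.card, pow_one])
  obtain ⟨g, hg⟩ := IsAddCyclic.exists_generator (α := V)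
  refine DlLE.of_comm fun a b => ?_
  have h : a⁻¹ * b⁻¹ * a * b = 1 := by
    refine L.faith _ fun v => ?_
    obtain ⟨i, hi⟩ := AddSubgroup.mem_zmultiples_iff.1 (hg (a • g))
    obtain ⟨j, hj⟩ := AddSubgroup.mem_zmultiples_iff.1 (hg (b • g))
    have key : ∀ w : V, a • b • w = b • a • w := fun w => by
      obtain ⟨k, rfl⟩ := AddSubgroup.mem_zmultiples_iff.1 (hg w)
      simp only [smul_comm a k, smul_comm b k, ← hi, ← hj, smul_comm a j, smul_comm b i]
      rw [smul_comm i j g]
    rw [mul_smul, mul_smul, mul_smul, key v, inv_smul_smul, inv_smul_smul]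
  calc a * b = b * a * (a⁻¹ * b⁻¹ * a * b) := by group
    _ = b * a := by rw [h, mul_one]

/-- degree one over two elements: trivial -/
theorem linDl_two_one : LinDl.{u} 2 1 0 := by
  intro A V _ _ _ _ _ L
  obtain ⟨y, -, hy⟩ := (Nat.card_eq_two_iff' (0 : V)).1 (by rw [L.card, pow_one])
  haveI : Subsingleton A := ⟨fun a b => by
    have h : ∀ c : A, c = 1 := fun c => L.faith c fun v => by
      rcases eq_or_ne v 0 with rfl | hv
      · rw [smul_zero]
      · rw [hy v hv]
        exact hy _ ((smul_ne_zero_iff_ne c).2 (hy v hv ▸ hv))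
    rw [h a, h b]⟩
  exact DlLE.of_subsingleton 0

theorem dlLE_perm_three : DlLE (Equiv.Perm (Fin 3)) 2 := by
  have hk : ∀ x y : Equiv.Perm (Fin 3), Equiv.Perm.sign x = 1 → Equiv.Perm.sign y = 1 → x * y = y * x := by
    decide +kernel
  exact DlLE.of_hom (Equiv.Perm.sign : Equiv.Perm (Fin 3) →* ℤˣ)
    (DlLE.of_comm fun x y => Subtype.ext (hk x y x.2 y.2)) (DlLE.of_comm mul_comm)

/-- degree two over two elements -/
theorem linDl_two_two : LinDl.{u} 2 2 2 := by
  intro A V _ _ _ _ _ L
  classical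
  haveI := Fintype.ofFinite V
  let T := {v : V // v ≠ 0}
  have hT : Nat.card T = 3 := by
    rw [Nat.card_eq_fintype_card, Fintype.card_subtype_compl, Fintype.card_subtype_eq,
      ← Nat.card_eq_fintype_card, L.card]
    norm_num
  let e : T ≃ Fin 3 := Finite.equivFinOfCardEq hT
  let f : A →* Equiv.Perm T := MonoidHom.mk' (fun a => (MulAction.toPerm a : Equiv.Perm V).subtypePerm
    (fun v => by simp [smul_eq_zero_iff_eq])) fun a b => Equiv.ext fun v => Subtype.ext (mul_smul a b (v : V))
  have hfi : Function.Injective f := (injective_iff_map_eq_one f).2 fun a ha => L.faith a fun v => by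
    by_cases hv : v = 0
    · rw [hv, smul_zero]
    · exact congrArg Subtype.val (Equiv.ext_iff.1 ha ⟨v, hv⟩)
  exact dlLE_perm_three.of_injective (e.permCongrHom.toMonoidHom.comp f) (e.permCongrHom.injective.comp hfi)

theorem linDl_small (p j : ℕ) (hp : p.Prime) (hj : 1 ≤ j) (h : p ^ j ≤ 7) :
    LinDl.{u} p j (sigma (p ^ j) - 1) := by
  have hp7 : p ≤ 7 := (Nat.le_self_pow (by omega) p).trans h
  have hj2 : j ≤ 2 := by
    by_contra hcon
    have := Nat.pow_le_pow_right hp.pos (show 3 ≤ j by omega)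
    nlinarith [hp.two_le, Nat.pow_le_pow_left hp.two_le 3]
  interval_cases j
  · rcases hp.eq_two_or_odd with rfl | hodd
    · exact linDl_two_one.mono (Nat.zero_le _)
    · refine (linDl_one p hp).mono ?_
      have h2 := hp.two_le
      unfold sigma
      rw [pow_one]
      split_ifs <;> omega
  · have : p < 3 := by
      by_contra hcon
      nlinarith
    obtain rfl : p = 2 := le_antisymm (by omega) hp.two_le
    exact linDl_two_two.mono (by decide)

/-- solvable groups of permutations of at most seven points -/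
theorem permDl_sigma {t : ℕ} (ht : t ≤ 7) : PermDl t (sigma t) :=
  permDl_of (by norm_num) linDl_small ht le_rfl

theorem permDl_small {t : ℕ} (ht : t ≤ 7) : PermDl t 3 :=
  permDl_of (by norm_num) linDl_small ht (by unfold sigma; split_ifs <;> omega)

end CfsgLib.DlNine
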