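import Cfsg.Agent.Lib.Perm.DlNine.Affine

/-!
Solvable groups on at most seven points act with derived length at most three; primitive ones of prime degree with
derived length at most two; there are none on six points.
-/

set_option autoImplicit false
set_option linter.style.haveILetI false

namespace CfsgLib.Perm.DlNine

open MulAction

universe u v

variable {A : Type u} {Ω : Type v} [Group A] [MulAction A Ω]

/-- The image of the regular part, as a group of permutations. -/
theorem RegPart.exists_image {M : Subgroup A} (h : RegPart A Ω M) (ω : Ω) :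
    ∃ R : Subgroup (Equiv.Perm Ω), R = M.map (MulAction.toPermHom A Ω) ∧
      (∀ x ∈ R, ∀ y ∈ R, x * y = y * x) ∧ Nat.card R = Nat.card Ω ∧
      (∀ x : Ω, ∃ g ∈ R, g ω = x) ∧ ∀ g ∈ R, g ω = ω → g = 1 := by
  refine ⟨_, rfl, ?_, ?_, ?_, ?_⟩
  · rintro _ ⟨m, hm, rfl⟩ _ ⟨n, hn, rfl⟩
    exact Equiv.ext fun x => h.comm m hm n hn x
  · refine Nat.card_eq_of_bijective (fun g => (g : Equiv.Perm Ω) ω) ⟨?_, ?_⟩
    · rintro ⟨_, m, hm, rfl⟩ ⟨_, n, hn, rfl⟩ he
      refine Subtype.ext (Equiv.ext fun x => ?_)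
      have hfix := h.fix (mul_mem (inv_mem hn) hm) (x := ω) (by
        rw [mul_smul, show m • ω = n • ω from he, inv_smul_smul]) x
      show m • x = n • x
      rw [mul_smul, inv_smul_eq_iff] at hfix
      exact hfix
    · intro x
      obtain ⟨m, hm, hmx⟩ := h.trans ω x
      exact ⟨⟨_, m, hm, rfl⟩, hmx⟩
  · intro x
    obtain ⟨m, hm, hmx⟩ := h.trans ω x
    exact ⟨_, ⟨m, hm, rfl⟩, hmx⟩
  · rintro _ ⟨m, hm, rfl⟩ he
    exact Equiv.ext fun x => h.fix hm he x

/-- In prime degree the stabiliser of a point acts with derived length one. -/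
theorem RegPart.fixes_prime [Finite Ω] {M : Subgroup A} (h : RegPart A Ω M) {p : ℕ} (hp : p.Prime)
    (hΩ : Nat.card Ω = p) (ω : Ω) : Fixes (dser (stabilizer A ω) 1) Ω := by
  obtain ⟨R, hR, -, hcard, htr, -⟩ := h.exists_image ω
  haveI : Fact p.Prime := ⟨hp⟩
  obtain ⟨⟨g, hgR⟩, hg⟩ := (isCyclic_of_prime_card (α := R) (p := p) (by rw [hcard, hΩ])).exists_generator
  have hpow : ∀ x ∈ R, ∃ k : ℤ, x = g ^ k := by
    intro x hx
    obtain ⟨k, hk⟩ := Subgroup.mem_zpowers_iff.1 (hg ⟨x, hx⟩)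
    exact ⟨k, by rw [← show ((⟨g, hgR⟩ : R) ^ k : R).1 = x from congrArg Subtype.val hk]; simp⟩
  let φ := MulAction.toPermHom A Ω
  have hconj : ∀ a : A, a • ω = ω → ∃ i : ℤ, ∀ k : ℤ, a • (g ^ k) ω = (g ^ (i * k)) ω := by
    intro a ha
    have hmem : φ a * g * (φ a)⁻¹ ∈ R := by
      rw [hR] at hgR ⊢
      obtain ⟨m, hm, rfl⟩ := hgR
      exact ⟨a * m * a⁻¹, h.normal.conj_mem m hm a, by simp only [φ, map_mul, map_inv]⟩
    obtain ⟨i, hi⟩ := hpow _ hmem
    refine ⟨i, fun k => ?_⟩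
    have hk : φ a * g ^ k * (φ a)⁻¹ = g ^ (i * k) := by rw [← conj_zpow, hi, ← zpow_mul]
    rw [← hk, Equiv.Perm.mul_apply, Equiv.Perm.mul_apply,
      Equiv.Perm.inv_eq_iff_eq.2 (show ω = φ a ω from ha.symm)]
    rfl
  refine fixes_dser_one fun a ha b hb x => ?_
  obtain ⟨_, hg', rfl⟩ := htr x
  obtain ⟨k, rfl⟩ := hpow _ hg'
  obtain ⟨i, hi⟩ := hconj a ha
  obtain ⟨j, hj⟩ := hconj b hb
  rw [hi, hj, hi, hj]
  congr 2
  ring

/-- No primitive solvable group has degree six. -/
theorem Prim.card_ne_six [Finite A] [Finite Ω] (hA : Group.IsSolvable A) (hp : Prim A Ω) :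
    Nat.card Ω ≠ 6 := by
  intro hΩ
  obtain ⟨x₀, y₀, hxy⟩ : ∃ x y : Ω, x ≠ y := by
    by_contra hall
    push Not at hall
    haveI : Subsingleton Ω := ⟨hall⟩
    have := Finite.card_le_one_iff_subsingleton.2 (inferInstance : Subsingleton Ω)
    omega
  obtain ⟨M, hM⟩ := hp.exists_regPart hA ⟨x₀, y₀, hxy⟩
  obtain ⟨R, hR, hRc, hcard, htr, hreg⟩ := hM.exists_image x₀
  let φ := MulAction.toPermHom A Ω
  let R₂ : Subgroup (Equiv.Perm Ω) :=
    { carrier := {g | g ∈ R ∧ g * g = 1}
      one_mem' := ⟨one_mem _, mul_one _⟩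
      mul_mem' := by
        rintro g g' ⟨hg, e⟩ ⟨hg', e'⟩
        refine ⟨mul_mem hg hg', ?_⟩
        rw [show g * g' * (g * g') = g * (g' * g) * g' by group, hRc g' hg' g hg,
          show g * (g * g') * g' = g * g * (g' * g') by group, e, e', mul_one]
      inv_mem' := by
        rintro g ⟨hg, e⟩
        exact ⟨inv_mem hg, by rw [← mul_inv_rev, e, inv_one]⟩ }
  have hK : ∀ a : A, a • x₀ = x₀ → ∀ k ∈ M ⊓ R₂.comap φ, a * k * a⁻¹ ∈ M ⊓ R₂.comap φ := by
    rintro a - k ⟨hk, -, e⟩
    refine ⟨hM.normal.conj_mem k hk a, hR.symm ▸ ⟨_, hM.normal.conj_mem k hk a, rfl⟩, ?_⟩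
    rw [← map_mul, show a * k * a⁻¹ * (a * k * a⁻¹) = a * (k * k) * a⁻¹ by group, map_mul, map_mul,
      map_inv, map_mul φ k k, show φ k * φ k = 1 from e, mul_one, mul_inv_cancel]
  haveI : Finite R := inferInstance
  rcases hM.sub_cases hp inf_le_left hK with hfix | htrans
  · haveI : Fact (Nat.Prime 2) := ⟨Nat.prime_two⟩
    obtain ⟨g, hg⟩ := exists_prime_orderOf_dvd_card' (G := R) 2 (by rw [hcard, hΩ]; norm_num)
    have hgg : (g : Equiv.Perm Ω) * g = 1 := by
      rw [← pow_two, ← Subgroup.coe_pow, ← hg, pow_orderOf_eq_one]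
      rfl
    obtain ⟨g, hgR⟩ := g
    have hgR' := hgR
    rw [hR] at hgR'
    obtain ⟨m, hm, rfl⟩ := hgR'
    have h1 : (⟨φ m, hgR⟩ : R) = 1 :=
      Subtype.ext (Equiv.ext fun x => hfix m ⟨hm, hgR, hgg⟩ x)
    rw [h1, orderOf_one] at hg
    omega
  · haveI : Fact (Nat.Prime 3) := ⟨Nat.prime_three⟩
    obtain ⟨⟨g, hgR⟩, hg⟩ := exists_prime_orderOf_dvd_card' (G := R) 3 (by rw [hcard, hΩ]; norm_num)
    obtain ⟨k, ⟨-, hkR, hkk⟩, hkx⟩ := htrans x₀ (g x₀)
    have hgk : g = φ k := by
      refine inv_mul_eq_one.1 (hreg _ (mul_mem (inv_mem hgR) hkR) ?_)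
      rw [Equiv.Perm.mul_apply, show φ k x₀ = g x₀ from hkx, Equiv.Perm.inv_def, Equiv.symm_apply_apply]
    rw [Subgroup.orderOf_mk] at hg
    have h2 : g ^ 2 = 1 := by rw [pow_two, hgk]; exact hkk
    have := orderOf_dvd_of_pow_eq_one h2
    rw [hg] at this
    norm_num at this

/-- The bound on the derived length for few points. -/
def bnd (n : ℕ) : ℕ := if n ≤ 1 then 0 else if n = 2 then 1 else if n = 3 then 2 else 3

theorem mem_dser_sub {T : Subgroup A} {k : ℕ} {a : A} (ha : a ∈ dser T k) :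
    ∃ b : T, b ∈ dser (⊤ : Subgroup T) k ∧ (b : A) = a := by
  have e : (dser (⊤ : Subgroup T) k).map T.subtype = dser T k := by
    rw [dser_map, ← MonoidHom.range_eq_map, T.range_subtype]
  rw [← e] at ha
  obtain ⟨b, hb, rfl⟩ := ha
  exact ⟨b, hb, rfl⟩

/-- Derived length of solvable actions on at most seven points. -/
theorem fixes_small : ∀ n ≤ 7, ∀ (A : Type u) (Ω : Type v) [Group A] [Finite A] [Finite Ω] [MulAction A Ω],
    Group.IsSolvable A → Nat.card Ω = n → Fixes (dser (⊤ : Subgroup A) (bnd n)) Ω := by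
  intro n
  induction n using Nat.strong_induction_on with
  | _ n ih =>
  intro hn7 A Ω _ _ _ _ hA hΩ
  classical
  have hmono : ∀ {i j : ℕ}, i ≤ j → bnd i ≤ bnd j := fun {i j} hij => by
    unfold bnd
    split_ifs <;> omega
  rcases Nat.lt_or_ge 1 n with hn1 | hn1
  swap
  · haveI : Subsingleton Ω := Finite.card_le_one_iff_subsingleton.1 (by omega)
    exact fun a _ x => Subsingleton.elim _ _
  haveI := hA
  by_cases htr : ∀ x y : Ω, ∃ a : A, a • x = y
  swap
  · push Not at htr
    obtain ⟨ω, z, hz⟩ := htr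
    have hlt : ∀ (P : SubMulAction A Ω), (∃ y, y ∉ P) → Fixes (dser (⊤ : Subgroup A) (bnd n)) P := by
      rintro P ⟨y, hy⟩
      have hc : Nat.card P < n := hΩ ▸ Finite.card_subtype_lt (x := y) hy
      exact (ih _ hc (by omega) A P hA rfl).mono (dser_anti _ (hmono hc.le))
    let P : SubMulAction A Ω :=
      { carrier := orbit A ω, smul_mem' := fun a x hx => mem_orbit_of_mem_orbit a hx }
    let P' : SubMulAction A Ω :=
      { carrier := {x | x ∉ P}
        smul_mem' := fun a x hx h => hx ((P.smul_mem_iff' (g := a)).1 h) }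
    intro a ha x
    by_cases hx : x ∈ P
    · exact congrArg Subtype.val (hlt P ⟨z, fun ⟨b, hb⟩ => hz b hb⟩ a ha ⟨x, hx⟩)
    · exact congrArg Subtype.val (hlt P' ⟨ω, fun h => h (mem_orbit_self ω)⟩ a ha ⟨x, hx⟩)
  by_cases hprim : ∀ r : Setoid Ω, Stable A r → (∀ x y, r.r x y → x = y) ∨ ∀ x y, r.r x y
  · have hp : Prim A Ω := ⟨htr, hprim⟩
    haveI : Nontrivial Ω := Finite.one_lt_card_iff_nontrivial.1 (by omega)
    obtain ⟨M, hM⟩ := hp.exists_regPart hA (exists_pair_ne Ω)
    obtain ⟨ω, -⟩ := exists_pair_ne Ω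
    have h6 := hΩ ▸ hp.card_ne_six hA
    by_cases h4 : n ≤ 4
    · refine (hM.fixes_succ (ω := ω) (k := bnd (n - 1)) ?_).mono (dser_anti _ ?_)
      · let X : SubMulAction (stabilizer A ω) Ω :=
          { carrier := {x | x ≠ ω}
            smul_mem' := fun a x hx he => hx (smul_left_cancel (a : A) (he.trans a.2.symm)) }
        have hX : Nat.card X = n - 1 := by
          show Nat.card ({x : Ω | x ≠ ω} : Set Ω) = n - 1
          rw [Nat.card_coe_set_eq, show {x : Ω | x ≠ ω} = ({ω} : Set Ω)ᶜ from rfl, Set.ncard_compl,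
            Set.ncard_singleton, hΩ]
        have hfix := ih (n - 1) (by omega) (by omega) (stabilizer A ω) X inferInstance hX
        intro a ha x
        obtain ⟨a, hb, rfl⟩ := mem_dser_sub ha
        by_cases hx : x = ω
        · subst hx
          exact a.2
        · exact congrArg Subtype.val (hfix a hb ⟨x, hx⟩)
      · unfold bnd
        split_ifs <;> omega
    · have hpn : n.Prime := by
        rcases (show n = 5 ∨ n = 7 by omega) with rfl | rfl <;> norm_num
      refine (hM.fixes_succ (hM.fixes_prime hpn hΩ ω)).mono (dser_anti _ ?_)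
      unfold bnd
      split_ifs <;> omega
  push Not at hprim
  obtain ⟨r, hr, ⟨x₁, y₁, hr1, hne1⟩, x₂, y₂, hr2⟩ := hprim
  let Q := Quotient r
  letI : MulAction A Q :=
    { smul := fun a => Quotient.map (fun x => a • x) fun x y h => hr a x y h
      one_smul := fun i => Quotient.inductionOn i fun x => congrArg (Quotient.mk _) (one_smul A x)
      mul_smul := fun a b i => Quotient.inductionOn i fun x => congrArg (Quotient.mk _) (mul_smul a b x) }
  haveI : Finite Q := Quotient.finite _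
  let B : Q → Set Ω := fun q => {x | Quotient.mk r x = q}
  have hBeq : ∀ q q' : Q, Nat.card (B q) ≤ Nat.card (B q') := by
    intro q q'
    induction q using Quotient.inductionOn with
    | h x =>
    induction q' using Quotient.inductionOn with
    | h y =>
    obtain ⟨a, rfl⟩ := htr x y
    refine Nat.card_le_card_of_injective (fun z => (⟨a • z.1, ?_⟩ : B _))
      fun z w e => Subtype.ext (smul_left_cancel a (congrArg Subtype.val e))
    exact congrArg (fun i : Q => a • i) z.2
  have hcardsum : n = Nat.card Q * Nat.card (B (Quotient.mk r x₁)) := by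
    haveI := Fintype.ofFinite Q
    rw [← hΩ, Nat.card_congr (Equiv.sigmaFiberEquiv (Quotient.mk r)).symm, Nat.card_sigma,
      Finset.sum_congr rfl (fun q _ => (show Nat.card {x // Quotient.mk r x = q} = Nat.card (B (Quotient.mk r x₁)) from
        le_antisymm (hBeq q (Quotient.mk r x₁)) (hBeq _ q))),
      Finset.sum_const, smul_eq_mul, Finset.card_univ, Nat.card_eq_fintype_card (α := Q)]
  have hQ2 : 1 < Nat.card Q := Finite.one_lt_card_iff_nontrivial.2
    ⟨⟨Quotient.mk r x₂, Quotient.mk r y₂, fun e => hr2 (Quotient.exact e)⟩⟩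
  have hB2 : 1 < Nat.card (B (Quotient.mk r x₁)) := Finite.one_lt_card_iff_nontrivial.2
    ⟨⟨⟨x₁, rfl⟩, ⟨y₁, Quotient.sound (r.iseqv.symm hr1)⟩, fun e => hne1 (congrArg Subtype.val e)⟩⟩
  set b := Nat.card (B (Quotient.mk r x₁)) with hb
  set c := Nat.card Q with hc
  have hcn : c < n := by nlinarith
  have hbn : b < n := by nlinarith
  have htop := ih c hcn (by omega) A Q hA rfl
  let T := dser (⊤ : Subgroup A) (bnd c)
  refine Fixes.mono ?_ (dser_anti _ (show bnd c + bnd b ≤ bnd n by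
    have hc6 : c ≤ 3 := by nlinarith
    have hb6 : b ≤ 3 := by nlinarith
    interval_cases c <;> interval_cases b <;> simp [hcardsum, bnd] at * ))
  rw [dser_add]
  intro a ha x
  let X : SubMulAction T Ω :=
    { carrier := {y | Quotient.mk r y = Quotient.mk r x}
      smul_mem' := fun t y hy => by
        show Quotient.mk r ((t : A) • y) = Quotient.mk r x
        exact ((htop t t.2 (Quotient.mk r y)).trans hy : (t : A) • (Quotient.mk r y) = _) }
  have hXc : Nat.card X = b := le_antisymm (hBeq _ _) (hBeq (Quotient.mk r x₁) (Quotient.mk r x))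
  have hfix := ih b hbn (by omega) T X inferInstance hXc
  obtain ⟨a, hb', rfl⟩ := mem_dser_sub ha
  exact congrArg Subtype.val (hfix a hb' ⟨x, rfl⟩)

end CfsgLib.Perm.DlNine
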